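/- Solvable signalizer functors: small counting tools. -/
import Cfsg.Agent.FT.BG03a
import Cfsg.Agent.Lib.Transfer.AbelianSylow
import Cfsg.Agent.Lib.Core.Balance
import Cfsg.Agent.Lib.ZJ.SL2Free
import Cfsg.Agent.S2004

set_option autoImplicit false
set_option linter.style.haveILetI false

namespace Cfsg.Agent.Sig

open Subgroup Cfsg.Agent.Lib.Core Cfsg.Agent.FT
open scoped Cfsg.Agent.Lib.Glaub commutatorElement

universe u

variable {G : Type*} [Group G] [Finite G]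

theorem relIndex_modEq {p : ℕ} [hp : Fact p.Prime] {A K Y : Subgroup G} (hA : IsPGroup p A)
    (hK : K ≤ Y) (hAK : A ≤ 𝐍(K)) (hAY : A ≤ 𝐍(Y)) (hY : ¬ p ∣ Nat.card K)
    (h : Y ⊓ 𝐂(A) ≤ K) : K.relIndex Y ≡ 1 [MOD p] := by
  have h1 := Lib.Transfer.card_modEq_card_inf_centralizer hA hAK
  have h2 := Lib.Transfer.card_modEq_card_inf_centralizer hA hAY
  have e : Y ⊓ 𝐂(A) = K ⊓ 𝐂(A) := le_antisymm (le_inf h inf_le_right) (inf_le_inf_right _ hK)
  rw [e, ← card_mul_relIndex hK] at h2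
  have h3 : Nat.card K * K.relIndex Y ≡ Nat.card K * 1 [MOD p] := by
    rw [mul_one]; exact h2.trans h1.symm
  exact Nat.ModEq.cancel_left_of_coprime
    (((Nat.Prime.coprime_iff_not_dvd hp.out).mpr hY)) h3

theorem card_modEq_one {p : ℕ} [hp : Fact p.Prime] {A Y : Subgroup G} (hA : IsPGroup p A)
    (hAY : A ≤ 𝐍(Y)) (h : Y ⊓ 𝐂(A) = ⊥) : Nat.card Y ≡ 1 [MOD p] := by
  have h2 := Lib.Transfer.card_modEq_card_inf_centralizer hA hAY
  rwa [h, card_bot] at h2

theorem succ_le_of_modEq {n s : ℕ} (h : n ≡ 1 [MOD s]) (h1 : 1 < n) : s + 1 ≤ n := by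
  have := (Nat.modEq_iff_dvd' h1.le).mp h.symm
  have := Nat.le_of_dvd (by omega) this
  omega

theorem relIndex_C1_lt {C W : Subgroup G} (hC : C ≤ 𝐍(W)) {w : G} (hw : w ∈ W) (h1 : w ≠ 1) :
    (C1 w).relIndex C < Nat.card W := by
  classical
  let φ : C ⧸ (C1 w).subgroupOf C → {x : W // x ≠ 1} := fun q =>
    ⟨⟨(q.out : G) * w * (q.out : G)⁻¹, conj_mem_of_mem_normalizer (hC q.out.2) hw⟩, by
      intro h
      exact conj_ne_one.mpr h1 (congrArg Subtype.val h)⟩
  have hφ : Function.Injective φ := by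
    intro a b h
    have e : (a.out : G) * w * (a.out : G)⁻¹ = (b.out : G) * w * (b.out : G)⁻¹ :=
      congrArg (fun x : {x : W // x ≠ 1} => (x.1 : G)) h
    rw [← Quotient.out_eq a, ← Quotient.out_eq b]
    refine QuotientGroup.eq.mpr ?_
    rw [mem_subgroupOf, mem_C1]
    push_cast
    calc (a.out : G)⁻¹ * b.out * w = (a.out : G)⁻¹ * (b.out * w * (b.out : G)⁻¹) * b.out := by group
      _ = (a.out : G)⁻¹ * (a.out * w * (a.out : G)⁻¹) * b.out := by rw [e]
      _ = _ := by group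
  have h2 := Nat.card_le_card_of_injective φ hφ
  have h3 : Nat.card {x : W // x ≠ 1} < Nat.card W :=
    Finite.card_subtype_lt (x := 1) (by simp)
  exact lt_of_le_of_lt h2 h3

theorem PhiOf_le_of_relIndex_le {s : ℕ} [hs : Fact s.Prime] {P K : Subgroup G}
    (hP : IsPGroup s P) (h : K.relIndex P ≤ s) : PhiOf P ≤ K := by
  by_cases hPK : P ≤ K
  · exact (PhiOf_le P).trans hPK
  have h1 := Nat.le_of_dvd (relIndex_pos _ _) (dvd_relIndex_of_isPGroup hP hPK)
  have h2 : (K ⊓ P).relIndex P = s := by rw [inf_relIndex_right]; omega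
  exact (maxIn_of_prime_relIndex inf_le_right (h2 ▸ hs.out)).PhiOf_le.trans inf_le_left

omit [Finite G] in
theorem relIndex_C1_conj {W : Subgroup G} {g : G} (hg : g ∈ 𝐍(W)) (e : G) :
    (C1 (g * e * g⁻¹)).relIndex W = (C1 e).relIndex W := by
  rw [← cj_C1, ← relIndex_cj (C1 e) W g, cj_eq_of_mem_norm hg]

theorem relIndex_C1_comm_le {W : Subgroup G} {g : G} (hg : g ∈ 𝐍(W)) (e : G) :
    (C1 ⁅g, e⁆).relIndex W ≤ (C1 e).relIndex W ^ 2 := by
  have h1 : C1 (g * e * g⁻¹) ⊓ C1 e ≤ C1 ⁅g, e⁆ := by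
    intro x hx
    rw [mem_C1_iff_commute, commutatorElement_def]
    exact (mem_C1_iff_commute.mp hx.1).mul_right (mem_C1_iff_commute.mp hx.2).inv_right
  calc _ ≤ (C1 (g * e * g⁻¹) ⊓ C1 e).relIndex W :=
        relIndex_le_of_le_left h1 (relIndex_ne_zero _ _)
    _ ≤ _ := relIndex_inf_le
    _ = _ := by rw [relIndex_C1_conj hg, sq]

theorem DP.relIndex_C1 {W U V : Subgroup G} (h : DP W U V) {e : G} (hW : e ∈ 𝐍(W))
    (hU : e ∈ 𝐍(U)) : (C1 e).relIndex V = (C1 e).relIndex W * (C1 e).relIndex U := by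
  have h1 := (h.inf_cent (zpowers_le.mpr hW) (zpowers_le.mpr hU)).card
  rw [cent_zpowers] at h1
  have h2 := h.card
  rw [← card_inf_mul_relIndex (C1 e) W, ← card_inf_mul_relIndex (C1 e) U,
    ← card_inf_mul_relIndex (C1 e) V, inf_comm _ V, ← h1, inf_comm _ W, inf_comm _ U] at h2
  have h3 := Nat.mul_pos (FT.card_pos (W ⊓ C1 e)) (FT.card_pos (U ⊓ C1 e))
  apply Nat.eq_of_mul_eq_mul_left h3
  rw [← h2]; ring

theorem card_mul_le_of_inf {A B M : Subgroup G} (hA : A ≤ M) (hB : B ≤ M) (hn : A ≤ 𝐍(B))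
    (h : A ⊓ B = ⊥) : Nat.card A * Nat.card B ≤ Nat.card M := by
  have h1 := card_sup_mul_card_inf hn
  rw [h, card_bot, mul_one] at h1
  rw [← h1]
  exact card_le_of_le (sup_le hA hB)

/-- the product of a class of commuting conjugates -/
theorem exists_orbit_prod {A N : Subgroup G} (hA : A ≤ 𝐍(N)) {y : G} (hy : y ∈ N)
    (hc : ∀ a ∈ A, Commute y (a * y * a⁻¹)) :
    ∃ z ∈ N ⊓ 𝐂(A), ∀ K : Subgroup G, (∀ a ∈ A, a * y * a⁻¹ = y ∨ a * y * a⁻¹ ∈ K) →
      y⁻¹ * z ∈ K := by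
  classical
  have hfin : {x : G | ∃ a ∈ A, a * y * a⁻¹ = x}.Finite := Set.toFinite _
  set S := hfin.toFinset with hS
  have hmem : ∀ x, x ∈ S ↔ ∃ a ∈ A, a * y * a⁻¹ = x := fun x => by simp [hS]
  have hcomm : (S : Set G).Pairwise (Function.onFun Commute id) := by
    intro x hx x' hx' _
    obtain ⟨a, ha, rfl⟩ := (hmem x).mp hx
    obtain ⟨b, hb, rfl⟩ := (hmem x').mp hx'
    have := (hc _ (mul_mem (inv_mem ha) hb)).map (MulAut.conj a)
    simp only [Function.onFun, id, MulAut.conj_apply] at this ⊢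
    convert this using 1
    group
  have hyS : y ∈ S := (hmem y).mpr ⟨1, one_mem _, by simp⟩
  refine ⟨S.noncommProd id hcomm, ⟨?_, ?_⟩, ?_⟩
  · refine Subgroup.noncommProd_mem _ _ fun x hx => ?_
    obtain ⟨a, ha, rfl⟩ := (hmem x).mp hx
    exact conj_mem_of_mem_normalizer (hA ha) hy
  · refine mem_cent_iff.mpr fun b hb => ?_
    have h1 := Finset.map_noncommProd S id hcomm (MulAut.conj b).toMonoidHom
    have h2 : S.noncommProd (fun i => (MulAut.conj b).toMonoidHom (id i))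
        (fun _ hx _ hy h => (hcomm hx hy h).map _) = S.noncommProd id hcomm := by
      have hS' : S.map (MulAut.conj b).toEquiv.toEmbedding = S := by
        apply Finset.eq_of_subset_of_card_le
        · intro x hx
          obtain ⟨x', hx', rfl⟩ := Finset.mem_map.mp hx
          obtain ⟨a, ha, rfl⟩ := (hmem x').mp hx'
          exact (hmem _).mpr ⟨b * a, mul_mem hb ha, by simp; group⟩
        · simp
      have key : ∀ (T : Finset G) (hT : (T : Set G).Pairwise (Function.onFun Commute id))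
          (e : S.map (MulAut.conj b).toEquiv.toEmbedding = T),
          S.noncommProd (fun i => (MulAut.conj b).toMonoidHom (id i))
            (fun _ hx _ hy h => (hcomm hx hy h).map _) = T.noncommProd id hT := by
        intro T hT e
        subst e
        simp only [Finset.noncommProd, Finset.map_val, Multiset.map_map]
        congr 1
      exact key S hcomm hS'
    rw [h2] at h1
    simp only [MulEquiv.toMonoidHom_eq_coe, MonoidHom.coe_coe, MulAut.conj_apply] at h1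
    rw [mul_inv_eq_iff_eq_mul] at h1
    exact h1
  · intro K hK
    rw [← Finset.mul_noncommProd_erase S hyS id hcomm]
    simp only [id, inv_mul_cancel_left]
    refine Subgroup.noncommProd_mem _ _ fun x hx => ?_
    obtain ⟨hne, hx⟩ := Finset.mem_erase.mp hx
    obtain ⟨a, ha, rfl⟩ := (hmem x).mp hx
    exact (hK a ha).resolve_left hne

/-- commutation with a fixed element in a group of class two -/
theorem exists_commHom {Y : Subgroup G} (hY : ⁅Y, Y⁆ ≤ 𝐂(Y)) {y : G} (hy : y ∈ Y)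
    {B : Subgroup G} (hB : B ≤ Y) : ∃ f : B →* G, (∀ b : B, f b = ⁅(b : G), y⁆) ∧
      kerOf f = C1 y ⊓ B ∧ f.range ≤ ⁅Y, Y⁆ := by
  refine ⟨MonoidHom.mk' (fun b => ⁅(b : G), y⁆) fun a b => ?_, fun _ => rfl, ?_, ?_⟩
  · have h := mem_cent_iff.mp (hY (commutator_mem_commutator (hB b.2) hy)) a (hB a.2)
    have h' := mem_cent_iff.mp (hY (commutator_mem_commutator (hB b.2) hy)) _
      ((der_le Y) (commutator_mem_commutator (hB a.2) hy))
    rw [Subgroup.coe_mul, h', Lib.ZJ.commutatorElement_mul_left_of h]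
  · ext x
    constructor
    · intro hx
      have hxB := kerOf_le _ hx
      have := (mem_kerOf _ (x := ⟨x, hxB⟩)).mp hx
      exact ⟨mem_C1_iff_commute.mpr (commutatorElement_eq_one_iff_commute.mp this), hxB⟩
    · rintro ⟨h1, h2⟩
      exact (mem_kerOf _ (x := ⟨x, h2⟩)).mpr
        (commutatorElement_eq_one_iff_commute.mpr (mem_C1_iff_commute.mp h1))
  · rintro _ ⟨b, rfl⟩
    exact commutator_mem_commutator (hB b.2) hy

theorem relIndex_C1_dvd {Y : Subgroup G} (hY : ⁅Y, Y⁆ ≤ 𝐂(Y)) {y : G} (hy : y ∈ Y)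
    {B : Subgroup G} (hB : B ≤ Y) : (C1 y).relIndex B ∣ Nat.card ↥⁅Y, Y⁆ := by
  obtain ⟨f, -, h2, h3⟩ := exists_commHom hY hy hB
  rw [← inf_relIndex_right, ← h2, relIndex_kerOf_eq_card_range]
  exact card_dvd_of_le h3

theorem exists_conj_eq_mul {Y : Subgroup G} (hY : ⁅Y, Y⁆ ≤ 𝐂(Y))
    (hp : (Nat.card ↥⁅Y, Y⁆).Prime) {y : G} (hy : y ∈ Y) (hyZ : y ∉ 𝐂(Y)) {z : G}
    (hz : z ∈ ⁅Y, Y⁆) : ∃ x ∈ Y, x * y * x⁻¹ = z * y := by
  obtain ⟨f, h1, h2, h3⟩ := exists_commHom hY hy le_rfl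
  have hne : f.range ≠ ⊥ := by
    intro h
    apply hyZ
    refine mem_cent_iff.mpr fun x hx => ?_
    have : f ⟨x, hx⟩ ∈ f.range := ⟨_, rfl⟩
    rw [h, mem_bot, h1] at this
    exact commutatorElement_eq_one_iff_commute.mp this
  rw [← eq_of_le_of_card_prime hp h3 hne] at hz
  obtain ⟨x, rfl⟩ := hz
  exact ⟨x, x.2, by rw [h1, commutatorElement_def]; group⟩

/-- quadratic elements, by `t`-stability -/
theorem quad_stable {t : ℕ} [ht : Fact t.Prime] (ht2 : t ≠ 2) {L B : Subgroup G}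
    (hL : Group.IsSolvable L) (h3 : t = 3 → ¬ 2 ∣ Nat.card L) (hB : B ⊲ L) (hBt : IsPGroup t B)
    {g : G} (hg : g ∈ L) (hq : ⁅B, zpowers g⁆ ≤ C1 g) :
    ∃ R, R ⊲ L ∧ g ∈ R ∧ ∀ x ∈ R, (orderOf x).Coprime t → x ∈ 𝐂(B) := by
  have h3' : t = 3 → ∀ T : Sylow 2 L, IsMulCommutative T := by
    intro h T
    have : (T : Subgroup L) = ⊥ :=
      eq_bot_of_isPGroup_of_not_dvd T.2 fun hd => h3 h (hd.trans (card_subgroup_dvd_card _))
    exact isComm_of_le isComm_bot this.le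
  have hst := Lib.Glaub.pStable_of_isSec (Cfsg.Agent.S2004.result (G := L) ht2 fun Q _ _ h =>
    Lib.ZJ.not_isSec_SL2_of_isSolvable ht2 hL h3'
      ((Lib.Glaub.involves_iff_isSec.mp h).trans (Lib.Glaub.IsSec.subgroup _)))
    Lib.Glaub.IsSec.refl
  obtain ⟨R, hR, hgR, h⟩ := Lib.ZJ.nStable_of_pStable hst (B.subgroupOf L) hB.normal_subgroupOf
    (isPGroup_subgroupOf hBt) ⟨g, hg⟩ (by
      have e : zpowers (⟨g, hg⟩ : L) = (zpowers g).subgroupOf L := by
        apply map_injective L.subtype_injective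
        rw [MonoidHom.map_zpowers, map_subtype_subgroupOf (zpowers_le.mpr hg)]; rfl
      rw [e, ← subgroupOf_commutator hB.le (zpowers_le.mpr hg), ← subgroupOf_commutator
        (comm_le_of_le hB.le (zpowers_le.mpr hg)) (zpowers_le.mpr hg),
        comm_eq_bot_iff.mpr (by rwa [cent_zpowers]), bot_subgroupOf])
  refine ⟨R.map L.subtype, nrm_map_subtype R, ⟨_, hgR, rfl⟩, ?_⟩
  rintro _ ⟨x, hx, rfl⟩ hc
  have := h x hx (by simpa using hc)
  rw [← subgroupOf_centralizer_eq hB.le] at this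
  exact this

end Cfsg.Agent.Sig
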