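/- Solvable signalizer functors: components of a coprime module for an elementary abelian group. -/
import Cfsg.Agent.Lib.Sig.Tools

set_option autoImplicit false
set_option linter.style.haveILetI false

namespace Cfsg.Agent.Sig

open Subgroup Cfsg.Agent.Lib.Core Cfsg.Agent.FT
open scoped Cfsg.Agent.Lib.Glaub commutatorElement

variable {G : Type*} [Group G] [Finite G]

/-- the component of `[V,B]` with kernel `K` -/
abbrev Wc (V B K : Subgroup G) : Subgroup G := ⁅V, B⁆ ⊓ 𝐂(K)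

/-- its complement -/
abbrev Uc (V B K : Subgroup G) : Subgroup G := ⁅V, K⁆ ⊔ (V ⊓ 𝐂(B))

structure Ker (s : ℕ) (V B K : Subgroup G) : Prop where
  le : K ≤ B
  idx : K.relIndex B = s
  ne : Wc V B K ≠ ⊥

structure CS (s t : ℕ) (V B : Subgroup G) : Prop where
  hV : IsElementaryAbelian t V
  hB : IsElementaryAbelian s B
  ne : s ≠ t
  norm : B ≤ 𝐍(V)

variable {s t : ℕ} [hs : Fact s.Prime] [ht : Fact t.Prime] {V B K K' T : Subgroup G}

theorem coprime_of_pgroups {A B : Subgroup G} (hA : IsPGroup s A) (hB : IsPGroup t B)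
    (h : s ≠ t) : (Nat.card A).Coprime (Nat.card B) :=
  coprime_card_of_isPGroup hA (not_dvd_card_of_isPGroup hB h)

omit [Finite G] hs ht in
theorem Ker.cj (h : Ker s V B K) {g : G} (hV : g ∈ 𝐍(V)) (hB : g ∈ 𝐍(B)) :
    Ker s V B cj(g, K) := by
  refine ⟨cj_le_of_le h.le hB, ?_, ?_⟩
  · rw [← h.idx, ← relIndex_cj K B g, cj_eq_of_mem_norm hB]
  · have := (cj_ne_bot (g := g)).mpr h.ne
    rwa [cj_inf, cj_comm, cj_cent, cj_eq_of_mem_norm hV, cj_eq_of_mem_norm hB] at this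

omit [Finite G] ht in
theorem Ker.sup_eq (h : Ker s V B K) (hT : T ≤ B) (hTK : ¬ T ≤ K) : K ⊔ T = B :=
  (maxIn_of_prime_relIndex h.le (h.idx ▸ hs.out)).sup_eq hTK hT

omit ht in
theorem Ker.not_le (h : Ker s V B K) (h' : Ker s V B K') (hne : K ≠ K') : ¬ K ≤ K' := by
  intro hle
  apply hne
  apply eq_of_le_of_card_eq hle
  have h1 := card_mul_relIndex h.le
  have h2 := card_mul_relIndex h'.le
  rw [h.idx] at h1
  rw [h'.idx, ← h1] at h2
  exact (Nat.eq_of_mul_eq_mul_right hs.out.pos h2).symm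

namespace CS

theorem cop (c : CS s t V B) (hT : T ≤ B) {W : Subgroup G} (hW : W ≤ V) :
    (Nat.card W).Coprime (Nat.card T) :=
  coprime_mono (coprime_of_pgroups (abelem_isPGroup c.hV) (abelem_isPGroup c.hB) c.ne.symm) hW hT

omit [Finite G] hs ht in
theorem comm_le (c : CS s t V B) (hT : T ≤ B) : ⁅V, T⁆ ≤ V := comm_le_left (hT.trans c.norm)

omit [Finite G] hs ht in
theorem Wc_le (c : CS s t V B) : Wc V B K ≤ V := inf_le_left.trans (c.comm_le le_rfl)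

omit [Finite G] hs ht in
theorem Uc_le (c : CS s t V B) (hK : K ≤ B) : Uc V B K ≤ V := sup_le (c.comm_le hK) inf_le_left

theorem TI (c : CS s t V B) (hT : T ≤ B) : ⁅V, T⁆ ⊓ 𝐂(T) = ⊥ :=
  coprime_abel_cent_TI (hT.trans c.norm) (c.cop hT le_rfl) c.hV.1

omit [Finite G] hs ht in
theorem norm_Wc (c : CS s t V B) (hK : K ≤ B) : B ≤ 𝐍(Wc V B K) :=
  le_normalizer_inf (right_le_norm_comm _ _)
    (le_normalizer_centralizer (le_norm_of_isComm c.hB.1 le_rfl hK))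

theorem Wc_inf (c : CS s t V B) : Wc V B K ⊓ 𝐂(B) = ⊥ :=
  eq_bot_iff.mpr ((inf_le_inf_right _ inf_le_left).trans (c.TI le_rfl).le)

theorem gen (c : CS s t V B) {X : Subgroup G} (h : ∀ K, Ker s V B K → Wc V B K ≤ X) :
    ⁅V, B⁆ ≤ X := by
  refine coprime_abelian_gen_cent c.hB.1 (right_le_norm_comm _ _) (c.cop le_rfl (c.comm_le le_rfl))
    fun K hK hc => ?_
  by_cases h0 : Wc V B K = ⊥
  · exact h0.le.trans bot_le
  refine h K ⟨hK, ?_, h0⟩
  have h1 := IsCocyclic.card_le (isCocyclic_iff.mpr ⟨hK, hc⟩) c.hB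
  have h2 : ¬ B ≤ K := fun hle => h0 (by
    rw [le_antisymm hK hle]; exact c.TI le_rfl)
  have h3 := Nat.le_of_dvd (relIndex_pos _ _) (dvd_relIndex_of_isPGroup (abelem_isPGroup c.hB) h2)
  rw [← card_mul_relIndex hK, mul_comm s] at h1
  exact le_antisymm (Nat.le_of_mul_le_mul_left h1 (FT.card_pos K)) h3

theorem Wc_le_comm (c : CS s t V B) (h : Ker s V B K) (hT : T ≤ B) (hTK : ¬ T ≤ K) :
    Wc V B K ≤ ⁅V, T⁆ := by
  have h1 := (coprime_abelian_cent_dprod (hT.trans (c.norm_Wc h.le)) (c.cop hT c.Wc_le)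
    (isComm_of_le c.hV.1 c.Wc_le)).sup
  have h2 : Wc V B K ⊓ 𝐂(T) = ⊥ := by
    rw [eq_bot_iff, ← c.Wc_inf (K := K)]
    refine le_inf inf_le_left ?_
    rw [← h.sup_eq hT hTK]
    exact le_centralizer_sup (inf_le_left.trans inf_le_right) inf_le_right
  rw [h2, sup_bot_eq] at h1
  rw [← h1]
  exact commutator_mono c.Wc_le le_rfl

theorem Wc_inf_comm (c : CS s t V B) (hK : K ≤ B) : Wc V B K ⊓ ⁅V, K⁆ = ⊥ :=
  eq_bot_iff.mpr ((le_inf inf_le_right (inf_le_left.trans inf_le_right)).trans (c.TI hK).le)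

theorem card_Wc (c : CS s t V B) (h : Ker s V B K) : s + 1 ≤ Nat.card (Wc V B K) :=
  succ_le_of_modEq (card_modEq_one (abelem_isPGroup c.hB) (c.norm_Wc h.le) c.Wc_inf)
    (one_lt_card_iff.mpr h.ne)

theorem dp (c : CS s t V B) (hK : K ≤ B) : DP (Wc V B K) (Uc V B K) V := by
  refine ⟨le_cent_of_isComm c.hV.1 (c.Uc_le hK) c.Wc_le, ?_, ?_⟩
  · rw [eq_bot_iff]
    rintro x ⟨hx, hx'⟩
    obtain ⟨a, ha, b, hb, rfl⟩ := (mem_sup_of_le_normalizer_left
      (le_norm_of_isComm c.hV.1 inf_le_left (c.comm_le hK))).mp hx'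
    have h1 : a ∈ 𝐂(K) := by
      have hx2 : a * b ∈ 𝐂(K) := hx.2
      have := mul_mem hx2 (inv_mem (cent_anti hK hb.2))
      simpa using this
    have h2 : a = 1 := mem_bot.mp ((c.TI hK).le ⟨ha, h1⟩)
    subst h2
    exact (c.TI le_rfl).le ⟨hx.1, by simpa using hb.2⟩
  · refine le_antisymm (sup_le c.Wc_le (c.Uc_le hK)) ?_
    have h1 := (coprime_abelian_cent_dprod (hK.trans c.norm) (c.cop hK le_rfl) c.hV.1).sup
    have hn : B ≤ 𝐍(V ⊓ 𝐂(K)) := le_normalizer_inf c.norm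
      (le_normalizer_centralizer (le_norm_of_isComm c.hB.1 le_rfl hK))
    have h2 := (coprime_abelian_cent_dprod hn (c.cop le_rfl inf_le_left)
      (isComm_of_le c.hV.1 inf_le_left)).sup
    refine h1.ge.trans (sup_le (le_sup_left.trans le_sup_right) (h2.ge.trans (sup_le ?_ ?_)))
    · exact (le_inf (commutator_mono inf_le_left le_rfl)
        ((comm_le_left hn).trans inf_le_right)).trans le_sup_left
    · exact ((inf_le_inf_right _ inf_le_left).trans le_sup_right).trans le_sup_right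

theorem card_two (c : CS s t V B) (h : Ker s V B K) (h' : Ker s V B K') (hne : K ≠ K')
    (hT : T ≤ B) (h1 : ¬ T ≤ K) (h2 : ¬ T ≤ K') : (s + 1) * (s + 1) ≤ Nat.card ↥⁅V, T⁆ := by
  refine (Nat.mul_le_mul (c.card_Wc h) (c.card_Wc h')).trans (card_mul_le_of_inf
    (c.Wc_le_comm h hT h1) (c.Wc_le_comm h' hT h2) (le_norm_of_isComm c.hV.1 c.Wc_le c.Wc_le) ?_)
  exact eq_bot_iff.mpr ((inf_le_inf_left _ (c.Wc_le_comm h' h.le (h.not_le h' hne))).trans
    (c.Wc_inf_comm h.le).le)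

theorem card_three {K'' : Subgroup G} (c : CS s t V B) (h : Ker s V B K) (h' : Ker s V B K')
    (h'' : Ker s V B K'') (hne : K ≠ K') (hne' : K ≠ K'') (hne'' : K' ≠ K'')
    (hT : T ≤ B) (h1 : ¬ T ≤ K) (h2 : ¬ T ≤ K') (h3 : ¬ T ≤ K'') :
    (s + 1) * ((s + 1) * (s + 1)) ≤ Nat.card ↥⁅V, T⁆ := by
  have e1 := card_mul_le_of_inf (le_sup_left : Wc V B K' ≤ Wc V B K' ⊔ Wc V B K'') le_sup_right
    (le_norm_of_isComm c.hV.1 c.Wc_le c.Wc_le) (eq_bot_iff.mpr ((inf_le_inf_left _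
      (c.Wc_le_comm h'' h'.le (h'.not_le h'' hne''))).trans (c.Wc_inf_comm h'.le).le))
  refine (Nat.mul_le_mul (c.card_Wc h) ((Nat.mul_le_mul (c.card_Wc h') (c.card_Wc h'')).trans
    e1)).trans (card_mul_le_of_inf (c.Wc_le_comm h hT h1)
      (sup_le (c.Wc_le_comm h' hT h2) (c.Wc_le_comm h'' hT h3))
      (le_norm_of_isComm c.hV.1 c.Wc_le (sup_le c.Wc_le c.Wc_le)) ?_)
  exact eq_bot_iff.mpr ((inf_le_inf_left _ (sup_le (c.Wc_le_comm h' h.le (h.not_le h' hne))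
    (c.Wc_le_comm h'' h.le (h.not_le h'' hne')))).trans (c.Wc_inf_comm h.le).le)

end CS

/-- Wielandt's formula for `T⟨e⟩` acting on `[V,T]`. -/
theorem wl (hst : s ≠ t) (hV : IsElementaryAbelian t V) (hT : IsPGroup s T) (hTV : T ≤ 𝐍(V))
    {e : G} (he : e ^ t = 1) (heV : e ∈ 𝐍(V)) (heT : e ∈ 𝐍(T)) (hC : T ⊓ C1 e = ⊥)
    (h1 : ¬ T ≤ 𝐂(V)) : ∃ k : ℕ, 1 ≤ k ∧ Nat.card ↥⁅V, T⁆ = (t ^ k) ^ t ∧
      (t ^ k) ^ (t - 1) ≤ (C1 e).relIndex V ∧ (t ^ k) ^ t ≡ 1 [MOD s] := by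
  have hT1 : T ≠ ⊥ := fun h => h1 (h ▸ bot_le)
  have he1 : e ≠ 1 := by
    rintro rfl
    exact hT1 (by simpa using hC)
  have hcard : Nat.card (zpowers e) = t := by rw [Nat.card_zpowers, orderOf_eq_of_pow_prime he he1]
  have hreg : SemiReg T (zpowers e) :=
    H6.semiReg_of_prime (hcard ▸ ht.out) (by rwa [cent_zpowers])
  have hF := H6.frob_sup hreg (zpowers_le.mpr heT) hT1 (FT.zpowers_ne_bot.mpr he1)
  have hW : ⁅V, T⁆ ≤ V := comm_le_left hTV
  have hcop := coprime_of_pgroups (abelem_isPGroup hV) hT hst.symm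
  have hTI := coprime_abel_cent_TI hTV hcop hV.1
  have h := H6.wielandt_abelem hF (abelem_of_le hV hW) (sup_le (right_le_norm_comm _ _)
    (le_normalizer_commutator (zpowers_le.mpr heV) (zpowers_le.mpr heT)))
    (not_dvd_card_of_isPGroup hT hst.symm)
  have h0 : ⁅V, T⁆ ⊓ 𝐂(T ⊔ zpowers e) = ⊥ :=
    eq_bot_iff.mpr ((inf_le_inf_left _ (cent_anti le_sup_left)).trans hTI.le)
  rw [h0, hTI, card_bot, one_pow, one_mul, mul_one, hcard, cent_zpowers] at h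
  obtain ⟨k, hk⟩ := exists_card_eq_pow ((abelem_isPGroup hV).to_le
    (inf_le_left.trans hW : ⁅V, T⁆ ⊓ C1 e ≤ V))
  rw [hk] at h
  have hne : ⁅V, T⁆ ≠ ⊥ := fun h' => h1 (comm_eq_bot_iff'.mp h')
  refine ⟨k, ?_, h, ?_, h ▸ card_modEq_one hT (right_le_norm_comm _ _) hTI⟩
  · rcases Nat.eq_zero_or_pos k with rfl | hk0
    · exact absurd (one_lt_card_iff.mpr hne) (by simp [h])
    · exact hk0
  · refine le_trans (le_of_eq ?_) (relIndex_le_of_le_right hW (relIndex_ne_zero _ _))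
    have h2 := card_inf_mul_relIndex (C1 e) ⁅V, T⁆
    rw [inf_comm, hk, h] at h2
    apply Nat.eq_of_mul_eq_mul_left (pow_pos ht.out.pos k)
    rw [h2, ← pow_succ']
    congr 1
    have := ht.out.pos
    omega

end Cfsg.Agent.Sig
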