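/- Solvable signalizer functors: small offenders, abelian case. -/
import Cfsg.Agent.Lib.Sig.Comp

set_option autoImplicit false
set_option linter.style.haveILetI false

namespace Cfsg.Agent.Sig

open Subgroup Cfsg.Agent.Lib.Core Cfsg.Agent.FT
open scoped Cfsg.Agent.Lib.Glaub commutatorElement

variable {G : Type*} [Group G] [Finite G]
variable {p s t : ℕ} [hp : Fact p.Prime] [hs : Fact s.Prime] [ht : Fact t.Prime]
  {V Y A Q : Subgroup G} {e : G}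

/-- the numerical cases -/
def Small (p s t n : ℕ) : Prop :=
  (t = 2 ∧ n ≤ 4) ∨ (t = 3 ∧ n ≤ 3) ∨ (t = 3 ∧ n ≤ 9 ∧ s ≠ 2 ∧ p ≠ 2)

theorem ff_fin (c : CS s t V Y) (hA : IsPGroup p A) (hps : p ≠ s) (hp1 : ¬ s ≡ 1 [MOD p])
    (hAY : A ≤ 𝐍(Y)) (hYA : Y ⊓ 𝐂(A) = ⊥) {K : Subgroup G} (hK : Ker s V Y K) {y : G}
    (hy : y ∈ Y) (hyK : y ∉ K) (h : ∀ a ∈ A, cj(a, K) ≠ K → y ∈ cj(a, K)) : False := by
  set D := Y ⊓ ⨅ a : {a : G // a ∈ A ∧ cj(a, K) ≠ K}, cj(a.1, K) with hD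
  have hmem : ∀ x, x ∈ D ↔ x ∈ Y ∧ ∀ a ∈ A, cj(a, K) ≠ K → x ∈ cj(a, K) := fun x => by
    rw [hD, mem_inf, mem_iInf]
    exact and_congr_right fun _ => ⟨fun h a ha hne => h ⟨a, ha, hne⟩, fun h a => h a.1 a.2.1 a.2.2⟩
  have hDY : D ≤ Y := inf_le_left
  have hn : A ⊓ 𝐍(K) ≤ 𝐍(D) := by
    intro b hb
    refine mem_normalizer_of_conj_mem fun x hx => (hmem _).mpr
      ⟨conj_mem_of_mem_normalizer (hAY hb.1) (hDY hx), fun a ha hne => ?_⟩
    have := ((hmem x).mp hx).2 (b⁻¹ * a) (mul_mem (inv_mem hb.1) ha) (by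
      intro h'
      apply hne
      rw [← cj_cj, cj_eq_iff_eq_cj_inv, inv_inv, cj_eq_of_mem_norm hb.2] at h'
      exact h')
    rw [← cj_cj, mem_cj] at this
    simpa using this
  have hyD : y ∈ D := (hmem y).mpr ⟨hy, h⟩
  have hYs := abelem_isPGroup c.hB
  have hidx : (K ⊓ D).relIndex D = s := by
    rw [inf_relIndex_right]
    have h1 : K.relIndex D ∣ s := hK.idx ▸ relIndex_dvd_relIndex_of_norm hDY
      (le_norm_of_isComm c.hB.1 hDY hK.le) (le_norm_of_isComm c.hB.1 le_rfl hK.le)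
    rcases (Nat.dvd_prime hs.out).mp h1 with h2 | h2
    · exact absurd (relIndex_eq_one.mp h2 hyD) hyK
    · exact h2
  have h1 : ¬ D ⊓ 𝐂((A ⊓ 𝐍(K) : Subgroup G)) ≤ K ⊓ D := fun hle => hp1 (hidx ▸
    relIndex_modEq (hA.to_le inf_le_left) inf_le_right (le_normalizer_inf inf_le_right hn) hn
      (not_dvd_card_of_isPGroup (hYs.to_le (inf_le_right.trans hDY)) hps) hle)
  obtain ⟨y', hy', hy'K⟩ := SetLike.not_le_iff_exists.mp h1
  obtain ⟨z, hz, hz'⟩ := exists_orbit_prod hAY (hDY hy'.1) fun a ha =>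
    mul_comm_of_isComm c.hB.1 (hDY hy'.1) (conj_mem_of_mem_normalizer (hAY ha) (hDY hy'.1))
  rw [hYA, mem_bot] at hz
  have := hz' K fun a ha => by
    by_cases haK : a ∈ 𝐍(K)
    · left
      rw [mem_cent_iff.mp hy'.2 a ⟨ha, haK⟩]; group
    · right
      have := ((hmem y').mp hy'.1).2 a⁻¹ (inv_mem ha) fun h' => haK (by
        simpa using inv_mem (cj_eq_iff.mp h'))
      rwa [mem_cj, inv_inv] at this
  rw [hz, mul_one, inv_mem_iff] at this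
  exact hy'K ⟨this, hy'.1⟩

omit hp hs ht in
theorem comm_zpowers_zpowers_le {K : Subgroup G} {x y : G} (hx : x ∈ 𝐍(K)) (hy : y ∈ 𝐍(K))
    (h : ⁅x, y⁆ ∈ K) : ⁅zpowers x, zpowers y⁆ ≤ K := by
  obtain ⟨Q, _, _, f, -, hk, -⟩ := (Nrm.normalizer K).exists_bar
  have h1 : f ⟨⁅x, y⁆, H6.comm_mem (le_normalizer hy) hx⟩ = 1 :=
    (mem_kerOf f).mp (by rw [hk]; exact h)
  have h2 := (bar_le_centralizer_iff f (zpowers_le.mpr hx) (zpowers_le.mpr hy)).mp (by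
    rw [bar_zpowers' f hx, bar_zpowers' f hy, zpowers_le, cent_zpowers, mem_C1_iff_commute,
      ← commutatorElement_eq_one_iff_commute, ← map_commutatorElement]
    exact h1)
  rwa [hk] at h2

omit [Finite G] hp hs ht in
theorem bad_cj {K : Subgroup G} {g : G} (hg : g ∈ 𝐍(Y)) :
    ⁅Y, zpowers (g * e * g⁻¹)⁆ ≤ cj(g, K) ↔ ⁅Y, zpowers e⁆ ≤ K := by
  rw [← cj_le_cj (g := g) (H := ⁅Y, zpowers e⁆), cj_comm, cj_zpowers, cj_eq_of_mem_norm hg]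

omit [Finite G] hp hs ht in
theorem mem_norm_of_good {K : Subgroup G} (hK : K ≤ Y) (h : ⁅Y, zpowers e⁆ ≤ K) : e ∈ 𝐍(K) :=
  le_norm_of_comm_le h hK (mem_zpowers e)

omit hp in
theorem wl_comm (hst : s ≠ t) (hV : IsElementaryAbelian t V) (hY : IsPGroup s Y)
    (hab : IsMulCommutative Y) (hYV : Y ≤ 𝐍(V)) (hf : Y ⊓ 𝐂(V) = ⊥)
    (he : e ^ t = 1) (heV : e ∈ 𝐍(V)) (heY : e ∈ 𝐍(Y)) (h : e ∉ 𝐂(Y)) :
    ∃ k : ℕ, 1 ≤ k ∧ Nat.card ↥⁅V, ⁅Y, zpowers e⁆⁆ = (t ^ k) ^ t ∧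
      (t ^ k) ^ (t - 1) ≤ (C1 e).relIndex V ∧ (t ^ k) ^ t ≡ 1 [MOD s] := by
  have hT : ⁅Y, zpowers e⁆ ≤ Y := comm_le_left (zpowers_le.mpr heY)
  refine wl hst hV (hY.to_le hT) (hT.trans hYV) he heV (right_le_norm_comm _ _ (mem_zpowers e))
    ?_ fun hle => h ?_
  · rw [← cent_zpowers]
    exact coprime_abel_cent_TI (zpowers_le.mpr heY)
      (coprime_of_pgroups hY (abelem_isPGroup (abelem_zpowers he)) hst) hab
  · have : ⁅Y, zpowers e⁆ = ⊥ := eq_bot_iff.mpr ((le_inf hT hle).trans hf.le)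
    exact comm_eq_bot_iff'.mp this (mem_zpowers e)

theorem ff_abelian (c : CS s t V Y) (hA : IsPGroup p A) (hQ : IsPGroup t Q) (hps : p ≠ s)
    (hpt : p ≠ t) (hAV : A ≤ 𝐍(V)) (hAY : A ≤ 𝐍(Y)) (hAQ : A ≤ 𝐍(Q)) (hQV : Q ≤ 𝐍(V))
    (hQY : Q ≤ 𝐍(Y)) (hf : Y ⊓ 𝐂(V) = ⊥) (hYA : Y ⊓ 𝐂(A) = ⊥) (heQ : e ∈ Q) (he : e ^ t = 1)
    (hn : Small p s t ((C1 e).relIndex V)) : e ∈ 𝐂(Y) := by
  by_contra hne
  obtain ⟨k, hk, h1, h2, h3⟩ := wl_comm c.ne c.hV (abelem_isPGroup c.hB) c.hB.1 c.norm hf he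
    (hQV heQ) (hQY heQ) hne
  have num : p ≠ 2 ∧ ¬ s ≡ 1 [MOD p] ∧ Nat.card ↥⁅V, ⁅Y, zpowers e⁆⁆ ≤ 27 ∧ 3 ≤ s ∧
      (t = 2 ∨ 5 ≤ s) := by
    have hs2 := hs.out.two_le
    have key : ∀ m : ℕ, 1 < m → m ≡ 1 [MOD s] → s ∣ m - 1 := fun m hm h =>
      (Nat.modEq_iff_dvd' hm.le).mp h.symm
    have key' : s ≡ 1 [MOD p] → p ∣ s - 1 := fun h => (Nat.modEq_iff_dvd' hs.out.one_lt.le).mp h.symm
    rw [h1]
    rcases hn with ⟨rfl, h⟩ | ⟨rfl, h⟩ | ⟨rfl, h, h4, h5⟩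
    · have hk2 : k ≤ 2 := by
        by_contra hk2
        have : 2 ^ 3 ≤ 2 ^ k := Nat.pow_le_pow_right (by norm_num) (by omega)
        simp at h2; omega
      have hs15 : s ∣ 15 := by
        interval_cases k
        · exact (key _ (by norm_num) h3).trans (by norm_num)
        · exact key _ (by norm_num) h3
      have hs' : s = 3 ∨ s = 5 := by
        rcases (Nat.Prime.dvd_mul hs.out (m := 3) (n := 5)).mp hs15 with h | h
        · exact Or.inl ((Nat.prime_dvd_prime_iff_eq hs.out Nat.prime_three).mp h)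
        · exact Or.inr ((Nat.prime_dvd_prime_iff_eq hs.out Nat.prime_five).mp h)
      refine ⟨hpt, fun h => hpt ?_, by interval_cases k <;> norm_num, by omega, Or.inl rfl⟩
      have h6 : p ∣ 2 ^ 2 := by
        rcases hs' with rfl | rfl
        · exact (key' h).trans (by norm_num)
        · exact key' h
      exact (Nat.prime_dvd_prime_iff_eq hp.out Nat.prime_two).mp (hp.out.dvd_of_dvd_pow h6)
    · have : 3 ^ 1 ≤ 3 ^ k := Nat.pow_le_pow_right (by norm_num) hk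
      simp at h2; nlinarith
    · have hk2 : k = 1 := by
        by_contra hk2
        have : 3 ^ 2 ≤ 3 ^ k := Nat.pow_le_pow_right (by norm_num) (by omega)
        simp at h2; nlinarith
      subst hk2
      have hs13 : s = 13 := by
        rcases (Nat.Prime.dvd_mul hs.out (m := 2) (n := 13)).mp (key _ (by norm_num) h3) with h | h
        · exact absurd ((Nat.prime_dvd_prime_iff_eq hs.out Nat.prime_two).mp h) h4
        · exact (Nat.prime_dvd_prime_iff_eq hs.out (by norm_num)).mp h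
      subst hs13
      refine ⟨h5, fun h => ?_, by norm_num, by norm_num, Or.inr (by norm_num)⟩
      rcases (Nat.Prime.dvd_mul hp.out (m := 2 ^ 2) (n := 3)).mp (key' h) with h | h
      · exact h5 ((Nat.prime_dvd_prime_iff_eq hp.out Nat.prime_two).mp (hp.out.dvd_of_dvd_pow h))
      · exact hpt ((Nat.prime_dvd_prime_iff_eq hp.out Nat.prime_three).mp h)
  obtain ⟨hp2, hp1, h27, hs3, h25⟩ := num
  have hT : ⁅Y, zpowers e⁆ ≤ Y := comm_le_left (zpowers_le.mpr (hQY heQ))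
  -- a bad kernel
  obtain ⟨K₁, hK₁, hb₁⟩ : ∃ K, Ker s V Y K ∧ ¬ ⁅Y, zpowers e⁆ ≤ K := by
    by_contra hno
    push Not at hno
    have h4 := c.gen (X := 𝐂(⁅Y, zpowers e⁆)) fun K hK => inf_le_right.trans (cent_anti (hno K hK))
    have h5 : ⁅V, ⁅Y, zpowers e⁆⁆ = ⊥ := eq_bot_iff.mpr ((le_inf le_rfl
      ((commutator_mono le_rfl hT).trans h4)).trans (c.TI hT).le)
    rw [h5, card_bot] at h1
    have := Nat.one_lt_pow ht.out.ne_zero (Nat.one_lt_pow (by omega : k ≠ 0) ht.out.one_lt)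
    omega
  have ker_cj : ∀ {K}, Ker s V Y K → ∀ a ∈ A, Ker s V Y cj(a, K) := fun h a ha =>
    h.cj (hAV ha) (hAY ha)
  by_cases hc : ∀ a ∈ A, cj(a, K₁) ≠ K₁ → ⁅Y, zpowers e⁆ ≤ cj(a, K₁)
  · obtain ⟨y, hy, hyK⟩ := SetLike.not_le_iff_exists.mp hb₁
    exact ff_fin c hA hps hp1 hAY hYA hK₁ (hT hy) hyK fun a ha h => hc a ha h hy
  push Not at hc
  obtain ⟨a, ha, h12, hb₂⟩ := hc
  have hK₂ := ker_cj hK₁ a ha
  have hK₃ := ker_cj hK₂ a ha
  have two : ∀ K, Ker s V Y K → K ≠ K₁ → K ≠ cj(a, K₁) → ⁅Y, zpowers e⁆ ≤ K := by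
    intro K hK h4 h5
    by_contra hb
    have := c.card_three hK hK₁ hK₂ h4 h5 h12.symm hT hb hb₁ hb₂
    nlinarith
  have ht2 : t = 2 := h25.resolve_right fun h5 => by
    have := c.card_two hK₁ hK₂ h12.symm hT hb₁ hb₂
    nlinarith
  have h23 : cj(a, cj(a, K₁)) ≠ cj(a, K₁) := fun h => h12 (cj_eq_cj.mp h)
  have h13 : cj(a, cj(a, K₁)) ≠ K₁ := by
    intro h
    rw [cj_cj, cj_eq_iff, ← sq, ← pow_one 2] at h
    haveI : Fact (Nat.Prime 2) := ⟨Nat.prime_two⟩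
    exact h12 (cj_eq_iff.mpr (mem_of_pow_mem (coprime_orderOf_of_mem
      (not_dvd_card_of_isPGroup hA hp2.symm) ha) h))
  have he' : a * e * a⁻¹ ∈ Q := conj_mem_of_mem_normalizer (hAQ ha) heQ
  have two' : ∀ K, Ker s V Y K → K ≠ cj(a, K₁) → K ≠ cj(a, cj(a, K₁)) →
      ⁅Y, zpowers (a * e * a⁻¹)⁆ ≤ K := by
    intro K hK h4 h5
    rw [← cj_cj_inv K a, bad_cj (hAY ha)]
    exact two _ (ker_cj hK _ (inv_mem ha)) (fun h => h4 (by rw [← h, cj_cj_inv]))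
      (fun h => h5 (by rw [← h, cj_cj_inv]))
  have bad_e : ∀ K, ¬ ⁅Y, zpowers e⁆ ≤ K → ¬ ⁅Y, zpowers e⁆ ≤ cj(e, K) := fun K h h' => h (by
    rw [← bad_cj (hQY heQ)]; simpa using h')
  have hke : ∀ {K}, Ker s V Y K → Ker s V Y cj(e, K) := fun h => h.cj (hQV heQ) (hQY heQ)
  have e3 : e ∈ 𝐍(cj(a, cj(a, K₁))) := mem_norm_of_good hK₃.le (two _ hK₃ h13 h23)
  have nrm_cj : ∀ K : Subgroup G, e ∈ 𝐍(K) → a * e * a⁻¹ ∈ 𝐍(cj(a, K)) := fun K h => by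
    rw [← cj_norm]; exact conj_mem_cj.mpr h
  by_cases he1 : e ∈ 𝐍(K₁)
  · have he2 : e ∈ 𝐍(cj(a, K₁)) := by
      by_contra h
      exact bad_e _ hb₂ (two _ (hke hK₂) (fun h' => h12 (by
        rw [← cj_eq_of_mem_norm he1] at h'
        nth_rewrite 1 [cj_eq_of_mem_norm he1] at h'
        exact cj_eq_cj.mp h')) fun h' => h (cj_eq_iff.mp h'))
    obtain ⟨y, hy, hyK⟩ := SetLike.not_le_iff_exists.mp hb₂
    have hy3 := two _ hK₃ h13 h23 hy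
    refine ff_fin c hA hps hp1 hAY hYA hK₂ (y := ⁅y, a * e * a⁻¹⁆)
      (H6.comm_mem (hQY he') (hT hy)) (fun h => hb₁ ?_) fun b hb hne => ?_
    · rw [← bad_cj (hAY ha), ← hK₂.sup_eq (zpowers_le.mpr (hT hy)) (by simpa using hyK)]
      refine commutator_sup_left_le (comm_le_left (zpowers_le.mpr (nrm_cj _ he1))) ?_ ?_
      · exact comm_zpowers_zpowers_le (le_norm_of_isComm c.hB.1 le_rfl hK₂.le (hT hy))
          (nrm_cj _ he1) h
      · exact le_norm_of_isComm c.hB.1 (sup_le hK₂.le (zpowers_le.mpr (hT hy))) hK₂.le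
    · by_cases h3 : cj(b, cj(a, K₁)) = cj(a, cj(a, K₁))
      · rw [h3]; exact H6.comm_mem (nrm_cj _ he2) hy3
      · exact two' _ (ker_cj hK₂ b hb) hne h3 (commutator_mem_commutator (hT hy) (mem_zpowers _))
  · have e12 : cj(e, K₁) = cj(a, K₁) := by
      by_contra h
      exact bad_e _ hb₁ (two _ (hke hK₁) (fun h' => he1 (cj_eq_iff.mp h')) h)
    have e21 : cj(e, cj(a, K₁)) = K₁ := by
      by_contra h
      exact bad_e _ hb₂ (two _ (hke hK₂) h fun h' => h12 (cj_eq_cj.mp (h'.trans e12.symm)))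
    have key : ∀ K : Subgroup G, cj(a * e * a⁻¹, cj(a, K)) = cj(a, cj(e, K)) := fun K => by
      rw [cj_cj, cj_cj]; congr 3; group
    have f1 : cj(a * e * a⁻¹, K₁) = K₁ :=
      cj_eq_of_mem_norm (mem_norm_of_good hK₁.le (two' _ hK₁ h12.symm h13.symm))
    have u1 : cj(e * (a * e * a⁻¹), K₁) = cj(a, K₁) := by rw [← cj_cj, f1, e12]
    have u2 : cj(e * (a * e * a⁻¹), cj(a, K₁)) = cj(a, cj(a, K₁)) := by
      rw [← cj_cj, key, e12, cj_eq_of_mem_norm e3]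
    have u3 : cj(e * (a * e * a⁻¹), cj(a, cj(a, K₁))) = K₁ := by
      rw [← cj_cj, key, e21, e21]
    have u : (e * (a * e * a⁻¹)) ^ 3 ^ 1 ∈ 𝐍(K₁) := by
      rw [← cj_eq_iff, pow_one, pow_three, ← cj_cj _ (e * (a * e * a⁻¹)),
        ← cj_cj _ (e * (a * e * a⁻¹)), u1, u2, u3]
    haveI : Fact (Nat.Prime 3) := ⟨Nat.prime_three⟩
    have := mem_of_pow_mem (coprime_orderOf_of_mem (not_dvd_card_of_isPGroup hQ
      (by omega : 3 ≠ t)) (mul_mem heQ he')) u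
    rw [← cj_eq_iff, u1] at this
    exact h12 this

end Cfsg.Agent.Sig
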