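/- Solvable signalizer functors: small offenders, the extraspecial case. -/
import Cfsg.Agent.Lib.Sig.FFa

set_option autoImplicit false
set_option linter.style.haveILetI false

namespace Cfsg.Agent.Sig

open Subgroup Cfsg.Agent.Lib.Core Cfsg.Agent.FT
open scoped Cfsg.Agent.Lib.Glaub commutatorElement

variable {G : Type*} [Group G] [Finite G]
variable {W Y A : Subgroup G} {e g y : G}

theorem relIndex_Zc_dvd {s : ℕ} [hs : Fact s.Prime] (hY : ⁅Y, Y⁆ ≤ 𝐂(Y))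
    (hc : Nat.card ↥⁅Y, Y⁆ = s) (hy : y ∈ Y) (hyZ : y ∉ 𝐂(Y))
    (hab : IsMulCommutative ↥(C1 y ⊓ Y)) : (Zc Y).relIndex Y ∣ s ^ 2 := by
  have h1 := relIndex_C1_dvd hY hy le_rfl
  rw [hc] at h1
  have h2 : ¬ Y ≤ C1 y := fun h => hyZ (le_C1_iff.mp h)
  have h3 : (C1 y ⊓ Y).relIndex Y = s := by
    rw [inf_relIndex_right]
    exact ((Nat.dvd_prime hs.out).mp h1).resolve_left fun h => h2 (relIndex_eq_one.mp h)
  obtain ⟨x, hx, hxy⟩ := SetLike.not_le_iff_exists.mp h2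
  have h4 := (maxIn_of_prime_relIndex inf_le_right (h3 ▸ hs.out)).sup_eq
    (K := zpowers x) (fun h => hxy (h (mem_zpowers x)).1) (zpowers_le.mpr hx)
  have h5 : C1 x ⊓ (C1 y ⊓ Y) ≤ Zc Y := by
    refine le_inf (inf_le_right.trans inf_le_right) ?_
    nth_rewrite 2 [← h4]
    exact le_centralizer_sup (le_cent_of_isComm hab inf_le_right le_rfl)
      (by rw [cent_zpowers]; exact inf_le_left)
  refine (relIndex_dvd_of_le_left _ h5).trans ?_
  rw [← relIndex_mul_relIndex _ (C1 y ⊓ Y) Y inf_le_right inf_le_right, h3, inf_relIndex_right, sq]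
  exact Nat.mul_dvd_mul_right (hc ▸ relIndex_C1_dvd hY hx inf_le_right) _

theorem small_two_three (hW : IsElementaryAbelian 2 W) (hY : IsPGroup 3 Y) (hYW : Y ≤ 𝐍(W))
    (hZ : ⁅Y, Y⁆ ≤ 𝐂(Y)) (hc : Nat.card ↥⁅Y, Y⁆ = 3) (hf : Y ⊓ 𝐂(W) = ⊥)
    (hW0 : W ⊓ 𝐂(⁅Y, Y⁆) = ⊥) (he : e ^ 2 = 1) (heY : e ∈ 𝐍(Y)) (hΦ : PhiOf Y ≤ C1 e)
    (hn : (C1 e).relIndex W ≤ 4) (hg : g ∈ Y) (hy : ⁅g, e⁆ ∉ 𝐂(Y)) :
    IsMulCommutative ↥(C1 ⁅g, e⁆ ⊓ Y) := by
  haveI : Fact (Nat.Prime 2) := ⟨Nat.prime_two⟩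
  haveI : Fact (Nat.Prime 3) := ⟨Nat.prime_three⟩
  have h16 : (C1 ⁅g, e⁆).relIndex W ≤ 16 :=
    (relIndex_C1_comm_le (hYW hg) e).trans (by nlinarith)
  have hinv : e * ⁅g, e⁆ * e⁻¹ = ⁅g, e⁆⁻¹ := by
    have : e⁻¹ = e := by rw [inv_eq_iff_mul_eq_one, ← sq, he]
    have h2 : e * e = 1 := by rw [← sq, he]
    simp only [commutatorElement_def, mul_inv_rev, inv_inv, this, mul_assoc, h2, mul_one]
  have hyY : ⁅g, e⁆ ∈ Y := H6.comm_mem heY hg
  generalize ⁅g, e⁆ = y at *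
  have hy1 : y ≠ 1 := fun h => hy (h ▸ one_mem _)
  have hy3 : y ^ 3 = 1 := by
    have h1 := mem_C1_comm.mp (hΦ (pow_mem_PhiOf hY hyY))
    rw [mem_C1_iff_conj, ← conj_pow, hinv] at h1
    refine mem_bot.mp (mem_of_pow_mem (p := 2) (k := 1) (coprime_orderOf_of_mem
      (not_dvd_card_of_isPGroup hY (by norm_num)) (pow_mem hyY 3)) ?_)
    rw [pow_one, sq, mem_bot]
    nth_rewrite 1 [← h1]
    group
  have hcy : Nat.card (zpowers y) = 3 := by rw [Nat.card_zpowers, orderOf_eq_of_pow_prime hy3 hy1]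
  have hprime : (Nat.card ↥⁅Y, Y⁆).Prime := hc ▸ Nat.prime_three
  have fpf : ∀ z ∈ ⁅Y, Y⁆, z ≠ 1 → W ⊓ C1 z = ⊥ := fun z hz h1 => by
    rw [← cent_zpowers, zpowers_eq_of_card_prime hprime hz h1, hW0]
  have conj : ∀ y' ∈ Y, y' ∉ 𝐂(Y) → ∀ z ∈ ⁅Y, Y⁆,
      Nat.card ↥(W ⊓ C1 (z * y')) = Nat.card ↥(W ⊓ C1 y') := fun y' h1 h2 z hz => by
    obtain ⟨x, hx, h⟩ := exists_conj_eq_mul hZ hprime h1 h2 hz
    rw [← h, ← cj_C1, ← card_cj (W ⊓ C1 y') x, cj_inf, cj_eq_of_mem_norm (hYW hx)]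
  have cop : ∀ U ≤ W, ∀ T ≤ Y, (Nat.card U).Coprime (Nat.card T) := fun U hU T hT =>
    coprime_mono (coprime_of_pgroups (abelem_isPGroup hW) hY (by norm_num)) hU hT
  by_contra hab
  have hCC : ⁅C1 y ⊓ Y, C1 y ⊓ Y⁆ = ⁅Y, Y⁆ := eq_of_le_of_card_prime hprime
    (der_mono inf_le_right) fun h => hab (isComm_iff_comm_eq_bot.mpr h)
  have h0 : W ⊓ C1 y = ⊥ := by
    by_contra hne
    obtain ⟨w, hw, hw1⟩ := exists_ne_one hne
    obtain ⟨z, hz, hz1⟩ := exists_ne_one (ne_bot_of_card_prime hprime)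
    have sub : ∀ z ∈ ⁅Y, Y⁆, z ≠ 1 → W ⊓ C1 (z * y) ≤ ⁅W, zpowers y⁆ := fun z hz hz1 => by
      have hn : zpowers y ≤ 𝐍((W ⊓ C1 (z * y) : Subgroup G)) := by
        refine le_normalizer_inf ((zpowers_le.mpr hyY).trans hYW) ?_
        refine zpowers_le.mpr (le_normalizer (mem_C1.mpr ?_))
        rw [← mul_assoc, mem_cent_iff.mp (hZ hz) y hyY, mul_assoc]
      have h1 := (coprime_abelian_cent_dprod hn (cop _ inf_le_left _ (zpowers_le.mpr hyY))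
        (isComm_of_le hW.1 inf_le_left)).sup
      have h2 : W ⊓ C1 (z * y) ⊓ 𝐂(zpowers y) = ⊥ := by
        rw [eq_bot_iff, ← fpf z hz hz1, cent_zpowers]
        rintro x ⟨⟨hx1, hx2⟩, hx3⟩
        refine ⟨hx1, mem_C1_iff_commute.mpr ?_⟩
        simpa using (mem_C1_iff_commute.mp hx2).mul_right (mem_C1_iff_commute.mp hx3).inv_right
      rw [h2, sup_bot_eq] at h1
      rw [← h1]
      exact commutator_mono inf_le_left le_rfl
    have hz2 : z * z ≠ 1 := fun h => by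
      have := orderOf_dvd_of_pow_eq_one (sq z ▸ h : z ^ 2 = 1)
      rw [← Nat.card_zpowers, zpowers_eq_of_card_prime hprime hz hz1, hc] at this
      norm_num at this
    have h1 := card_mul_le_of_inf (sub z hz hz1) (sub _ (mul_mem hz hz) hz2)
      (le_norm_of_isComm hW.1 inf_le_left inf_le_left) (by
        rw [eq_bot_iff, ← fpf z hz hz1]
        rintro x ⟨⟨hx1, hx2⟩, -, hx3⟩
        refine ⟨hx1, mem_C1_iff_commute.mpr ?_⟩
        simpa [mul_assoc] using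
          (mem_C1_iff_commute.mp hx3).mul_right (mem_C1_iff_commute.mp hx2).inv_right)
    rw [conj y hyY hy z hz, conj y hyY hy _ (mul_mem hz hz)] at h1
    have h2 := (coprime_abelian_cent_dprod ((zpowers_le.mpr hyY).trans hYW)
      (cop _ le_rfl _ (zpowers_le.mpr hyY)) hW.1).card
    rw [← card_inf_mul_relIndex (C1 y) W, cent_zpowers, inf_comm (C1 y), mul_comm] at h2
    rw [Nat.eq_of_mul_eq_mul_left (FT.card_pos _) h2] at h1
    have h3 := relIndex_C1_lt (C := C1 y ⊓ Y) (le_normalizer_inf (inf_le_right.trans hYW)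
      (inf_le_left.trans le_normalizer)) hw hw1
    have h4 := PhiOf_le_of_relIndex_le (hY.to_le (inf_le_right : C1 y ⊓ Y ≤ Y)) (K := C1 w)
      (by nlinarith)
    have h5 := (der_le_PhiOf (hY.to_le (inf_le_right : C1 y ⊓ Y ≤ Y))).trans h4
    rw [hCC, le_C1_iff] at h5
    exact hw1 (mem_bot.mp (hW0.le ⟨hw.1, h5⟩))
  have hB : ⁅Y, Y⁆ ⊔ zpowers y ≤ Y := sup_le (der_le Y) (zpowers_le.mpr hyY)
  have hWb : W ≤ ⊥ := by
    refine coprime_abelian_gen_cent1 (A := ⁅Y, Y⁆ ⊔ zpowers y) (isComm_sup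
      (isComm_iff_le_cent.mpr (le_cent_of_le hZ (der_le Y))) (isComm_zpowers y)
      (le_cent_of_le hZ (zpowers_le.mpr hyY))) (fun h => hy (hZ ?_)) (hB.trans hYW)
      (cop _ le_rfl _ hB) fun b hb hb1 => ?_
    · rw [eq_of_isCyclic_of_card_eq h le_sup_left le_sup_right (hc.trans hcy.symm)]
      exact mem_zpowers y
    · obtain ⟨z, hz, y', hy', rfl⟩ := (mem_sup_of_le_normalizer_left
        ((zpowers_le.mpr hyY).trans (der_nrm Y).norm)).mp hb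
      by_cases h1 : y' = 1
      · subst h1
        rw [mul_one] at hb1 ⊢
        exact (fpf z hz hb1).le
      · have h2 := zpowers_eq_of_card_prime (hcy ▸ Nat.prime_three) hy' h1
        have h3 := conj y' (zpowers_le.mpr hyY hy') (fun h => hy (by
          rw [← zpowers_le, ← h2, zpowers_le]; exact h)) z hz
        rw [← cent_zpowers y', h2, cent_zpowers, h0, card_bot, card_eq_one] at h3
        exact h3.le
  rw [le_bot_iff.mp hWb, cent_bot, inf_top_eq] at hf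
  exact hy1 (mem_bot.mp (hf ▸ hyY))

theorem small_three_two (hW : IsElementaryAbelian 3 W) (hY : IsPGroup 2 Y) (hYW : Y ≤ 𝐍(W))
    (hZ : ⁅Y, Y⁆ ≤ 𝐂(Y)) (hc : Nat.card ↥⁅Y, Y⁆ = 2) (hf : Y ⊓ 𝐂(W) = ⊥)
    (hW0 : W ⊓ 𝐂(⁅Y, Y⁆) = ⊥) (he : e ^ 3 = 1) (heY : e ∈ 𝐍(Y)) (heW : e ∈ 𝐍(W))
    (hΦ : PhiOf Y ≤ C1 e)
    (hn : (C1 e).relIndex W ≤ 3) (hg : g ∈ Y) (hy : ⁅g, e⁆ ∉ 𝐂(Y)) :
    IsMulCommutative ↥(C1 ⁅g, e⁆ ⊓ Y) := by
  haveI : Fact (Nat.Prime 2) := ⟨Nat.prime_two⟩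
  haveI : Fact (Nat.Prime 3) := ⟨Nat.prime_three⟩
  have h9 : (C1 ⁅g, e⁆).relIndex W ≤ 9 :=
    (relIndex_C1_comm_le (hYW hg) e).trans (by nlinarith)
  have hnorm : ⁅g, e⁆ * (e * ⁅g, e⁆ * e⁻¹) * (e * (e * ⁅g, e⁆ * e⁻¹) * e⁻¹) = 1 := by
    calc _ = g * e ^ 3 * g⁻¹ * (e ^ 3)⁻¹ := by simp only [commutatorElement_def, pow_three]; group
      _ = 1 := by rw [he]; group
  have hyY : ⁅g, e⁆ ∈ Y := H6.comm_mem heY hg
  generalize ⁅g, e⁆ = y at *
  have hy1 : y ≠ 1 := fun h => hy (h ▸ one_mem _)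
  have odd : ∀ x ∈ Y, x ^ 3 = 1 → x = 1 := fun x hx h =>
    mem_bot.mp (mem_of_pow_mem (p := 3) (k := 1) (coprime_orderOf_of_mem
      (not_dvd_card_of_isPGroup hY (by norm_num)) hx) (by rw [pow_one, h]; exact one_mem _))
  have hprime : (Nat.card ↥⁅Y, Y⁆).Prime := hc ▸ Nat.prime_two
  have hy₁ : e * y * e⁻¹ ∈ Y := conj_mem_of_mem_normalizer heY hyY
  have hnc : ⁅e * y * e⁻¹, y⁆ ≠ 1 := by
    intro h
    have hcm := commutatorElement_eq_one_iff_commute.mp h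
    have hT : zpowers y ⊔ zpowers (e * y * e⁻¹) ≤ Y :=
      sup_le (zpowers_le.mpr hyY) (zpowers_le.mpr hy₁)
    have heT : e ∈ 𝐍((zpowers y ⊔ zpowers (e * y * e⁻¹) : Subgroup G)) := by
      refine mem_normalizer_of_conj_mem (cj_le_iff.mp ?_)
      rw [cj_sup, cj_zpowers, cj_zpowers]
      refine sup_le le_sup_right (zpowers_le.mpr ?_)
      rw [eq_inv_of_mul_eq_one_right hnorm]
      exact inv_mem (mul_mem (mem_sup_left (mem_zpowers _)) (mem_sup_right (mem_zpowers _)))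
    by_cases hcent : e ∈ 𝐂((zpowers y ⊔ zpowers (e * y * e⁻¹) : Subgroup G))
    · have h1 : e * y * e⁻¹ = y := by
        rw [← mem_cent_iff.mp hcent y (mem_sup_left (mem_zpowers _))]; group
      rw [h1, h1] at hnorm
      exact hy1 (odd y hyY (by rw [pow_three, ← mul_assoc, hnorm]))
    · obtain ⟨k, hk, -, h2, -⟩ := wl_comm (s := 2) (t := 3) (by norm_num) hW (hY.to_le hT)
        (isComm_sup (isComm_zpowers _) (isComm_zpowers _) (by
          rw [zpowers_le, cent_zpowers, mem_C1_iff_commute]; exact hcm.symm)) (hT.trans hYW)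
        (eq_bot_iff.mpr ((inf_le_inf_right _ hT).trans hf.le)) he heW heT hcent
      have : 3 ^ 1 ≤ 3 ^ k := Nat.pow_le_pow_right (by norm_num) hk
      simp at h2; nlinarith
  have hcZ : ⁅e * y * e⁻¹, y⁆ ∈ ⁅Y, Y⁆ := commutator_mem_commutator hy₁ hyY
  have hsq : y ^ 2 = ⁅e * y * e⁻¹, y⁆ := by
    have h1 := mul_pow_of_commute_commutator (x := y) (y := e * y * e⁻¹)
      (mem_cent_iff.mp (hZ hcZ) y hyY).symm (mem_cent_iff.mp (hZ hcZ) _ hy₁).symm 2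
    have h2 := mem_C1_iff_conj.mp (mem_C1_comm.mp (hΦ (pow_mem_PhiOf hY hyY)))
    have h3 : ⁅e * y * e⁻¹, y⁆ ^ 2 = 1 := hc ▸ pow_card_eq_one_of_mem hcZ
    rw [eq_inv_of_mul_eq_one_left hnorm, inv_pow, conj_pow, conj_pow, h2, h2] at h1
    simp only [Nat.choose_self, pow_one] at h1
    have h4 : (y ^ 2) ^ 3 = ⁅e * y * e⁻¹, y⁆⁻¹ := by
      rw [eq_inv_iff_mul_eq_one, pow_three, mem_cent_iff.mp (hZ hcZ) _
        (mul_mem (pow_mem hyY 2) (mul_mem (pow_mem hyY 2) (pow_mem hyY 2))), ← mul_assoc,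
        ← mul_assoc, ← h1, inv_mul_cancel]
    have h5 := odd ((y ^ 2) ^ 2) (pow_mem (pow_mem hyY 2) 2) (by
      rw [← pow_mul, mul_comm, pow_mul, h4, inv_pow, h3, inv_one])
    rw [pow_succ, h5, one_mul] at h4
    rw [h4, inv_eq_iff_mul_eq_one, ← sq, h3]
  have fpf : W ⊓ C1 (y ^ 2) = ⊥ := by
    rw [hsq, ← cent_zpowers, zpowers_eq_of_card_prime hprime hcZ hnc, hW0]
  have h0 : C1 y ⊓ W = ⊥ :=
    eq_bot_iff.mpr ((le_inf inf_le_right (inf_le_left.trans (C1_le_C1_pow y 2))).trans fpf.le)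
  rw [relIndex_eq_card_of_inf_eq_bot h0] at h9
  have hW1 : W ≠ ⊥ := by
    rintro rfl
    rw [cent_bot, inf_top_eq] at hf
    exact hy1 (mem_bot.mp (hf ▸ hyY))
  obtain ⟨w, hw, hw1⟩ := exists_ne_one hW1
  have hcw : Nat.card (zpowers w) = 3 := by
    rw [Nat.card_zpowers, orderOf_eq_of_pow_prime (hW.2 w hw) hw1]
  have hw' : y * w * y⁻¹ ∉ zpowers w := by
    intro h
    have h1 : y ∈ 𝐍(zpowers w) := mem_normalizer_of_conj_mem (cj_le_iff.mp (by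
      rw [cj_zpowers]; exact zpowers_le.mpr h))
    have h2 := relIndex_C1_lt (zpowers_le.mpr h1) (mem_zpowers w) hw1
    have h3 := PhiOf_le_of_relIndex_le (hY.to_le (zpowers_le.mpr hyY)) (K := C1 w) (by omega)
      (pow_mem_PhiOf (hY.to_le (zpowers_le.mpr hyY)) (mem_zpowers y))
    exact hw1 (mem_bot.mp (fpf.le ⟨hw, mem_C1_comm.mp h3⟩))
  have hreg : C1 w ⊓ (C1 y ⊓ Y) = ⊥ := by
    rw [eq_bot_iff, ← hf]
    rintro c ⟨hc1, hc2, hc3⟩
    refine ⟨hc3, le_C1_iff.mp ?_⟩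
    have h1 : zpowers w < W ⊓ C1 c := by
      refine lt_of_le_of_ne (zpowers_le.mpr ⟨hw, mem_C1_comm.mp hc1⟩) fun h => hw' ?_
      rw [h]
      have k1 : y ∈ C1 c := mem_C1_comm.mp hc2
      have k2 : w ∈ C1 c := mem_C1_comm.mp hc1
      exact mem_inf.mpr ⟨conj_mem_of_mem_normalizer (hYW hyY) hw,
        mul_mem (mul_mem k1 k2) (inv_mem k1)⟩
    have h2 := card_mul_le_of_lt ((abelem_isPGroup hW).to_le inf_le_left) h1
    have h3 : W ⊓ C1 c = W := eq_of_le_of_card_ge inf_le_left (by omega)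
    exact h3.ge.trans inf_le_right
  have h8 := relIndex_C1_lt (C := C1 y ⊓ Y) (inf_le_right.trans hYW) hw hw1
  rw [relIndex_eq_card_of_inf_eq_bot hreg] at h8
  have hyC : zpowers y ≤ C1 y ⊓ Y := le_inf (zpowers_le_C1 y) (zpowers_le.mpr hyY)
  have h4 : ⁅Y, Y⁆ < zpowers y := by
    refine lt_of_le_of_ne ?_ fun h => hy (hZ (h ▸ mem_zpowers y))
    rw [← zpowers_eq_of_card_prime hprime hcZ hnc, ← hsq, zpowers_le]
    exact pow_mem (mem_zpowers y) 2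
  have h5 := card_mul_le_of_lt (hY.to_le (zpowers_le.mpr hyY)) h4
  have h6 := card_mul_relIndex hyC
  have h7 := relIndex_pos (zpowers y) (C1 y ⊓ Y)
  have hZc : zpowers y ≤ Zc (C1 y ⊓ Y) :=
    le_inf hyC (cent_comm.mp (by rw [cent_zpowers]; exact inf_le_left))
  rcases Nat.lt_or_ge ((zpowers y).relIndex (C1 y ⊓ Y)) 2 with h | h
  · exact isComm_of_le (isComm_zpowers y) (relIndex_eq_one.mp (by omega))
  · have h10 : (zpowers y).relIndex (C1 y ⊓ Y) = 2 := by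
      rw [hc] at h5; nlinarith
    exact (cycMod_of_prime_relIndex (h10 ▸ Nat.prime_two) (le_norm_of_le_Zc hZc)).isComm hZc

end Cfsg.Agent.Sig
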