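/- Solvable signalizer functors: small offenders, the core lemma. -/
import Cfsg.Agent.Lib.Sig.FFb

set_option autoImplicit false
set_option linter.style.haveILetI false

namespace Cfsg.Agent.Sig

open Subgroup Cfsg.Agent.Lib.Core Cfsg.Agent.FT
open scoped Cfsg.Agent.Lib.Glaub commutatorElement

variable {G : Type*} [Group G] [Finite G]
variable {p s t : ℕ} [hp : Fact p.Prime] [hs : Fact s.Prime] [ht : Fact t.Prime]
  {V : Subgroup G} {e : G}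

omit [Finite G] hp hs ht in
theorem comm_le_cent {Y Q U : Subgroup G} (hY : Y ≤ 𝐍(U)) (hQ : Q ≤ 𝐂(U)) : ⁅Y, Q⁆ ≤ 𝐂(U) :=
  (commutator_mono le_rfl hQ).trans (comm_le_right (le_normalizer_centralizer hY))

theorem ff_core (hps : p ≠ s) (hpt : p ≠ t) (hst : s ≠ t) (hV : IsElementaryAbelian t V)
    (he : e ^ t = 1) (hn : Small p s t ((C1 e).relIndex V)) (A : Subgroup G) :
    IsPGroup p A → A ≤ 𝐍(V) → ∀ F Q : Subgroup G, IsPGroup s F → IsPGroup t Q → F ≤ 𝐍(V) →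
      Q ≤ 𝐍(V) → Q ≤ 𝐍(F) → A ≤ 𝐍(F) → A ≤ 𝐍(Q) → F ⊓ 𝐂(V) = ⊥ → F ⊓ 𝐂(A) ≤ 𝐂(Q) →
      e ∈ Q → e ∈ 𝐂(F) := by
  induction A using subgroup_induction with
  | _ A ih =>
  intro hA hAV F Q₁ hF hQ₁ hFV hQV₁ hQF₁ hAF hAQ₁ hf₁ hFA heQ₁
  by_contra hne
  obtain ⟨Q, hQQ, ⟨heQ, hAQ⟩, hQmin⟩ :=
    exists_minimal_subgroup (P := fun T => e ∈ T ∧ A ≤ 𝐍(T)) ⟨heQ₁, hAQ₁⟩
  have hgen : ∀ T : Subgroup G, e ∈ T → A ≤ 𝐍(T) → Q ≤ T := fun T h1 h2 =>
    (hQmin (Q ⊓ T) ⟨⟨heQ, h1⟩, le_normalizer_inf hAQ h2⟩ inf_le_left).ge.trans inf_le_right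
  have hQ := hQ₁.to_le hQQ
  have hQV := hQQ.trans hQV₁
  obtain ⟨Y, hYF, ⟨hQY, hAY, heY⟩, hYmin⟩ :=
    exists_minimal_subgroup (P := fun Y => Q ≤ 𝐍(Y) ∧ A ≤ 𝐍(Y) ∧ e ∉ 𝐂(Y))
      ⟨hQQ.trans hQF₁, hAF, hne⟩
  have hY := hF.to_le hYF
  have hYV := hYF.trans hFV
  have hf : Y ⊓ 𝐂(V) = ⊥ := eq_bot_iff.mpr ((inf_le_inf_right _ hYF).trans hf₁.le)
  have hYA : Y ⊓ 𝐂(A) ≤ 𝐂(Q) := ((inf_le_inf_right _ hYF).trans hFA).trans (cent_anti hQQ)
  have hYs := isSolvable_of_isPGroup hY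
  have hcop := coprime_of_pgroups hY hQ hst
  have hmin : ∀ N ≤ Y, N ≠ Y → Q ≤ 𝐍(N) → A ≤ 𝐍(N) → Q ≤ 𝐂(N) := fun N h1 h2 h3 h4 => by
    refine hgen _ ?_ (le_normalizer_centralizer h4)
    by_contra h
    exact h2 (hYmin N ⟨h3, h4, h⟩ h1)
  have hYQ : ⁅Y, Q⁆ = Y := by
    by_contra h
    exact heY (coprime_commGG1P hQY hcop hYs (comm_eq_bot_iff'.mpr (hmin _ (comm_le_left hQY) h
      (right_le_norm_comm _ _) (le_normalizer_commutator hAY hAQ))) heQ)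
  have hN0 : PhiOf Y ⊔ Y ⊓ 𝐂(Q) ≤ Y := sup_le (PhiOf_le Y) inf_le_left
  have hN1 : Q ≤ 𝐂((PhiOf Y ⊔ Y ⊓ 𝐂(Q) : Subgroup G)) := hmin _ hN0
    (fun h => heY (cent_comm.mp ((Phi_nongen inf_le_left h.ge).ge.trans inf_le_right) heQ))
    (le_normalizer_sup (hQY.trans (norm_le_norm_PhiOf Y))
      (le_normalizer_inf hQY (le_normalizer_centralizer le_normalizer)))
    (le_normalizer_sup (hAY.trans (norm_le_norm_PhiOf Y))
      (le_normalizer_inf hAY (le_normalizer_centralizer hAQ)))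
  have hN2 : PhiOf Y ⊔ Y ⊓ 𝐂(Q) ≤ 𝐂(Y) := by
    have := three_subgroups_bot (A := Y) (B := Q) (C := PhiOf Y ⊔ Y ⊓ 𝐂(Q))
      (by rw [comm_eq_bot_iff.mpr hN1, commutator_bot_left])
      (comm_eq_bot_iff'.mpr (le_cent_of_le hN1 (comm_le_left
        (le_norm_of_der_le ((der_le_PhiOf hY).trans le_sup_left) hN0))))
    rw [hYQ] at this
    exact comm_eq_bot_iff'.mp this
  have hΦQ : PhiOf Y ≤ 𝐂(Q) := le_sup_left.trans (cent_comm.mp hN1)
  have hΦY : PhiOf Y ≤ 𝐂(Y) := le_sup_left.trans hN2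
  by_cases hab : IsMulCommutative Y
  · have h0 := coprime_abel_cent_TI hQY hcop hab
    rw [hYQ] at h0
    exact heY (ff_abelian ⟨hV, (PhiOf_eq_bot_iff hY).mp (eq_bot_iff.mpr
      ((le_inf (PhiOf_le Y) hΦQ).trans h0.le)), hst, hYV⟩ hA hQ hps hpt hAV hAY hAQ hQV hQY hf
      (eq_bot_iff.mpr ((le_inf inf_le_left hYA).trans h0.le)) heQ he hn)
  have hZY : ⁅Y, Y⁆ ≤ 𝐂(Y) := (der_le_PhiOf hY).trans hΦY
  have hZQ : ⁅Y, Y⁆ ≤ 𝐂(Q) := (der_le_PhiOf hY).trans hΦQ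
  have hZab : IsMulCommutative ↥⁅Y, Y⁆ := isComm_iff_le_cent.mpr (le_cent_of_le hZY (der_le Y))
  have hZ : IsElementaryAbelian s ⁅Y, Y⁆ := by
    refine abelem_of_le (Ohm1_abelem' (hY.to_le (der_le Y)) hZab)
      (commutator_le.mpr fun x hx y hy => mem_Ohm1_of_pow (p := s)
        (commutator_mem_commutator hx hy) ?_)
    rw [← commutatorElement_pow_left_of_commute
      (mem_cent_iff.mp (hZY (commutator_mem_commutator hx hy)) x hx).symm,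
      commutatorElement_eq_one_iff_mul_comm]
    exact (mem_cent_iff.mp (hΦY (pow_mem_PhiOf hY hx)) y hy).symm
  have c : CS s t V ⁅Y, Y⁆ := ⟨hV, hZ, hst, (der_le Y).trans hYV⟩
  have hAZ : A ≤ 𝐍(⁅Y, Y⁆) := le_normalizer_commutator hAY hAY
  obtain ⟨K, hK, hbad⟩ : ∃ K, Ker s V ⁅Y, Y⁆ K ∧ ¬ Wc V ⁅Y, Y⁆ K ≤ C1 e := by
    by_contra hno
    push Not at hno
    have h1 := comm_le_cent (le_normalizer_commutator hYV (der_nrm Y).norm)
      (hgen _ (le_C1_iff.mp (c.gen hno)) (le_normalizer_centralizer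
        (le_normalizer_commutator hAV hAZ)))
    rw [hYQ] at h1
    have h2 : ⁅V, ⁅Y, Y⁆⁆ = ⊥ := eq_bot_iff.mpr ((le_inf le_rfl
      (cent_comm.mp ((der_le Y).trans h1))).trans (c.TI le_rfl).le)
    exact hab (isComm_iff_comm_eq_bot.mpr (eq_bot_iff.mpr
      ((le_inf (der_le Y) (comm_eq_bot_iff'.mp h2)).trans hf.le)))
  have nW : ∀ X ≤ 𝐍(V), X ≤ 𝐍(⁅Y, Y⁆) → X ≤ 𝐍(K) → X ≤ 𝐍(Wc V ⁅Y, Y⁆ K) := fun X h1 h2 h3 =>
    le_normalizer_inf (le_normalizer_commutator h1 h2) (le_normalizer_centralizer h3)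
  have nU : ∀ X ≤ 𝐍(V), X ≤ 𝐍(⁅Y, Y⁆) → X ≤ 𝐍(K) → X ≤ 𝐍(Uc V ⁅Y, Y⁆ K) := fun X h1 h2 h3 =>
    le_normalizer_sup (le_normalizer_commutator h1 h3)
      (le_normalizer_inf h1 (le_normalizer_centralizer h2))
  have hYK : Y ≤ 𝐍(K) := (cent_comm.mp (hK.le.trans hZY)).trans (cent_le_norm _)
  have hQK : Q ≤ 𝐍(K) := (cent_comm.mp (hK.le.trans hZQ)).trans (cent_le_norm _)
  have hQZ : Q ≤ 𝐍(⁅Y, Y⁆) := le_normalizer_commutator hQY hQY
  have hYW := nW Y hYV (der_nrm Y).norm hYK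
  have hYU := nU Y hYV (der_nrm Y).norm hYK
  have hQW := nW Q hQV hQZ hQK
  have hQU := nU Q hQV hQZ hQK
  have hdp := c.dp hK.le
  have hmul := DP.relIndex_C1 hdp (hQW heQ) (hQU heQ)
  have hm : (C1 e).relIndex (Wc V ⁅Y, Y⁆ K) ≡ 1 [MOD s] := by
    rw [← inf_relIndex_right]
    exact relIndex_modEq (abelem_isPGroup hZ) inf_le_right (le_normalizer_inf
      ((hZQ.trans (cent_le_C1 heQ)).trans le_normalizer) (c.norm_Wc hK.le)) (c.norm_Wc hK.le)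
      (not_dvd_card_of_isPGroup ((abelem_isPGroup hV).to_le (inf_le_right.trans c.Wc_le)) hst)
      (c.Wc_inf.le.trans bot_le)
  obtain ⟨j, hj⟩ := exists_relIndex_eq_pow ((abelem_isPGroup hV).to_le (c.Wc_le (K := K))) (C1 e)
  have hj0 : 1 ≤ j := Nat.pos_of_ne_zero fun h => hbad (relIndex_eq_one.mp (by simp [hj, h]))
  have hpos := relIndex_pos (C1 e) (Uc V ⁅Y, Y⁆ K)
  have num : (C1 e).relIndex (Uc V ⁅Y, Y⁆ K) = 1 ∧
      ((t = 2 ∧ s = 3 ∧ t ^ j ≤ 4) ∨ (t = 3 ∧ s = 2 ∧ t ^ j ≤ 3)) := by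
    rw [hj] at hm hmul
    have key : s ∣ t ^ j - 1 := (Nat.modEq_iff_dvd' (Nat.one_le_pow _ _ ht.out.pos)).mp hm.symm
    rw [hmul] at hn
    generalize (C1 e).relIndex (Uc V ⁅Y, Y⁆ K) = m at *
    have h2 : s ∣ 2 ^ 3 → s = 2 := fun h =>
      (Nat.prime_dvd_prime_iff_eq hs.out Nat.prime_two).mp (hs.out.dvd_of_dvd_pow h)
    rcases hn with ⟨rfl, h⟩ | ⟨rfl, h⟩ | ⟨rfl, h, h4, -⟩
    · have : j ≤ 2 := by
        by_contra hj2
        have : 2 ^ 3 ≤ 2 ^ j := Nat.pow_le_pow_right (by norm_num) (by omega)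
        nlinarith
      interval_cases j
      · exact absurd (Nat.dvd_one.mp key) hs.out.ne_one
      · exact ⟨by omega, Or.inl ⟨rfl, (Nat.prime_dvd_prime_iff_eq hs.out Nat.prime_three).mp key,
          by norm_num⟩⟩
    · have : j ≤ 1 := by
        by_contra hj2
        have : 3 ^ 2 ≤ 3 ^ j := Nat.pow_le_pow_right (by norm_num) (by omega)
        nlinarith
      interval_cases j
      exact ⟨by omega, Or.inr ⟨rfl, h2 (key.trans (by norm_num)), by norm_num⟩⟩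
    · have : j ≤ 2 := by
        by_contra hj2
        have : 3 ^ 3 ≤ 3 ^ j := Nat.pow_le_pow_right (by norm_num) (by omega)
        nlinarith
      interval_cases j <;> exact absurd (h2 (key.trans (by norm_num))) h4
  obtain ⟨hU1, num⟩ := num
  rw [← hj] at num
  have heU : e ∈ 𝐂(Uc V ⁅Y, Y⁆ K) := le_C1_iff.mp (relIndex_eq_one.mp hU1)
  have triv : ∀ x ∈ Y, x ∈ 𝐂(Wc V ⁅Y, Y⁆ K) → x ∈ 𝐂(Uc V ⁅Y, Y⁆ K) → x = 1 := fun x h1 h2 h3 =>
    mem_bot.mp (hf.le ⟨h1, by rw [← hdp.sup, centralizer_sup]; exact ⟨h2, h3⟩⟩)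
  by_cases hAK : A ≤ 𝐍(K)
  · have h1 := comm_le_cent hYU (hgen _ heU (le_normalizer_centralizer (nU A hAV hAZ hAK)))
    rw [hYQ] at h1
    have hfW : Y ⊓ 𝐂(Wc V ⁅Y, Y⁆ K) = ⊥ :=
      eq_bot_iff.mpr fun x hx => mem_bot.mpr (triv x hx.1 hx.2 (h1 hx.1))
    have hK0 : K = ⊥ := eq_bot_iff.mpr ((le_inf (hK.le.trans (der_le Y))
      (cent_comm.mp inf_le_right)).trans hfW.le)
    have hcZ : Nat.card ↥⁅Y, Y⁆ = s := by rw [← hK.idx, hK0, relIndex_bot_left]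
    obtain ⟨g, hg, hy⟩ : ∃ g ∈ Y, ⁅g, e⁆ ∉ 𝐂(Y) := by
      by_contra hno
      push Not at hno
      have hQZc := hQY.trans (norm_le_norm_Zc Y)
      have h2 := hgen (CentSec Q Y (Zc Y)) ((mem_CentSec hQZc).mpr ⟨heQ, fun u hu =>
        ⟨H6.comm_mem (hQY heQ) hu, hno u hu⟩⟩)
        (le_norm_CentSec hAQ hAY (hAY.trans (norm_le_norm_Zc Y)))
      have h3 := ((le_CentSec_iff hQZc).mp h2).2
      rw [hYQ] at h3
      exact hab (isComm_iff_le_cent.mpr (h3.trans inf_le_right))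
    have hWe := abelem_of_le hV (c.Wc_le (K := K))
    have hΦe := hΦQ.trans (cent_le_C1 heQ)
    have hC : IsMulCommutative ↥(C1 ⁅g, e⁆ ⊓ Y) := by
      rcases num with ⟨rfl, rfl, h⟩ | ⟨rfl, rfl, h⟩
      · exact small_two_three hWe hY hYW hZY hcZ hfW c.Wc_inf he (hQY heQ) hΦe h hg hy
      · exact small_three_two hWe hY hYW hZY hcZ hfW c.Wc_inf he (hQY heQ) (hQW heQ) hΦe h hg hy
    have h2 := relIndex_Zc_dvd hZY hcZ (H6.comm_mem (hQY heQ) hg) hy hC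
    have h3 := relIndex_modEq hA (Zc_le Y) (hAY.trans (norm_le_norm_Zc Y)) hAY
      (not_dvd_card_of_isPGroup (hY.to_le (Zc_le Y)) hps)
      (le_inf inf_le_left ((le_inf inf_le_left hYA).trans (le_sup_right.trans hN2)))
    obtain ⟨i, hi, h4⟩ := (Nat.dvd_prime_pow hs.out).mp h2
    rw [h4] at h3
    have key : p ∣ s ^ i - 1 := (Nat.modEq_iff_dvd' (Nat.one_le_pow _ _ hs.out.pos)).mp h3.symm
    have hi0 : i ≠ 0 := fun h => hab (isComm_iff_le_cent.mpr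
      ((relIndex_eq_one.mp (by simp [h4, h])).trans (Zc_le_cent Y)))
    rcases num with ⟨rfl, rfl, -⟩ | ⟨rfl, rfl, -⟩
    · have : p ∣ 2 ^ 3 := by interval_cases i <;> first | exact absurd rfl hi0 | exact key.trans (by norm_num)
      exact hpt ((Nat.prime_dvd_prime_iff_eq hp.out Nat.prime_two).mp (hp.out.dvd_of_dvd_pow this))
    · have : p ∣ 3 := by interval_cases i <;> first | exact absurd rfl hi0 | exact key.trans (by norm_num)
      exact hpt ((Nat.prime_dvd_prime_iff_eq hp.out Nat.prime_three).mp this)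
  · have hlt : A ⊓ 𝐍(K) < A := lt_of_le_of_ne inf_le_left fun h => hAK (h.ge.trans inf_le_right)
    have hQY' : Q ≤ 𝐍((Y ⊓ 𝐂(Uc V ⁅Y, Y⁆ K) : Subgroup G)) :=
      le_normalizer_inf hQY (le_normalizer_centralizer hQU)
    have h1 := ih _ hlt (hA.to_le inf_le_left) (inf_le_left.trans hAV) (Y ⊓ 𝐂(Uc V ⁅Y, Y⁆ K)) Q
      (hY.to_le inf_le_left) hQ (inf_le_left.trans hYV) hQV hQY'
      (le_normalizer_inf (inf_le_left.trans hAY) (le_normalizer_centralizer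
        (nU _ (inf_le_left.trans hAV) (inf_le_left.trans hAZ) inf_le_right)))
      (inf_le_left.trans hAQ) (eq_bot_iff.mpr ((inf_le_inf_right _ inf_le_left).trans hf.le))
      (fun y hy => ?_) heQ
    · refine heY (coprime_commGG1P (zpowers_le.mpr (hQY heQ))
        (coprime_mono hcop le_rfl (zpowers_le.mpr heQ)) hYs (comm_eq_bot_iff'.mpr
          (zpowers_le.mpr (cent_anti ?_ h1))) (mem_zpowers e))
      exact le_inf (comm_le_left (zpowers_le.mpr (hQY heQ)))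
        (comm_le_cent hYU (zpowers_le.mpr heU))
    have hcl : ∀ a ∈ A, a * y * a⁻¹ = y ∨ a * y * a⁻¹ ∈ Y ⊓ 𝐂(Wc V ⁅Y, Y⁆ K) := fun a ha => by
      by_cases haK : a ∈ 𝐍(K)
      · left
        rw [mem_cent_iff.mp hy.2 a ⟨ha, haK⟩]; group
      · right
        refine ⟨conj_mem_of_mem_normalizer (hAY ha) hy.1.1, cent_anti (B := cj(a, Uc V ⁅Y, Y⁆ K))
          ?_ (by rw [← cj_cent]; exact conj_mem_cj.mpr hy.1.2)⟩
        have hK' := hK.cj (hAV ha) (hAZ ha)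
        refine (c.Wc_le_comm hK hK'.le (hK'.not_le hK fun h => haK (cj_eq_iff.mp h))).trans ?_
        nth_rewrite 1 [← cj_eq_of_mem_norm (hAV ha)]
        rw [← cj_comm]
        exact cj_mono a le_sup_left
    obtain ⟨z, hz, hz'⟩ := exists_orbit_prod hAY hy.1.1 fun a ha => by
      rcases hcl a ha with h | h
      · rw [h]
      · refine commutatorElement_eq_one_iff_commute.mp (triv _ (H6.comm_mem (le_normalizer h.1)
          hy.1.1) ?_ (H6.comm_mem (le_normalizer_centralizer hYU h.1) hy.1.2))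
        rw [← commutatorElement_inv]
        exact inv_mem (H6.comm_mem (le_normalizer_centralizer hYW hy.1.1) h.2)
    have hk := hz' _ hcl
    refine mem_cent_iff.mpr fun q hq => (commutatorElement_eq_one_iff_mul_comm.mp (triv ⁅y, q⁆
      (H6.comm_mem (hQY hq) hy.1.1) ?_ (H6.comm_mem (hQY' hq) hy.1).2)).symm
    have hzq := mem_cent_iff.mp (hYA hz) q hq
    have : ⁅y, q⁆ = z * ⁅(y⁻¹ * z)⁻¹, q⁆ * z⁻¹ := by
      simp only [commutatorElement_def, mul_inv_rev, inv_inv, mul_assoc, mul_inv_cancel_left]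
      rw [← mul_inv_rev z q, ← hzq, mul_inv_rev, mul_inv_cancel_left]
    rw [this]
    have hk2 : y⁻¹ * z ∈ 𝐂(Wc V ⁅Y, Y⁆ K) := hk.2
    exact conj_mem_of_mem_normalizer (le_normalizer_centralizer hYW hz.1)
      (H6.comm_mem (le_normalizer_centralizer hQW hq) (inv_mem hk2))

end Cfsg.Agent.Sig
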