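/- Solvable signalizer functors: no offenders. -/
import Cfsg.Agent.Lib.Sig.FFc
import Cfsg.Agent.Lib.Glaub.QuadPair

set_option autoImplicit false
set_option linter.style.haveILetI false

namespace Cfsg.Agent.Sig

open Subgroup Cfsg.Agent.Lib.Core Cfsg.Agent.FT
open scoped Cfsg.Agent.Lib.Glaub commutatorElement

universe u

section
variable {G : Type*} [Group G] [Finite G]
variable {p s t : ℕ} [hp : Fact p.Prime] [hs : Fact s.Prime] [ht : Fact t.Prime]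
  {V A F Q E : Subgroup G} {e : G}

/-- the primes for which codimension two is allowed -/
def Two (p s t : ℕ) : Prop := t = 2 ∨ (t = 3 ∧ s ≠ 2 ∧ p ≠ 2)

theorem ff_elt (hps : p ≠ s) (hpt : p ≠ t) (hst : s ≠ t) (hV : IsElementaryAbelian t V)
    (he : e ^ t = 1) (hn : (C1 e).relIndex V ≤ t ∨ ((C1 e).relIndex V ≤ t * t ∧ Two p s t))
    (hA : IsPGroup p A) (hAV : A ≤ 𝐍(V)) (hF : IsPGroup s F) (hQ : IsPGroup t Q)
    (hFV : F ≤ 𝐍(V)) (hQV : Q ≤ 𝐍(V)) (hQF : Q ≤ 𝐍(F)) (hAF : A ≤ 𝐍(F)) (hAQ : A ≤ 𝐍(Q))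
    (hf : F ⊓ 𝐂(V) = ⊥) (hFA : F ⊓ 𝐂(A) ≤ 𝐂(Q)) (heQ : e ∈ Q) : e ∈ 𝐂(F) := by
  by_cases h23 : t = 2 ∨ t = 3
  · refine ff_core hps hpt hst hV he ?_ A hA hAV F Q hF hQ hFV hQV hQF hAF hAQ hf hFA heQ
    rcases hn with h | ⟨h, rfl | ⟨rfl, h1⟩⟩
    · rcases h23 with rfl | rfl
      · exact Or.inl ⟨rfl, by omega⟩
      · exact Or.inr (Or.inl ⟨rfl, h⟩)
    · exact Or.inl ⟨rfl, h⟩
    · exact Or.inr (Or.inr ⟨rfl, h, h1⟩)
  push Not at h23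
  have h1 : (C1 e).relIndex V ≤ t := hn.resolve_right fun h => h.2.elim h23.1 fun h => h23.2 h.1
  have hE := abelem_isPGroup (abelem_zpowers he)
  have hEV := zpowers_le.mpr (hQV heQ)
  have hq : ⁅V, zpowers e⁆ ≤ C1 e := by
    by_cases h : V ≤ C1 e
    · exact (comm_le_left hEV).trans h
    have hlt : C1 e ⊓ V < V := lt_of_le_of_ne inf_le_right fun h' => h (h'.ge.trans inf_le_left)
    obtain ⟨L, -, h3, -, h4, h5⟩ := exists_nrm_between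
      (isPGroup_sup_of_le_normalizer hE (abelem_isPGroup hV) hEV)
      ⟨inf_le_right.trans le_sup_right, sup_le (le_normalizer_inf ((zpowers_le_C1 e).trans
        le_normalizer) hEV) (le_norm_of_isComm hV.1 le_rfl inf_le_right)⟩ (Nrm.sup_right hEV) hlt
    have h6 : L = V := eq_of_le_of_card_ge h3 (by
      rw [h4, ← card_inf_mul_relIndex (C1 e) V]; exact Nat.mul_le_mul_left _ h1)
    rw [h6] at h5
    exact ((commutator_mono le_rfl le_sup_left).trans h5).trans inf_le_left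
  have hEF := zpowers_le.mpr (hQF heQ)
  obtain ⟨R, hR, heR, h⟩ := quad_stable h23.1 (L := (zpowers e ⊔ F) ⊔ V) (isSolvable_sup
    (isSolvable_sup (isSolvable_of_isPGroup hE) (isSolvable_of_isPGroup hF) hEF)
    (isSolvable_of_isComm hV.1) (sup_le hEV hFV)) (fun h => absurd h h23.2)
    (Nrm.sup_right (sup_le hEV hFV)) (abelem_isPGroup hV)
    (mem_sup_left (mem_sup_left (mem_zpowers e))) hq
  refine mem_cent_iff.mpr fun f hf' => commutatorElement_eq_one_iff_mul_comm.mp (mem_bot.mp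
    (hf.le ⟨H6.comm_mem (hQF heQ) hf', h _ ?_ (coprime_orderOf_of_mem
      (not_dvd_card_of_isPGroup hF hst.symm) (H6.comm_mem (hQF heQ) hf'))⟩))
  rw [← commutatorElement_inv]
  exact inv_mem (H6.comm_mem (hR.norm (mem_sup_left (mem_sup_right hf'))) heR)

theorem ff_sub (hps : p ≠ s) (hpt : p ≠ t) (hst : s ≠ t) (hV : IsElementaryAbelian t V)
    {c : ℕ} (hc : c = 1 ∨ (c = t ∧ Two p s t))
    (hA : IsPGroup p A) (hAV : A ≤ 𝐍(V)) (hF : IsPGroup s F) (hQ : IsPGroup t Q)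
    (hFV : F ≤ 𝐍(V)) (hQV : Q ≤ 𝐍(V)) (hQF : Q ≤ 𝐍(F)) (hAF : A ≤ 𝐍(F)) (hAQ : A ≤ 𝐍(Q))
    (hf : F ⊓ 𝐂(V) = ⊥) (hFA : F ⊓ 𝐂(A) ≤ 𝐂(Q)) (hQf : Q ⊓ 𝐂(F) = ⊥) (E : Subgroup G) :
    E ≤ Q → IsElementaryAbelian t E → (𝐂(E)).relIndex V ≤ c * Nat.card E → E = ⊥ := by
  induction E using subgroup_induction with
  | _ E ih =>
  intro hEQ hE hn
  by_contra hne
  by_cases hcyc : IsCyclic E
  · obtain ⟨e, rfl⟩ := isCyclic_iff_zpowers.mp hcyc
    have h1 := (abelem_cyclic_iff hE).mp hcyc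
    rw [cent_zpowers] at hn
    have := ff_elt hps hpt hst hV (hE.2 e (mem_zpowers e)) (by
      rcases hc with rfl | ⟨rfl, h⟩
      · exact Or.inl (by omega)
      · exact Or.inr ⟨hn.trans (Nat.mul_le_mul_left _ h1), h⟩)
      hA hAV hF hQ hFV hQV hQF hAF hAQ hf hFA (hEQ (mem_zpowers e))
    exact hne (eq_bot_iff.mpr ((le_inf hEQ (zpowers_le.mpr this)).trans hQf.le))
  obtain ⟨B, hBE, hB, hFB⟩ : ∃ B ≤ E, CycMod E B ∧ ¬ F ⊓ 𝐂(B) ≤ 𝐂(E) := by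
    by_contra hno
    push Not at hno
    exact hne (eq_bot_iff.mpr ((le_inf hEQ (cent_comm.mp (coprime_abelian_gen_cent hE.1
      (hEQ.trans hQF) (coprime_of_pgroups hF (abelem_isPGroup hE) hst) hno))).trans hQf.le))
  have hBc := isCocyclic_iff.mpr ⟨hBE, hB⟩
  have hlt : B < E := lt_of_le_of_ne hBE fun h => hFB (h ▸ inf_le_right)
  have h1 : c * Nat.card B < (𝐂(B)).relIndex V := by
    by_contra h
    exact hBc.ne_bot hcyc (ih B hlt (hBE.trans hEQ) (abelem_of_le hE hBE) (not_lt.mp h))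
  have h2 : (𝐂(E)).relIndex V ≤ (𝐂(B)).relIndex V := by
    obtain ⟨i, hi⟩ := exists_relIndex_eq_pow (abelem_isPGroup hV) (𝐂(B))
    obtain ⟨j, hj⟩ := exists_card_eq_pow (abelem_isPGroup (abelem_of_le hE hBE))
    obtain ⟨k, hk⟩ : ∃ k, c = t ^ k := hc.elim (fun h => ⟨0, by simp [h]⟩) fun h => ⟨1, by simp [h.1]⟩
    have h3 := hBc.card_le hE
    rw [hi, hj, hk, ← pow_add, Nat.pow_lt_pow_iff_right ht.out.one_lt] at h1
    calc _ ≤ c * (t * Nat.card B) := hn.trans (Nat.mul_le_mul_left _ h3)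
      _ = t ^ (k + j + 1) := by rw [hk, hj]; ring
      _ ≤ _ := by rw [hi]; exact Nat.pow_le_pow_right ht.out.pos h1
  have h3 : 𝐂(E) ⊓ V = 𝐂(B) ⊓ V := by
    refine eq_of_le_of_card_ge (inf_le_inf_right _ (cent_anti hBE)) ?_
    have h4 := card_inf_mul_relIndex (𝐂(E)) V
    have h5 := card_inf_mul_relIndex (𝐂(B)) V
    by_contra h
    have := Nat.mul_lt_mul_of_lt_of_le (not_le.mp h) h2 (relIndex_pos _ _)
    omega
  have hn' : E ≤ 𝐍((F ⊓ 𝐂(B) : Subgroup G)) := le_normalizer_inf (hEQ.trans hQF)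
    (le_normalizer_centralizer (le_norm_of_isComm hE.1 le_rfl hBE))
  have hY : ⁅F ⊓ 𝐂(B), E⁆ ≤ F ⊓ 𝐂(B) := comm_le_left hn'
  have h4 := thompson_A_times_B (abelem_isPGroup hV) (abelem_isPGroup (abelem_of_le hE hBE))
    (not_dvd_card_of_isPGroup (hF.to_le (hY.trans inf_le_left)) hst.symm)
    (hBE.trans (hEQ.trans hQV)) (hY.trans (inf_le_left.trans hFV))
    (cent_comm.mp (hY.trans inf_le_right)) (cent_comm.mp (comm_le_cent
      (le_normalizer_inf (inf_le_left.trans hFV) (inf_le_right.trans le_normalizer))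
      (cent_comm.mp (by rw [inf_comm, ← h3]; exact inf_le_left))))
  exact hFB (comm_eq_bot_iff.mp (eq_bot_iff.mpr ((le_inf (hY.trans inf_le_left)
    (cent_comm.mp h4)).trans hf.le)))

end

theorem exists_faith {G : Type u} [Group G] [Finite G] {t : ℕ} {V : Subgroup G}
    (hV : IsElementaryAbelian t V) : ∃ (H : Type u) (_ : Group H) (_ : Finite H)
      (ψ : 𝐍(V) →* H) (W : Subgroup H), kerOf ψ = 𝐂(V) ∧ IsElementaryAbelian t W ∧
      (∀ X, bar ψ X ≤ 𝐍(W)) ∧ (∀ X, bar ψ X ⊓ 𝐂(W) = ⊥) ∧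
      ∀ X ≤ 𝐍(V), (𝐂(bar ψ X)).relIndex W = (𝐂(X)).relIndex V := by
  obtain ⟨H, _, _, ι, σ, h⟩ := exists_hol (MonoidHom.id (MulAut V))
  refine ⟨H, inferInstance, inferInstance, σ.comp V.normalizerMonoidHom, ι.range, ?_, ⟨?_, ?_⟩,
    ?_, ?_, ?_⟩
  · rw [kerOf, ← MonoidHom.comap_ker, (MonoidHom.ker_eq_bot_iff σ).mpr h.σ_inj,
      MonoidHom.comap_bot, normalizerMonoidHom_ker, map_subtype_subgroupOf (cent_le_norm V)]
  · refine isComm_iff_le_cent.mpr ?_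
    rintro _ ⟨x, rfl⟩
    refine mem_cent_iff.mpr ?_
    rintro _ ⟨y, rfl⟩
    rw [← map_mul, ← map_mul]
    congr 1
    exact Subtype.ext (mul_comm_of_isComm hV.1 y.2 x.2)
  · rintro _ ⟨x, rfl⟩
    rw [← map_pow, show x ^ t = 1 from Subtype.ext (hV.2 x x.2), map_one]
  · intro X y hy
    obtain ⟨x, -, rfl⟩ := (mem_bar _).mp hy
    exact h.mem_normalizer_range _
  · intro X
    rw [eq_bot_iff]
    rintro y ⟨hy, hy'⟩
    obtain ⟨x, -, rfl⟩ := (mem_bar _).mp hy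
    have := h.mem_centralizer_range_iff.mp hy'
    rw [MonoidHom.id_apply] at this
    rw [mem_bot, MonoidHom.comp_apply, this, map_one]
  · intro X hX
    rw [← index_comap, relIndex]
    congr 1
    ext v
    rw [mem_comap, bar, ← map_map, h.mem_centralizer_map_iff, mem_subgroupOf, mem_cent_iff]
    constructor
    · intro h1 x hx
      have := congrArg Subtype.val (h1 _ ⟨⟨x, hX hx⟩, hx, rfl⟩)
      exact mul_inv_eq_iff_eq_mul.mp this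
    · rintro h1 _ ⟨x, hx, rfl⟩
      exact Subtype.ext (mul_inv_eq_iff_eq_mul.mpr (h1 x hx))

variable {G : Type*} [Group G] [Finite G]
variable {p s t : ℕ} [hp : Fact p.Prime] [hs : Fact s.Prime] [ht : Fact t.Prime]
  {V A F Q E : Subgroup G}

/-- the standing hypotheses of the offender lemmas -/
structure FFH (p s t : ℕ) (V A F Q : Subgroup G) : Prop where
  ps : p ≠ s
  pt : p ≠ t
  st : s ≠ t
  hV : IsElementaryAbelian t V
  hA : IsPGroup p A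
  hF : PiMod {s} F 𝐂(V)
  hFp : ¬ p ∣ Nat.card F
  hQ : IsPGroup t Q
  AV : A ≤ 𝐍(V)
  FV : F ≤ 𝐍(V)
  QV : Q ≤ 𝐍(V)
  QF : Q ≤ 𝐍(F)
  AF : A ≤ 𝐍(F)
  AQ : A ≤ 𝐍(Q)
  FA : ⁅F ⊓ 𝐂(A), Q⁆ ≤ 𝐂(V)

theorem FFH.ff' (h : FFH p s t V A F Q) {c : ℕ} (hc : c = 1 ∨ (c = t ∧ Two p s t))
    (hf : ∀ e ∈ Q, ⁅F, zpowers e⁆ ≤ 𝐂(V) → e ∈ 𝐂(V)) (hEQ : E ≤ Q)
    (hE : IsMulCommutative E) (hE' : ∀ x ∈ E, x ^ t ∈ 𝐂(V)) (hn : (𝐂(E)).relIndex V ≤ c * (𝐂(V)).relIndex E) :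
    E ≤ 𝐂(V) := by
  obtain ⟨H, _, _, ψ, W, hk, hW, h1, h2, h3⟩ := exists_faith h.hV
  have hEV := hEQ.trans h.QV
  rw [← hk, ← bar_eq_bot_iff ψ hEV]
  refine ff_sub h.ps h.pt h.st hW hc (isPGroup_bar ψ h.hA) (h1 _)
    (isPi_singleton_iff.mp ((piMod_iff_bar ψ h.FV).mp (hk ▸ h.hF))) (isPGroup_bar ψ h.hQ) (h1 _)
    (h1 _) (bar_le_normalizer ψ h.QF) (bar_le_normalizer ψ h.AF) (bar_le_normalizer ψ h.AQ)
    (h2 _) ?_ ?_ _ (bar_mono ψ hEQ)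
    ((abelem_bar_iff ψ hEV).mpr ⟨abMod_of_isComm hE _, hk ▸ hE'⟩) ?_
  · refine le_trans ?_ ((bar_le_centralizer_iff ψ (inf_le_left.trans h.FV) h.QV).mpr
      (hk ▸ h.FA))
    rintro y ⟨hy, hy'⟩
    obtain ⟨x, hx, rfl⟩ := (mem_bar _).mp hy
    have hn := le_normalizer_inf h.AF (le_normalizer_centralizer h.AV)
    have := coprime_quotient_cent (inf_le_left : F ⊓ 𝐂(V) ≤ F) hn
      (coprime_card_of_isPGroup h.hA (not_dvd_card_of_le h.hFp inf_le_left)).symm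
      (Or.inr (isSolvable_of_isPGroup h.hA)) hx fun a ha => ⟨H6.comm_mem (h.AF ha) hx, by
        rw [← hk]
        refine (mem_kerOf ψ (x := ⁅x, ⟨a, h.AV ha⟩⁆)).mpr ?_
        rw [map_commutatorElement, commutatorElement_eq_one_iff_mul_comm]
        exact (mem_cent_iff.mp hy' _ (mem_bar_of_mem ψ (x := ⟨a, h.AV ha⟩) ha)).symm⟩
    rw [mem_bar_iff ψ (inf_le_left.trans h.FV), hk]
    have hle : (F ⊓ 𝐂(V)) ⊔ (F ⊓ 𝐂(A)) ≤ (F ⊓ 𝐂(A)) ⊔ 𝐂(V) :=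
      sup_le (inf_le_right.trans le_sup_right) le_sup_left
    exact hle this
  · rw [eq_bot_iff]
    rintro y ⟨hy, hy'⟩
    obtain ⟨x, hx, rfl⟩ := (mem_bar _).mp hy
    have := hf x hx (by
      rw [← hk, ← bar_le_centralizer_iff ψ h.FV (zpowers_le.mpr x.2), bar_zpowers, cent_comm,
        zpowers_le]
      exact hy')
    rw [← hk] at this
    exact mem_bot.mpr ((mem_kerOf ψ).mp this)
  · rw [h3 E hEV, ← relIndex_kerOf ψ hEV, hk]
    exact hn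

theorem FFH.ff (h : FFH p s t V A F Q) {c : ℕ} (hc : c = 1 ∨ (c = t ∧ Two p s t))
    (hf : ∀ e ∈ Q, ⁅F, zpowers e⁆ ≤ 𝐂(V) → e ∈ 𝐂(V)) (hEQ : E ≤ Q)
    (hE : IsElementaryAbelian t E) (hn : (𝐂(E)).relIndex V ≤ c * (𝐂(V)).relIndex E) :
    E ≤ 𝐂(V) :=
  h.ff' hc hf hEQ hE.1 (fun x hx => by rw [hE.2 x hx]; exact one_mem _) hn

theorem FFH.elt (h : FFH p s t V A F Q) (h2 : Two p s t)
    (hf : ∀ e ∈ Q, ⁅F, zpowers e⁆ ≤ 𝐂(V) → e ∈ 𝐂(V)) {e : G} (he : e ∈ Q)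
    (hn : (C1 e).relIndex V ≤ t * t) : e ∈ 𝐂(V) := by
  obtain ⟨k, hk⟩ := pow_eq_one_of_isPGroup h.hQ he
  have hk' : e ^ t ^ k ∈ 𝐂(V) := hk ▸ one_mem _
  clear hk
  induction k generalizing e with
  | zero => simpa using hk'
  | succ k ih =>
    have h1 := ih (pow_mem he t) ((relIndex_le_of_le_left (C1_le_C1_pow e t)
      (relIndex_ne_zero _ _)).trans hn) (by rwa [← pow_mul, ← pow_succ'])
    by_contra hne
    refine hne (h.ff' (Or.inr ⟨rfl, h2⟩) hf (zpowers_le.mpr he) (isComm_zpowers e) ?_ ?_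
      (mem_zpowers e))
    · rintro _ ⟨n, rfl⟩
      have : (e ^ n) ^ t = (e ^ t) ^ n := by
        rw [← zpow_natCast, ← zpow_natCast, ← zpow_mul, ← zpow_mul, mul_comm]
      exact this ▸ zpow_mem h1 n
    · rw [cent_zpowers]
      exact hn.trans (Nat.mul_le_mul_left _ (Nat.le_of_dvd (relIndex_pos _ _)
        (dvd_relIndex_of_isPGroup (h.hQ.to_le (zpowers_le.mpr he)) (by simpa using hne))))

theorem FFH.ffJ (h : FFH p s t V A F Q) (hVQ : V ≤ Q) : ⁅F, Lib.ZJ.JT t Q⁆ ≤ 𝐂(V) := by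
  have hQC := le_normalizer_centralizer h.QV
  set Q₀ := CentSec Q F 𝐂(V) with hQ₀
  have hQ0 : Q₀ ≤ Q := CentSec_le _ _ _
  have hF0 : ⁅F, Q₀⁆ ≤ 𝐂(V) := comm_CentSec_le hQC
  have hle : V ⊓ 𝐂(Q₀) ≤ V := inf_le_left
  have hFV : F ≤ 𝐍((V ⊓ 𝐂(Q₀) : Subgroup G)) := by
    intro f hf
    refine mem_normalizer_of_conj_mem fun v hv => ⟨conj_mem_of_mem_normalizer (h.FV hf) hv.1,
      mem_cent_iff.mpr fun q hq => ?_⟩
    have h1 := mem_cent_iff.mp (hF0 (commutator_mem_commutator (inv_mem hf) hq)) v hv.1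
    have h2 := mem_cent_iff.mp hv.2 q hq
    calc q * (f * v * f⁻¹) = f * (⁅f⁻¹, q⁆ * (q * v)) * f⁻¹ := by
          simp only [commutatorElement_def]; group
      _ = f * (v * ⁅f⁻¹, q⁆ * q) * f⁻¹ := by rw [h2, ← mul_assoc _ v, h1]
      _ = _ := by simp only [commutatorElement_def]; group
  have nQ : ∀ X ≤ 𝐍(V), X ≤ 𝐍(Q) → X ≤ 𝐍(F) → X ≤ 𝐍((V ⊓ 𝐂(Q₀) : Subgroup G)) :=
    fun X h1 h2 h3 => le_normalizer_inf h1 (le_normalizer_centralizer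
      (le_norm_CentSec h2 h3 (le_normalizer_centralizer h1)))
  have h' : FFH p s t (V ⊓ 𝐂(Q₀)) A F Q := ⟨h.ps, h.pt, h.st, abelem_of_le h.hV hle, h.hA,
    h.hF.mono_right (cent_anti hle), h.hFp, h.hQ, nQ _ h.AV h.AQ h.AF, hFV,
    nQ _ h.QV le_normalizer h.QF, h.QF, h.AF, h.AQ, h.FA.trans (cent_anti hle)⟩
  -- the `P × Q` lemma
  have key : ∀ X ≤ Q, ⁅F, X⁆ ≤ 𝐂((V ⊓ 𝐂(Q₀) : Subgroup G)) → X ≤ Q₀ := fun X hX hc => by
    refine le_CentSec hX ?_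
    have hY : ⁅F, X⁆ ≤ F := comm_le_left (hX.trans h.QF)
    obtain ⟨H, _, _, ψ, W, hk, hW, h1, h2, h3⟩ := exists_faith h.hV
    have hs' := (isPi_singleton_iff.mp ((piMod_iff_bar ψ h.FV).mp (hk ▸ h.hF))).to_le
      (bar_mono ψ hY)
    have hc0 : bar ψ Q₀ ≤ 𝐂(bar ψ ⁅F, X⁆) := cent_comm.mp ((bar_le_centralizer_iff ψ
      (hY.trans h.FV) (hQ0.trans h.QV)).mpr (hk ▸ (commutator_mono hY le_rfl).trans hF0))
    have h4 := thompson_A_times_B (abelem_isPGroup hW) (isPGroup_bar ψ (h.hQ.to_le hQ0))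
      (not_dvd_card_of_isPGroup hs' h.st.symm) (h1 _) (h1 _) hc0 (by
        have e1 := h3 (Q₀ ⊔ ⁅F, X⁆) (sup_le (hQ0.trans h.QV) (hY.trans h.FV))
        have e2 : (𝐂((Q₀ ⊔ ⁅F, X⁆ : Subgroup G))).relIndex V = (𝐂(Q₀)).relIndex V := by
          rw [← inf_relIndex_right, ← inf_relIndex_right (𝐂(Q₀)), centralizer_sup]
          congr 1
          exact le_antisymm (inf_le_inf_right _ inf_le_left) (le_inf (le_inf inf_le_left
            (by rw [inf_comm]; exact cent_comm.mp hc)) inf_le_right)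
        rw [e2, ← h3 _ (hQ0.trans h.QV), bar_sup ψ (hQ0.trans h.QV) (hY.trans h.FV),
          centralizer_sup] at e1
        have e3 : (𝐂(bar ψ Q₀) ⊓ 𝐂(bar ψ ⁅F, X⁆)) ⊓ W = 𝐂(bar ψ Q₀) ⊓ W := by
          refine eq_of_le_of_card_eq (inf_le_inf_right _ inf_le_left) ?_
          apply Nat.eq_of_mul_eq_mul_right (relIndex_pos (𝐂(bar ψ Q₀)) W)
          rw [card_inf_mul_relIndex, ← e1, card_inf_mul_relIndex]
        rw [inf_comm, ← e3]
        exact inf_le_left.trans inf_le_right)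
    rw [← hk, ← bar_eq_bot_iff ψ (hY.trans h.FV), eq_bot_iff, ← h2 ⁅F, X⁆]
    exact le_inf le_rfl (cent_comm.mp h4)
  refine (commutator_mono le_rfl (Lib.ZJ.JT_le_iff.mpr fun E hE => key E hE.le
    (comm_le_cent hFV ?_))).trans hF0
  refine h'.ff (Or.inl rfl) (fun e he hc => cent_comm.mp inf_le_right (key _ (zpowers_le.mpr he)
    hc (mem_zpowers e))) hE.le (Lib.ZJ.isElementaryAbelian_iff.mpr hE.ab) ?_
  rw [one_mul]
  exact Lib.Glaub.MaxAb.relIndex_le hE (Lib.ZJ.isElementaryAbelian_iff.mp h'.hV) (hle.trans hVQ)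
    inf_le_right

end Cfsg.Agent.Sig
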