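/- Solvable signalizer functors: preliminaries for the pair lemma. -/
import Cfsg.Agent.Lib.Sig.FF
import Cfsg.Agent.Lib.ZJ.Replace

set_option autoImplicit false
set_option linter.style.haveILetI false

namespace Cfsg.Agent.Sig

open Subgroup Cfsg.Agent.Lib.Core Cfsg.Agent.FT Cfsg.Agent.Lib.ZJ
open scoped Cfsg.Agent.Lib.Glaub commutatorElement

variable {G : Type*} [Group G]

/-- the subgroup generated by the `F`-conjugates of `Z` -/
def ncl (F Z : Subgroup G) : Subgroup G := ⨆ f : F, cj((f : G), Z)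

section
variable {F Z X : Subgroup G}

theorem ncl_le_iff : ncl F Z ≤ X ↔ ∀ f ∈ F, cj(f, Z) ≤ X :=
  iSup_le_iff.trans ⟨fun h f hf => h ⟨f, hf⟩, fun h f => h f f.2⟩

theorem cj_le_ncl {f : G} (hf : f ∈ F) : cj(f, Z) ≤ ncl F Z := ncl_le_iff.mp le_rfl f hf

theorem le_ncl : Z ≤ ncl F Z := by
  simpa only [cj_one] using cj_le_ncl (Z := Z) (one_mem F)

theorem ncl_le (h : Z ≤ X) (hF : F ≤ 𝐍(X)) : ncl F Z ≤ X :=
  ncl_le_iff.mpr fun _ hf => cj_le_of_le h (hF hf)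

theorem le_norm_ncl [Finite G] (hF : X ≤ 𝐍(F)) (hZ : X ≤ 𝐍(Z)) : X ≤ 𝐍(ncl F Z) := by
  intro x hx
  refine mem_normalizer_of_conj_mem (cj_le_iff.mp (cj_le_iff_le_cj_inv.mpr (ncl_le_iff.mpr
    fun f hf => cj_le_iff_le_cj_inv.mp ?_)))
  have : cj(x, cj(f, Z)) = cj(x * f * x⁻¹, Z) := by
    nth_rewrite 2 [← cj_eq_of_mem_norm (hZ hx)]
    rw [cj_cj, cj_cj, inv_mul_cancel_right]
  rw [this]
  exact cj_le_ncl (conj_mem_of_mem_normalizer (hF hx) hf)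

theorem self_le_norm_ncl [Finite G] : F ≤ 𝐍(ncl F Z) := by
  intro x hx
  refine mem_normalizer_of_conj_mem (cj_le_iff.mp (cj_le_iff_le_cj_inv.mpr (ncl_le_iff.mpr
    fun f hf => cj_le_iff_le_cj_inv.mp ?_)))
  rw [cj_cj]
  exact cj_le_ncl (mul_mem hx hf)

theorem ncl_isComm (h : ∀ f ∈ F, cj(f, Z) ≤ 𝐂(Z)) : IsMulCommutative (ncl F Z) := by
  refine isComm_iff_le_cent.mpr (ncl_le_iff.mpr fun f hf => cent_comm.mp
    (ncl_le_iff.mpr fun g hg => ?_))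
  have := (cj_le_cent_cj (g := f)).mpr (h _ (mul_mem (inv_mem hf) hg))
  rwa [cj_cj, mul_inv_cancel_left] at this

theorem ncl_abelem {t : ℕ} [Fact t.Prime] [Finite G] (hZ : IsElementaryAbelian t Z)
    (h : IsMulCommutative (ncl F Z)) {P : Subgroup G} (hP : IsPGroup t P) (hle : ncl F Z ≤ P) :
    IsElementaryAbelian t (ncl F Z) :=
  abelem_of_le (Ohm1_abelem' (hP.to_le hle) h) (ncl_le_iff.mpr fun _ hf =>
    le_Ohm1_of_abelem (abelem_cj.mpr hZ) (cj_le_ncl hf))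

end

variable [Finite G] {s t : ℕ} [ht : Fact t.Prime]

theorem exists_F {N : Subgroup G} (hN : Group.IsSolvable N) : ∃ F : ℕ → Subgroup G,
    (∀ s, OpOf t N ≤ F s ∧ F s ≤ N ∧ 𝐍(N) ≤ 𝐍(F s) ∧ (s.Prime → PiMod {s} (F s) (OpOf t N))) ∧
    ∀ T ≤ N, IsPGroup t T → (∀ s, s.Prime → s ≠ t → ⁅F s, T⁆ ≤ OpOf t N) → T ≤ OpOf t N := by
  obtain ⟨K, _, _, f, hf, hk, -⟩ := exists_bar ((OpOf_le N).trans le_normalizer)
    (le_normalizer_OpOf (p := t) (le_refl 𝐍(N)))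
  have hNN : N ≤ 𝐍(N) := le_normalizer
  refine ⟨fun s => unbar f (OpOf s (bar f N)), fun s => ⟨hk ▸ kerOf_le_unbar f _,
    unbar_le_of_le_bar f hNN (hk ▸ OpOf_le N) (OpOf_le _), le_norm_unbar f le_rfl
      (le_normalizer_OpOf (bar_le_normalizer f le_rfl)), fun hs => ?_⟩, fun T hT hTt h => ?_⟩
  · haveI := Fact.mk hs
    rw [← hk, piMod_iff_bar f (unbar_le f _), bar_unbar f hf]
    exact isPi_singleton_iff.mpr (OpOf_isPGroup _)
  · have h0 : OpOf t (bar f N) = ⊥ := by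
      rw [OpOf_eq_piCoreOf]; exact piCoreOf_bar_eq_bot f hNN (by rw [hk, OpOf_eq_piCoreOf])
    rw [← hk, ← bar_eq_bot_iff f (hT.trans hNN), eq_bot_iff, ← h0]
    refine le_OpOf_of_le_fittingOf (isPGroup_bar f hTt) (le_trans (le_inf (bar_mono f hT)
      (cent_comm.mp (fittingOf_le_of_forall_OpOf fun q hq => ?_)))
      (cent_sub_Fitting (isSolvable_bar f hN hNN)))
    by_cases hqt : q = t
    · rw [hqt, h0]; exact bot_le
    · have := (bar_le_centralizer_iff f (unbar_le f _) (hT.trans hNN)).mpr (hk ▸ h q hq hqt)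
      rwa [bar_unbar f hf] at this

variable [hs : Fact s.Prime] {F R E Y K Q V : Subgroup G}

theorem comm_comm_mod (hst : s ≠ t) (hF : PiMod {s} F R) (hFR : F ≤ 𝐍(R)) (hE : IsPGroup t E)
    (hER : E ≤ 𝐍(R)) (hEF : E ≤ 𝐍(F)) (h : ⁅⁅F, E⁆, E⁆ ≤ R) : ⁅F, E⁆ ≤ R := by
  obtain ⟨K, _, _, f, -, hk, -⟩ := (Nrm.normalizer R).exists_bar
  have hF' := isPi_singleton_iff.mp ((piMod_iff_bar f hFR).mp (hk ▸ hF))
  rw [← hk, ← bar_le_centralizer_iff f hFR hER, cent_comm]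
  refine coprime_commGG1P (bar_le_normalizer f hEF) (coprime_of_pgroups hF' (isPGroup_bar f hE) hst)
    (isSolvable_of_isPGroup hF') ?_
  rw [← bar_commutator f hFR hER, comm_eq_bot_iff,
    bar_le_centralizer_iff f (comm_le_of_le hFR hER) hER, hk]
  exact h

theorem hyper (hst : s ≠ t) (hF : PiMod {s} F R) (hFR : F ≤ 𝐍(R))
    (hE : IsElementaryAbelian t E) (hER : E ≤ 𝐍(R)) (hEF : E ≤ 𝐍(F)) (h : ¬ ⁅F, E⁆ ≤ R) :
    ∃ B ≤ E, R ⊓ E ≤ B ∧ B.relIndex E ≤ t ∧ ¬ ⁅CentSec F B R, E⁆ ≤ R := by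
  obtain ⟨K, _, _, f, -, hk, -⟩ := (Nrm.normalizer R).exists_bar
  have hF' := isPi_singleton_iff.mp ((piMod_iff_bar f hFR).mp (hk ▸ hF))
  have hE' := abelem_bar f hE
  obtain ⟨B, hBE, hB, hFB⟩ : ∃ B ≤ bar f E, CycMod (bar f E) B ∧ ¬ bar f F ⊓ 𝐂(B) ≤ 𝐂(bar f E) := by
    by_contra hno
    push Not at hno
    exact h (hk ▸ (bar_le_centralizer_iff f hFR hER).mp (coprime_abelian_gen_cent hE'.1
      (bar_le_normalizer f hEF) (coprime_of_pgroups hF' (abelem_isPGroup hE') hst) hno))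
  refine ⟨unbar f B ⊓ E, inf_le_right, inf_le_inf_right _ (hk.ge.trans (kerOf_le_unbar f B)), ?_,
    fun hle => hFB ?_⟩
  · rw [inf_relIndex_right, relIndex_unbar f hER]
    have h1 := (isCocyclic_iff.mpr ⟨hBE, hB⟩).card_le hE'
    rw [← card_mul_relIndex hBE, mul_comm t] at h1
    exact Nat.le_of_mul_le_mul_left h1 (FT.card_pos B)
  · have := (bar_le_centralizer_iff f ((CentSec_le _ _ _).trans hFR) hER).mpr (hle.trans hk.ge)
    have e : CentSec F (unbar f B ⊓ E) R = CentSec F (unbar f B ⊓ E) (kerOf f) := by rw [hk]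
    rwa [e, bar_CentSec f hFR (inf_le_right.trans hER), bar_unbar_inf, inf_eq_left.mpr hBE]
      at this

omit ht in
theorem le_of_selts (hst : s ≠ t) (ht : t.Prime) (hF : PiMod {s} F R) (hFR : F ≤ 𝐍(R))
    (hY : Y ≤ F) (hRK : R ≤ K) (h : ∀ x ∈ Y, (orderOf x).Coprime t → x ∈ K) : Y ≤ K := by
  refine le_of_forall_isSyl fun q hq => ?_
  haveI := Fact.mk hq
  haveI := Fact.mk ht
  obtain ⟨P, hP⟩ := exists_isSyl q Y
  refine ⟨P, hP, ?_⟩
  by_cases hqs : q = s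
  · subst hqs
    exact fun x hx => h x (hP.le hx)
      (coprime_orderOf_of_mem (not_dvd_card_of_isPGroup hP.isPGroup hst.symm) hx)
  · exact (hF.le hFR (hP.le.trans hY) (isPi_of_isPGroup hP.isPGroup hqs)).trans hRK

omit hs in
theorem fact {X : Subgroup G} (hQ : IsSyl t Q X) (hX : X ≤ F ⊔ Q) (hF : F ≤ X) (hK : K ⊲ X)
    (h : ⁅F, JT t Q⁆ ≤ K) : X ≤ K ⊔ (X ⊓ 𝐍(JT t Q)) := by
  have hJ : JT t Q ≤ X := (JT_le Q).trans hQ.le
  have hn : X ≤ 𝐍((K ⊔ JT t Q : Subgroup G)) := by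
    refine hX.trans (sup_le ?_ (le_normalizer_sup (hK.le_norm hQ.le) (le_normalizer_JT Q)))
    refine le_norm_iff_comm_le_left.mpr (commutator_sup_left_le
      ((hK.comm_le hF).trans le_sup_left) ?_ le_normalizer)
    rw [commutator_comm]
    exact h.trans le_sup_left
  have h1 := (hQ.inf_normal (sup_le hK.le hJ) hn).frattini_sup (sup_le hK.le hJ) hn
  refine h1.ge.trans (sup_le (sup_le le_sup_left ((le_inf hJ le_normalizer).trans le_sup_right))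
    ((inf_le_inf_left _ ?_).trans le_sup_right))
  have := normalizer_le_normalizer_JT (n := t) (Q ⊓ (K ⊔ JT t Q))
  rwa [JT_eq_of_le (le_inf (JT_le Q) le_sup_right) inf_le_left] at this

omit hs ht in
theorem off {B : Subgroup G} {c : ℕ} (hE : MaxAb t Q E) (hB : B ≤ Q)
    (hB' : IsElementaryAbelian t B) (hc : Nat.card E ≤ c * Nat.card B) (hV : V ≤ Q)
    (hV' : IsElementaryAbelian t V) : B.relIndex V ≤ c * (𝐂(V)).relIndex B := by
  have h1 := hE.max _ (sup_le (inf_le_right.trans hB) hV) (isElementaryAbelian_iff.mp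
    (abelem_sup (abelem_of_le hB' (inf_le_right : 𝐂(V) ⊓ B ≤ B)) hV' inf_le_left))
  have h2 := card_sup_mul_card_inf (H := 𝐂(V) ⊓ B) (N := V) (inf_le_left.trans (cent_le_norm V))
  have h3 : 𝐂(V) ⊓ B ⊓ V = B ⊓ V := le_antisymm (inf_le_inf_right _ inf_le_right)
    (le_inf (le_inf (inf_le_right.trans (abelem_le_cent hV')) inf_le_left) inf_le_right)
  rw [h3, ← card_inf_mul_relIndex B V] at h2
  rw [← card_inf_mul_relIndex (𝐂(V)) B] at hc
  have h4 := FT.card_pos (B ⊓ V)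
  have h5 := FT.card_pos (𝐂(V) ⊓ B)
  have h6 : Nat.card ↥(𝐂(V) ⊓ B ⊔ V) = Nat.card ↥(𝐂(V) ⊓ B) * B.relIndex V := by
    apply Nat.eq_of_mul_eq_mul_right h4
    rw [h2]; ring
  apply Nat.le_of_mul_le_mul_left _ h5
  calc _ ≤ c * (Nat.card ↥(𝐂(V) ⊓ B) * (𝐂(V)).relIndex B) := h6 ▸ h1.trans hc
    _ = _ := by ring

omit hs ht in
theorem relIndex_le_mul {B : Subgroup G} (hB : B ≤ V) (K : Subgroup G) :
    K.relIndex V ≤ B.relIndex V * K.relIndex B := by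
  calc _ ≤ (K ⊓ B).relIndex V := relIndex_le_of_le_left inf_le_left (relIndex_ne_zero _ _)
    _ = _ := by rw [← relIndex_mul_relIndex _ B V inf_le_right hB, inf_relIndex_right, mul_comm]

omit hs ht [Finite G] in
theorem cj_le_of_CentSec {B : Subgroup G} (hFR : F ≤ 𝐍(R)) (hR : R ≤ Q) (hB : B ≤ Q) {g : G}
    (hg : g ∈ CentSec F B R) : cj(g, B) ≤ Q := by
  refine cj_le_iff.mpr fun x hx => ?_
  have : g * x * g⁻¹ = ⁅x, g⁆⁻¹ * x := by simp only [commutatorElement_def]; group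
  rw [this]
  exact mul_mem (inv_mem (hR (((mem_CentSec hFR).mp hg).2 x hx))) (hB hx)

omit hs ht [Finite G] in
theorem relIndex_cent_cj_inv (X Y : Subgroup G) (g : G) :
    (𝐂(cj(g⁻¹, X))).relIndex Y = (𝐂(X)).relIndex cj(g, Y) := by
  rw [← relIndex_cj _ _ g, cj_cent, cj_cj_inv]

end Cfsg.Agent.Sig
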