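/- Solvable signalizer functors: definitions and first properties. -/
import Cfsg.Agent.Lib.Sig.CPa
import Cfsg.Agent.Lib.Glaub.Burnside

set_option autoImplicit false
set_option linter.style.haveILetI false

namespace Cfsg.Agent.Sig

open Subgroup Cfsg.Agent.Lib.Core Cfsg.Agent.FT
open scoped Cfsg.Agent.Lib.Glaub commutatorElement

variable {G : Type*} [Group G]

/-- `θ`-subgroups -/
structure Mem (p : ℕ) (A : Subgroup G) (θ : G → Subgroup G) (U : Subgroup G) : Prop where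
  norm : A ≤ 𝐍(U)
  sol : Group.IsSolvable U
  cop : ¬ p ∣ Nat.card U
  cent : ∀ a ∈ A, a ≠ 1 → U ⊓ C1 a ≤ θ a

/-- a solvable signalizer functor of rank three -/
structure SF (p : ℕ) (π : Finset ℕ) (A : Subgroup G) (θ : G → Subgroup G) : Prop where
  ab : IsElementaryAbelian p A
  card : Nat.card A = p ^ 3
  le : ∀ a ∈ A, a ≠ 1 → θ a ≤ C1 a
  mem : ∀ a ∈ A, a ≠ 1 → Mem p A θ (θ a)
  pi : ∀ a ∈ A, a ≠ 1 → IsPi π (θ a)

def Complete (p : ℕ) (A : Subgroup G) (θ : G → Subgroup G) : Prop :=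
  ∃ U, Mem p A θ U ∧ ∀ a ∈ A, a ≠ 1 → θ a ≤ U

structure Line (p : ℕ) (A l : Subgroup G) : Prop where
  le : l ≤ A
  card : Nat.card l = p ^ 2

/-- `C_θ(B)` -/
def Cl (θ : G → Subgroup G) (B : Subgroup G) : Subgroup G := ⨅ a : {a : G // a ∈ B ∧ a ≠ 1}, θ a

variable {p : ℕ} {π : Finset ℕ} {A l l' B U X Y : Subgroup G} {θ : G → Subgroup G} {a : G}

theorem Cl_le (ha : a ∈ B) (h1 : a ≠ 1) : Cl θ B ≤ θ a := iInf_le_of_le ⟨a, ha, h1⟩ le_rfl

theorem le_Cl (h : ∀ a ∈ B, a ≠ 1 → X ≤ θ a) : X ≤ Cl θ B := le_iInf fun a => h a a.2.1 a.2.2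

theorem Cl_anti (h : B ≤ l) : Cl θ l ≤ Cl θ B := le_Cl fun _ ha h1 => Cl_le (h ha) h1

theorem Mem.inf_le_Cl (h : Mem p A θ U) (hB : B ≤ A) : U ⊓ 𝐂(B) ≤ Cl θ B :=
  le_Cl fun a ha h1 => (inf_le_inf_left _ (cent_le_C1 ha)).trans (h.cent a (hB ha) h1)

theorem SF.Cl_le_cent (f : SF p π A θ) (hB : B ≤ A) : Cl θ B ≤ 𝐂(B) := by
  intro x hx
  refine mem_cent_iff.mpr fun b hb => ?_
  by_cases h1 : b = 1
  · simp [h1]
  · exact (mem_C1.mp (f.le b (hB hb) h1 (Cl_le hb h1 hx))).symm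

theorem SF.norm_cent (f : SF p π A θ) (hB : B ≤ A) : A ≤ 𝐍(𝐂(B)) :=
  le_normalizer_centralizer (le_norm_of_isComm f.ab.1 le_rfl hB)

theorem SF.norm_C1 (f : SF p π A θ) (ha : a ∈ A) : A ≤ 𝐍(C1 a) := by
  rw [← cent_zpowers]; exact f.norm_cent (zpowers_le.mpr ha)

variable [hp : Fact p.Prime]

theorem Mem.sub (h : Mem p A θ U) (hX : X ≤ U) (hn : A ≤ 𝐍(X)) : Mem p A θ X :=
  ⟨hn, isSolvable_of_le h.sol hX, not_dvd_card_of_le h.cop hX,
    fun a ha h1 => (inf_le_inf_right _ hX).trans (h.cent a ha h1)⟩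

theorem Mem.inf (h : Mem p A θ U) (hn : A ≤ 𝐍(X)) : Mem p A θ (U ⊓ X) :=
  h.sub inf_le_left (le_normalizer_inf h.norm hn)

theorem Mem.inf_norm (h : Mem p A θ U) (hn : A ≤ 𝐍(X)) : Mem p A θ (U ⊓ 𝐍(X)) :=
  h.inf (le_normalizer_normalizer hn)

theorem Mem.inf_cent (h : Mem p A θ U) (hn : A ≤ 𝐍(X)) : Mem p A θ (U ⊓ 𝐂(X)) :=
  h.inf (le_normalizer_centralizer hn)

theorem Mem.char (h : Mem p A θ U) (hX : X ≤ U) (hn : 𝐍(U) ≤ 𝐍(X)) : Mem p A θ X :=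
  h.sub hX (h.norm.trans hn)

theorem Mem.OpOf (h : Mem p A θ U) (q : ℕ) : Mem p A θ (OpOf q U) :=
  h.char (OpOf_le U) (le_normalizer_OpOf le_rfl)

theorem Mem.Zc (h : Mem p A θ U) : Mem p A θ (Zc U) := h.char (Zc_le U) (norm_le_norm_Zc U)

theorem mem_bot' : Mem p A θ ⊥ :=
  ⟨le_norm_bot, inferInstance, by simpa using hp.out.one_lt.ne', fun _ _ _ => inf_le_left.trans bot_le⟩

variable [Finite G]

theorem Mem.fitting (h : Mem p A θ U) : Mem p A θ (fittingOf U) :=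
  h.char (fittingOf_le U) (le_normalizer_fittingOf le_rfl)

omit [Finite G] in
theorem Mem.cj (f : SF p π A θ) (h : Mem p A θ U) {c : G} (hc : c ∈ Cl θ A) :
    Mem p A θ cj(c, U) := by
  have hcA := f.Cl_le_cent le_rfl hc
  refine ⟨?_, isSolvable_cj.mpr h.sol, by rw [card_cj]; exact h.cop, fun a ha h1 => ?_⟩
  · have := (cj_le_norm_cj (g := c)).mpr h.norm
    rwa [cj_eq_of_mem_cent hcA] at this
  · have := cj_mono c (h.cent a ha h1)
    rwa [cj_inf, cj_C1, mem_C1_iff_conj.mp (cent_le_C1 ha hcA),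
      cj_eq_of_mem (Cl_le ha h1 hc)] at this

namespace SF

theorem pgroup (f : SF p π A θ) : IsPGroup p A := abelem_isPGroup f.ab

theorem cop (f : SF p π A θ) (h : ¬ p ∣ Nat.card U) (hB : B ≤ A) :
    (Nat.card U).Coprime (Nat.card B) := (coprime_card_of_isPGroup (f.pgroup.to_le hB) h).symm

theorem act (f : SF p π A θ) (h : Mem p A θ U) (hB : B ≤ A) : CoprimeAct B U :=
  coprimeAct_of_isPGroup_left (f.pgroup.to_le hB) h.cop (hB.trans h.norm)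

theorem exists_line (f : SF p π A θ) : ∃ l, Line p A l := by
  obtain ⟨l, h1, h2⟩ := exists_le_card_eq_pow (H := A) (p := p) (n := 2)
    (f.card ▸ pow_dvd_pow p (by norm_num))
  exact ⟨l, h1, h2⟩

theorem line_nc (f : SF p π A θ) (h : Line p A l) : ¬ IsCyclic l := fun hc => by
  have := (abelem_cyclic_iff (abelem_of_le f.ab h.le)).mp hc
  rw [h.card] at this
  nlinarith [hp.out.two_le]

theorem line_ne (f : SF p π A θ) (h : Line p A l) : l ≠ ⊥ := fun h' =>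
  f.line_nc h (h' ▸ isCyclic_bot)

theorem exists_pt (f : SF p π A θ) : ∃ a ∈ A, a ≠ 1 := by
  obtain ⟨l, h⟩ := f.exists_line
  exact exists_ne_one (ne_bot_of_le h.le (f.line_ne h))

theorem meet (f : SF p π A θ) (h : Line p A l) (h' : Line p A l') : ∃ a ∈ l, a ∈ l' ∧ a ≠ 1 := by
  have : l ⊓ l' ≠ ⊥ := fun h0 => by
    have := card_mul_le_of_inf h.le h'.le (le_norm_of_isComm f.ab.1 h.le h'.le) h0
    rw [h.card, h'.card, f.card, ← pow_add, Nat.pow_le_pow_iff_right hp.out.one_lt] at this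
    omega
  obtain ⟨a, ha, h1⟩ := exists_ne_one this
  exact ⟨a, ha.1, ha.2, h1⟩

theorem line_sup (f : SF p π A θ) (h : Line p A l) (ha : a ∈ A) (hal : a ∉ l) :
    l ⊔ zpowers a = A := by
  have h1 : l.relIndex A = p := by
    have := card_mul_relIndex h.le
    rw [h.card, f.card, pow_succ _ 2] at this
    exact Nat.eq_of_mul_eq_mul_left (pow_pos hp.out.pos 2) this
  exact (maxIn_of_prime_relIndex h.le (h1 ▸ hp.out)).sup_eq (by simpa using hal)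
    (zpowers_le.mpr ha)

theorem gen_line (f : SF p π A θ) (hn : A ≤ 𝐍(U)) (hU : ¬ p ∣ Nat.card U)
    (h : ∀ l, Line p A l → U ⊓ 𝐂(l) ≤ X) : U ≤ X := by
  refine coprime_abelian_gen_cent f.ab.1 hn (f.cop hU le_rfl) fun B hB hc => ?_
  have h1 := (isCocyclic_iff.mpr ⟨hB, hc⟩).card_le f.ab
  rw [f.card, pow_succ'] at h1
  obtain ⟨l, h2, h3⟩ := exists_le_card_eq_pow (pow_dvd_card_of_le (f.pgroup.to_le hB)
    (Nat.le_of_mul_le_mul_left h1 hp.out.pos))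
  exact (inf_le_inf_left _ (cent_anti h2)).trans (h l ⟨h2.trans hB, h3⟩)

theorem gen_pt (f : SF p π A θ) (hl : Line p A l) (hn : A ≤ 𝐍(U)) (hU : ¬ p ∣ Nat.card U)
    (h : ∀ a ∈ l, a ≠ 1 → U ⊓ C1 a ≤ X) : U ≤ X :=
  coprime_abelian_gen_cent1 (isComm_of_le f.ab.1 hl.le) (f.line_nc hl) (hl.le.trans hn)
    (f.cop hU hl.le) h

theorem exists_line_not_le (f : SF p π A θ) (hU : Mem p A θ U) (h : ¬ U ≤ X) :
    ∃ l, Line p A l ∧ ¬ U ⊓ 𝐂(l) ≤ X := by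
  by_contra hno
  push Not at hno
  exact h (f.gen_line hU.norm hU.cop hno)

theorem exists_pt_not_le (f : SF p π A θ) (hl : Line p A l) (hU : Mem p A θ U) (h : ¬ U ≤ X) :
    ∃ a ∈ l, a ≠ 1 ∧ ¬ U ⊓ C1 a ≤ X := by
  by_contra hno
  push Not at hno
  exact h (f.gen_pt hl hU.norm hU.cop hno)

theorem exists_line_ne (f : SF p π A θ) (hU : Mem p A θ U) (h : U ≠ ⊥) :
    ∃ l, Line p A l ∧ U ⊓ 𝐂(l) ≠ ⊥ := by
  simpa only [le_bot_iff] using f.exists_line_not_le (X := ⊥) hU (by simpa using h)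

theorem exists_pt_ne (f : SF p π A θ) (hl : Line p A l) (hU : Mem p A θ U) (h : U ≠ ⊥) :
    ∃ a ∈ l, a ≠ 1 ∧ U ⊓ C1 a ≠ ⊥ := by
  simpa only [le_bot_iff] using f.exists_pt_not_le (X := ⊥) hl hU (by simpa using h)

theorem mem_Cl (f : SF p π A θ) (hB : B ≤ A) (h1 : B ≠ ⊥) : Mem p A θ (Cl θ B) := by
  obtain ⟨b, hb, hb1⟩ := exists_ne_one h1
  refine (f.mem b (hB hb) hb1).sub (Cl_le hb hb1) fun a ha => mem_normalizer_of_conj_mem
    fun x hx => le_Cl (X := zpowers _) (fun c hc hc1 => zpowers_le.mpr ?_) (mem_zpowers _)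
  exact conj_mem_of_mem_normalizer ((f.mem c (hB hc) hc1).norm ha) (Cl_le hc hc1 hx)

theorem mem_C0 (f : SF p π A θ) : Mem p A θ (Cl θ A) := by
  obtain ⟨a, ha, h1⟩ := f.exists_pt
  exact f.mem_Cl le_rfl (ne_bot_of_mem ha h1)

theorem mem_line (f : SF p π A θ) (hl : Line p A l) : Mem p A θ (Cl θ l) :=
  f.mem_Cl hl.le (f.line_ne hl)

theorem le_of_pts (f : SF p π A θ) (hl : Line p A l) (h : ∀ a ∈ l, a ≠ 1 → θ a ≤ X)
    (hU : Mem p A θ U) : U ≤ X :=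
  f.gen_pt hl hU.norm hU.cop fun a ha h1 => (hU.cent a (hl.le ha) h1).trans (h a ha h1)

theorem le_of_lines (f : SF p π A θ) (h : ∀ l, Line p A l → Cl θ l ≤ X)
    (hU : Mem p A θ U) : U ≤ X :=
  f.gen_line hU.norm hU.cop fun l hl => (hU.inf_le_Cl hl.le).trans (h l hl)

theorem isPi (f : SF p π A θ) (hU : Mem p A θ U) : IsPi π U := by
  intro q hq hd
  haveI := Fact.mk hq
  obtain ⟨S, hS, hAS⟩ := (f.act hU le_rfl).exists_isSyl q
  obtain ⟨l, hl⟩ := f.exists_line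
  obtain ⟨a, ha, h1, h⟩ := f.exists_pt_ne hl (hU.sub hS.le hAS) (hS.ne_bot hd)
  exact ((f.pi a (hl.le ha) h1).to_le ((hU.sub hS.le hAS).cent a (hl.le ha) h1)).mem_of_isPGroup
    (hS.isPGroup.to_le inf_le_left) h

theorem sup (f : SF p π A θ) (hX : Mem p A θ X) (hY : Mem p A θ Y) (h : Y ≤ 𝐍(X)) :
    Mem p A θ (X ⊔ Y) := by
  refine ⟨le_normalizer_sup hX.norm hY.norm, sup_comm X Y ▸ isSolvable_sup hY.sol hX.sol h,
    sup_comm X Y ▸ not_dvd_card_sup hY.cop hX.cop h, fun a ha h1 => ?_⟩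
  rintro _ ⟨hg, hga⟩
  obtain ⟨x, hx, y, hy, rfl⟩ := (mem_sup_of_le_normalizer_left h).mp hg
  have hI := hX.inf hY.norm
  have haA := zpowers_le.mpr ha
  have := coprime_quotient_cent (inf_le_right : X ⊓ Y ≤ Y) (haA.trans hI.norm)
    (f.cop hI.cop haA) (Or.inl hI.sol) hy fun b hb =>
      mem_inf.mpr ⟨?_, H6.comm_mem (hY.norm (haA hb)) hy⟩
  · obtain ⟨i, hi, c, hc, rfl⟩ := (mem_sup_of_le_normalizer_left (inf_le_left.trans
      (le_normalizer_inf h le_normalizer))).mp this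
    rw [cent_zpowers] at hc
    rw [← mul_assoc] at hga ⊢
    have hga' : x * i * c ∈ C1 a := hga
    have hc' : c ∈ C1 a := hc.2
    exact mul_mem (hX.cent a ha h1 ⟨mul_mem hx hi.1, by simpa using mul_mem hga' (inv_mem hc')⟩)
      (hY.cent a ha h1 hc)
  · have h2 := mem_C1.mp (C1_le_C1_of_mem_zpowers hb hga)
    have : ⁅y, b⁆ = x⁻¹ * (b * x * b⁻¹) := by
      calc ⁅y, b⁆ = x⁻¹ * (x * y * b) * y⁻¹ * b⁻¹ := by simp only [commutatorElement_def]; group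
        _ = _ := by rw [h2]; group
    rw [this]
    exact mul_mem (inv_mem hx) (conj_mem_of_mem_normalizer (hX.norm (haA hb)) hx)

end SF

omit hp in
theorem isProd_sup {Q R R' : Subgroup G} (h : IsProd Q R X) (h' : IsProd Q R' Y) :
    IsProd Q (R ⊔ R') (X ⊔ Y) := by
  let T : Subgroup G :=
    { carrier := {g | ∀ q ∈ Q, ∀ r ∈ R ⊔ R', (∃ q' ∈ Q, ∃ r' ∈ R ⊔ R', q' * r' = g * (q * r)) ∧
        ∃ q' ∈ Q, ∃ r' ∈ R ⊔ R', q' * r' = g⁻¹ * (q * r)}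
      one_mem' := fun q hq r hr => ⟨⟨q, hq, r, hr, by simp⟩, q, hq, r, hr, by simp⟩
      inv_mem' := fun {g} hg q hq r hr => ⟨(hg q hq r hr).2, by simpa using (hg q hq r hr).1⟩
      mul_mem' := fun {g k} hg hk q hq r hr => by
        constructor
        · obtain ⟨q', h1, r', h2, h3⟩ := (hk q hq r hr).1
          rw [mul_assoc, ← h3]
          exact (hg q' h1 r' h2).1
        · obtain ⟨q', h1, r', h2, h3⟩ := (hg q hq r hr).2
          rw [mul_inv_rev, mul_assoc, ← h3]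
          exact (hk q' h1 r' h2).2 }
  have key : ∀ R₀ X, IsProd Q R₀ X → R₀ ≤ R ⊔ R' → X ≤ T := fun R₀ X h hR g hg q hq r hr => by
    have : ∀ g ∈ X, ∃ q' ∈ Q, ∃ r' ∈ R ⊔ R', q' * r' = g * (q * r) := fun g hg => by
      obtain ⟨q', h1, r', h2, h3⟩ := h.mem _ (mul_mem hg (h.left hq))
      exact ⟨q', h1, r' * r, mul_mem (hR h2) hr, by rw [← mul_assoc, h3, mul_assoc]⟩
    exact ⟨this g hg, this _ (inv_mem hg)⟩
  refine ⟨h.left.trans le_sup_left, sup_le_sup h.right h'.right, fun g hg => ?_⟩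
  simpa using (sup_le (key R X h le_sup_left) (key R' Y h' le_sup_right) hg 1 (one_mem _) 1
    (one_mem _)).1

end Cfsg.Agent.Sig
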