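/- Solvable signalizer functors: transitivity, quotients and restriction of primes. -/
import Cfsg.Agent.Lib.Sig.Base

set_option autoImplicit false
set_option linter.style.haveILetI false

namespace Cfsg.Agent.Sig

open Subgroup Cfsg.Agent.Lib.Core Cfsg.Agent.FT
open scoped Cfsg.Agent.Lib.Glaub commutatorElement

universe u

section
variable {G : Type*} [Group G]

structure MaxQ (p : ℕ) (A : Subgroup G) (θ : G → Subgroup G) (q : ℕ) (S : Subgroup G) :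
    Prop where
  mem : Mem p A θ S
  pg : IsPGroup q S
  max : ∀ T, Mem p A θ T → IsPGroup q T → S ≤ T → T = S

variable {p q s t : ℕ} {π : Finset ℕ} {A l B U X Y S R Q : Subgroup G} {θ : G → Subgroup G}
variable [hp : Fact p.Prime] [Finite G]

omit hp in
theorem le_norm_sSup {𝒮 : Set (Subgroup G)} (h : ∀ K ∈ 𝒮, X ≤ 𝐍(K)) : X ≤ 𝐍(sSup 𝒮) :=
  fun _ hx => mem_normalizer_of_conj_mem (cj_le_iff.mp (cj_le_iff_le_cj_inv.mpr (sSup_le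
    fun K hK => cj_le_iff_le_cj_inv.mp (cj_le_of_le le_rfl (h K hK hx) |>.trans (le_sSup hK)))))

omit hp in
theorem exists_maxQ (h : Mem p A θ X) (hX : IsPGroup q X) : ∃ S, MaxQ p A θ q S ∧ X ≤ S := by
  obtain ⟨S, h1, h2, h3⟩ := exists_maximal_subgroup
    (P := fun T => Mem p A θ T ∧ IsPGroup q T) ⟨h, hX⟩
  exact ⟨S, ⟨h2.1, h2.2, fun T a b c => h3 T ⟨a, b⟩ c⟩, h1⟩

theorem exists_maxQ' (q : ℕ) : ∃ S, MaxQ p A θ q S :=
  (exists_maxQ mem_bot' IsPGroup.of_bot).imp fun _ h => h.1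

omit [Finite G] in
theorem MaxQ.cj (f : SF p π A θ) (h : MaxQ p A θ q S) {c : G} (hc : c ∈ Cl θ A) :
    MaxQ p A θ q cj(c, S) :=
  ⟨h.mem.cj f hc, isPGroup_cj.mpr h.pg, fun T h1 h2 h3 => by
    rw [← h.max _ (h1.cj f (inv_mem hc)) (isPGroup_cj.mpr h2) (cj_le_iff_le_cj_inv.mp h3),
      cj_cj_inv]⟩

namespace SF

variable [hq : Fact q.Prime]

theorem trans_aux (f : SF p π A θ) (D : Subgroup G) : ∀ S₁ S₂, MaxQ p A θ q S₁ →
    MaxQ p A θ q S₂ → D ≤ S₁ ⊓ S₂ → ∃ c ∈ Cl θ A, cj(c, S₁) = S₂ := by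
  induction D using subgroup_induction_gt with
  | _ D ih =>
  intro S₁ S₂ h₁ h₂ hD
  rcases hD.lt_or_eq with hD' | rfl
  · exact ih _ hD' S₁ S₂ h₁ h₂ le_rfl
  by_cases e₁ : S₁ ≤ S₂
  · exact ⟨1, one_mem _, by rw [cj_one, h₁.max _ h₂.mem h₂.pg e₁]⟩
  by_cases e₂ : S₂ ≤ S₁
  · exact ⟨1, one_mem _, by rw [cj_one, h₂.max _ h₁.mem h₁.pg e₂]⟩
  have mD := h₁.mem.inf h₂.mem.norm
  obtain ⟨l₁, hl₁, k₁⟩ := f.exists_line_not_le (h₁.mem.inf_norm mD.norm)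
    (lt_inf_normalizer_of_isPGroup h₁.pg (inf_lt_left.mpr e₁)).not_ge
  obtain ⟨l₂, hl₂, k₂⟩ := f.exists_line_not_le (h₂.mem.inf_norm mD.norm)
    (lt_inf_normalizer_of_isPGroup h₂.pg (inf_lt_right.mpr e₂)).not_ge
  obtain ⟨a, ha₁, ha₂, ha⟩ := f.meet hl₁ hl₂
  have mH := f.sup mD ((f.mem a (hl₁.le ha₁) ha).inf_norm mD.norm) inf_le_right
  generalize hH : S₁ ⊓ S₂ ⊔ θ a ⊓ 𝐍((S₁ ⊓ S₂ : Subgroup G)) = H at mH
  have key : ∀ S l : Subgroup G, MaxQ p A θ q S → a ∈ l → S₁ ⊓ S₂ ≤ S →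
      ¬ S ⊓ 𝐍((S₁ ⊓ S₂ : Subgroup G)) ⊓ 𝐂(l) ≤ S₁ ⊓ S₂ → ∃ T S', IsSyl q T H ∧ A ≤ 𝐍(T) ∧
        S₁ ⊓ S₂ < T ∧ MaxQ p A θ q S' ∧ T ≤ S' ∧ ∃ c ∈ Cl θ A, cj(c, S) = S' := by
    intro S l hS hal hle hk
    have h1 : S₁ ⊓ S₂ < S ⊓ H := lt_of_le_of_ne (le_inf hle (hH ▸ le_sup_left)) fun h =>
      hk (le_trans (le_inf (inf_le_left.trans inf_le_left) (le_trans (le_sup_of_le_right (le_inf
        ((inf_le_inf inf_le_left (cent_le_C1 hal)).trans (hS.mem.cent a (hl₁.le ha₁) ha))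
        (inf_le_left.trans inf_le_right))) hH.le)) h.ge)
    obtain ⟨T, h2, h3, h4⟩ := (f.act mH le_rfl).exists_isSyl_ge (hS.pg.to_le inf_le_left)
      inf_le_right (hS.mem.inf mH.norm).norm
    obtain ⟨S', h5, h6⟩ := exists_maxQ (mH.sub h2.le h3) h2.isPGroup
    exact ⟨T, S', h2, h3, h1.trans_le h4, h5, h6,
      ih _ h1 S S' hS h5 (le_inf inf_le_left (h4.trans h6))⟩
  obtain ⟨T₁, S₁', a₁, b₁, -, d₁, g₁, c₁, hc₁, rfl⟩ := key S₁ l₁ h₁ ha₁ inf_le_left k₁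
  obtain ⟨T₂, S₂', a₂, b₂, i₂, d₂, g₂, c₂, hc₂, rfl⟩ := key S₂ l₂ h₂ ha₂ inf_le_right k₂
  obtain ⟨c, hc, e⟩ := (f.act mH le_rfl).exists_conj_isSyl a₁ a₂ b₁ b₂
  have hc' := mH.inf_le_Cl le_rfl hc
  obtain ⟨c₃, hc₃, e₃⟩ := ih _ i₂ _ _ (d₁.cj f hc') d₂ (le_inf (e ▸ cj_mono c g₁) g₂)
  refine ⟨c₂⁻¹ * (c₃ * (c * c₁)), mul_mem (inv_mem hc₂) (mul_mem hc₃ (mul_mem hc' hc₁)), ?_⟩
  rw [← cj_cj, ← cj_cj, ← cj_cj, e₃, cj_inv_cj]

theorem syl (f : SF p π A θ) (hS : MaxQ p A θ q S) (hU : Mem p A θ U) (h : Cl θ A ≤ 𝐍(U)) :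
    IsSyl q (S ⊓ U) U := by
  obtain ⟨T, h1, h2⟩ := (f.act hU le_rfl).exists_isSyl q
  obtain ⟨S', h3, h4⟩ := exists_maxQ (hU.sub h1.le h2) h1.isPGroup
  obtain ⟨c, hc, rfl⟩ := f.trans_aux ⊥ S' S h3 hS bot_le
  have h5 := h1.conj_of_mem_normalizer (h hc)
  exact h5.of_card_le (hS.pg.to_le inf_le_left) inf_le_right
    (card_le_of_le (le_inf (cj_mono c h4) h5.le))

theorem le_maxQ (f : SF p π A θ) (hS : MaxQ p A θ q S) (hX : Mem p A θ X) (hq : IsPGroup q X)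
    (h : Cl θ A ≤ 𝐍(X)) : X ≤ S :=
  ((f.syl hS hX h).eq_of_le hq inf_le_right le_rfl).le.trans inf_le_left

theorem sup_q (f : SF p π A θ) (hX : Mem p A θ X) (hq : IsPGroup q X) (h : Cl θ A ≤ 𝐍(X))
    (hY : Mem p A θ Y) (hq' : IsPGroup q Y) (h' : Cl θ A ≤ 𝐍(Y)) : Mem p A θ (X ⊔ Y) := by
  obtain ⟨S, hS⟩ := exists_maxQ' (p := p) (A := A) (θ := θ) q
  exact hS.mem.sub (sup_le (f.le_maxQ hS hX hq h) (f.le_maxQ hS hY hq' h'))
    (le_normalizer_sup hX.norm hY.norm)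

theorem exists_P (f : SF p π A θ) (q : ℕ) [Fact q.Prime] : ∃ P, Mem p A θ P ∧ IsPGroup q P ∧
    Cl θ A ≤ 𝐍(P) ∧ ∀ X, Mem p A θ X → IsPGroup q X → Cl θ A ≤ 𝐍(X) → X ≤ P := by
  obtain ⟨S, hS⟩ := exists_maxQ' (p := p) (A := A) (θ := θ) q
  have h : sSup {X | Mem p A θ X ∧ IsPGroup q X ∧ Cl θ A ≤ 𝐍(X)} ≤ S :=
    sSup_le fun X h => f.le_maxQ hS h.1 h.2.1 h.2.2
  exact ⟨_, hS.mem.sub h (le_norm_sSup fun K h => h.1.norm), hS.pg.to_le h,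
    le_norm_sSup fun K h => h.2.2, fun X h1 h2 h3 => le_sSup ⟨h1, h2, h3⟩⟩

theorem complete_of_q (f : SF p π A θ) (h : ∀ a ∈ A, a ≠ 1 → IsPGroup q (θ a)) :
    Complete p A θ := by
  obtain ⟨S, hS⟩ := exists_maxQ' (p := p) (A := A) (θ := θ) q
  exact ⟨S, hS.mem, fun a ha h1 => f.le_maxQ hS (f.mem a ha h1) (h a ha h1)
    ((Cl_le ha h1).trans le_normalizer)⟩

end SF

omit hp in
theorem le_of_two [Fact s.Prime] [Fact t.Prime] (h : IsPi {t, s} U) (hQ : IsSyl t Q U)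
    (hR : IsSyl s R U) (h1 : Q ≤ X) (h2 : R ≤ X) : U ≤ X := by
  refine le_of_forall_isSyl fun r hr => ?_
  by_cases hrt : r = t
  · exact ⟨Q, hrt ▸ hQ, h1⟩
  by_cases hrs : r = s
  · exact ⟨R, hrs ▸ hR, h2⟩
  haveI := Fact.mk hr
  obtain ⟨P, hP⟩ := exists_isSyl r U
  exact ⟨P, hP, (hP.eq_bot (h.not_dvd (by simp [hrt, hrs]))).le.trans bot_le⟩

theorem SF.perm [hs : Fact s.Prime] [ht : Fact t.Prime] (f : SF p π A θ) (hst : s ≠ t)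
    (hX : Mem p A θ X) (hY : Mem p A θ Y) (cX : Cl θ A ≤ 𝐍(X)) (cY : Cl θ A ≤ 𝐍(Y))
    (pX : IsPi {t, s} X) (pY : IsPi {t, s} Y) (sX : IsSyl t Q X) (sY : IsSyl t Q Y)
    (hQ : A ≤ 𝐍(Q)) : Mem p A θ (X ⊔ Y) := by
  obtain ⟨R, hR⟩ := exists_maxQ' (p := p) (A := A) (θ := θ) s
  have key : ∀ X, Mem p A θ X → Cl θ A ≤ 𝐍(X) → IsPi {t, s} X → IsSyl t Q X →
      IsProd Q (R ⊓ X) X := fun X h1 h2 h3 h4 => by
    refine isProd_of_coprime_relIndex h4.le inf_le_right (Nat.coprime_of_dvd fun r hr a b => ?_)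
    rcases h3 r hr (a.trans (relIndex_dvd_card' _ _)) with rfl | rfl
    · exact h4.not_dvd a
    · exact (f.syl hR h1 h2).not_dvd b
  have h := isProd_sup (key X hX cX pX sX) (key Y hY cY pY sY)
  have mQ := hX.sub sX.le hQ
  have hle : R ⊓ X ⊔ R ⊓ Y ≤ R := sup_le inf_le_left inf_le_left
  have mR := hR.mem.sub hle (le_normalizer_sup (hR.mem.inf hX.norm).norm (hR.mem.inf hY.norm).norm)
  have hRs := hR.pg.to_le hle
  have hpi : IsPi {t, s} ↥(X ⊔ Y) :=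
    h.isPi (isPi_of_isPGroup sX.isPGroup (by simp)) (isPi_of_isPGroup hRs (by simp))
  have hn := le_normalizer_sup hX.norm hY.norm
  have hc : ¬ p ∣ Nat.card ↥(X ⊔ Y) := fun hd =>
    (hp.out.dvd_mul.mp (hd.trans h.card_dvd)).elim mQ.cop mR.cop
  refine ⟨hn, Lib.Glaub.isSolvable_of_two_primes ht.out hs.out _ fun r hr hd => hpi r hr hd, hc,
    fun a ha h1 => ?_⟩
  have haA := zpowers_le.mpr ha
  have act := coprimeAct_of_isPGroup_left (f.pgroup.to_le haA) hc (haA.trans hn)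
  have s1 := act.isSyl_inf_centralizer (h.isHall_left (isPi_singleton_iff.mpr sX.isPGroup)
    (isPi_of_isPGroup hRs hst)).toSyl (haA.trans hQ)
  have s2 := act.isSyl_inf_centralizer (h.isHall_right (isPi_of_isPGroup sX.isPGroup hst.symm)
    (isPi_singleton_iff.mpr hRs)).toSyl (haA.trans mR.norm)
  rw [cent_zpowers] at s1 s2
  exact le_of_two (hpi.to_le inf_le_left) s1 s2 (mQ.cent a ha h1) (mR.cent a ha h1)

/-- restriction to the primes other than `u` -/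
theorem SF.restrict (f : SF p π A θ) (u : ℕ)
    (IH : ∀ θ' : G → Subgroup G, SF p (π.erase u) A θ' → Complete p A θ') :
    ∃ D, Mem p A θ D ∧ Cl θ A ≤ 𝐍(D) ∧
      ∀ K, Mem p A θ K → Cl θ A ≤ 𝐍(K) → IsPi {u}ᶜ K → K ≤ D := by
  let θ' : G → Subgroup G := fun a =>
    sSup {K | K ≤ θ a ∧ IsPi {u}ᶜ K ∧ A ≤ 𝐍(K) ∧ Cl θ A ≤ 𝐍(K)}
  have h1 : ∀ a, θ' a ≤ θ a := fun a => sSup_le fun K h => h.1
  have h2 : ∀ a, A ≤ 𝐍(θ' a) := fun a => le_norm_sSup fun K h => h.2.2.1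
  have h3 : ∀ a, Cl θ A ≤ 𝐍(θ' a) := fun a => le_norm_sSup fun K h => h.2.2.2
  have h4 : ∀ a ∈ A, a ≠ 1 → IsPi {u}ᶜ (θ' a) := fun a ha h => by
    have m := f.mem a ha h
    obtain ⟨H, hH, hAH⟩ := coprime_Hall_exists {u}ᶜ m.norm (f.cop m.cop le_rfl) m.sol
    refine hH.isPi.to_le (sSup_le fun K hK => ?_)
    obtain ⟨H', a1, a2, a3⟩ := coprime_Hall_subset m.norm (f.cop m.cop le_rfl) m.sol hK.1 hK.2.1
      hK.2.2.1
    obtain ⟨c, hc, rfl⟩ := coprime_Hall_trans m.norm (f.cop m.cop le_rfl) m.sol a1 a2 hH hAH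
    exact (cj_eq_of_mem_norm (hK.2.2.2 (m.inf_le_Cl le_rfl hc))).ge.trans (cj_mono c a3)
  have h5 : ∀ K, Mem p A θ K → Cl θ A ≤ 𝐍(K) → IsPi {u}ᶜ K → Mem p A θ' K := fun K a1 a2 a3 =>
    ⟨a1.norm, a1.sol, a1.cop, fun b hb h => le_sSup ⟨a1.cent b hb h, a3.to_le inf_le_left,
      le_normalizer_inf a1.norm (f.norm_C1 hb), le_normalizer_inf a2
        (((f.Cl_le_cent le_rfl).trans (cent_le_C1 hb)).trans le_normalizer)⟩⟩
  have f' : SF p (π.erase u) A θ' := ⟨f.ab, f.card, fun a ha h => (h1 a).trans (f.le a ha h),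
    fun a ha h => h5 _ ((f.mem a ha h).sub (h1 a) (h2 a)) (h3 a) (h4 a ha h),
    fun a ha h r hr hd => Finset.mem_coe.mpr (Finset.mem_erase.mpr
      ⟨h4 a ha h r hr hd, (f.pi a ha h).to_le (h1 a) r hr hd⟩)⟩
  obtain ⟨D, hD, h6⟩ := IH θ' f'
  obtain ⟨l, hl⟩ := f.exists_line
  have e : D = sSup {K | ∃ a ∈ A, a ≠ 1 ∧ θ' a = K} := le_antisymm
    (f'.le_of_pts hl (fun a ha h => le_sSup ⟨a, hl.le ha, h, rfl⟩) hD)
    (sSup_le fun K ⟨a, ha, h, e⟩ => e ▸ h6 a ha h)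
  refine ⟨D, ⟨hD.norm, hD.sol, hD.cop, fun a ha h => (hD.cent a ha h).trans (h1 a)⟩, ?_,
    fun K a1 a2 a3 => f'.le_of_pts hl (fun a ha h => h6 a (hl.le ha) h) (h5 K a1 a2 a3)⟩
  rw [e]
  exact le_norm_sSup fun K ⟨a, _, _, e⟩ => e ▸ h3 a

end

/-- local completeness -/
theorem SF.quot {G : Type u} [Group G] [Finite G] {p : ℕ} [hp : Fact p.Prime] {π : Finset ℕ}
    {A X : Subgroup G} {θ : G → Subgroup G} (f : SF p π A θ)
    (IH : ∀ (H : Type u) [Group H] [Finite H], Nat.card H < Nat.card G →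
      ∀ (A : Subgroup H) (θ : H → Subgroup H), SF p π A θ → Complete p A θ)
    (hX : Mem p A θ X) (h1 : X ≠ ⊥) :
    ∃ U, Mem p A θ U ∧ ∀ Y, Mem p A θ Y → Y ≤ 𝐍(X) → Y ≤ U := by
  obtain ⟨H, _, _, φ, hφ, hk, -, hlt⟩ := (Nrm.normalizer X).exists_bar_lt h1
  have hA := hX.norm
  have hkp : ¬ p ∣ Nat.card (kerOf φ) := by rw [hk]; exact hX.cop
  let θ' : H → Subgroup H := fun y =>
    ⨆ a : {a : 𝐍(X) // (a : G) ∈ A ∧ φ a = y}, bar φ (θ a.1 ⊓ 𝐍(X))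
  have h2 : ∀ a : 𝐍(X), (a : G) ∈ A → θ' (φ a) = bar φ (θ a ⊓ 𝐍(X)) := fun a ha => by
    refine le_antisymm (iSup_le fun b => ?_) (le_iSup_of_le ⟨a, ha, rfl⟩ le_rfl)
    have h3 : ((a⁻¹ * b.1 : 𝐍(X)) : G) ∈ kerOf φ :=
      (mem_kerOf φ).mpr (by rw [map_mul, map_inv, b.2.2, inv_mul_cancel])
    have h4 := (inf_eq_bot_of_isPGroup_of_not_dvd f.pgroup hkp).le
      (mem_inf.mpr ⟨mul_mem (inv_mem ha) b.2.1, h3⟩)
    rw [mem_bot, inv_mul_eq_one] at h4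
    rw [h4]
  have h3 : ∀ y ∈ bar φ A, y ≠ 1 → ∃ a : 𝐍(X), (a : G) ∈ A ∧ (a : G) ≠ 1 ∧ φ a = y := by
    intro y hy h
    obtain ⟨a, ha, rfl⟩ := (mem_bar _).mp hy
    exact ⟨a, ha, fun h' => h (by rw [show a = 1 from Subtype.ext h', map_one]), rfl⟩
  have h4 : ∀ Y, Mem p A θ Y → Y ≤ 𝐍(X) → Mem p (bar φ A) θ' (bar φ Y) := fun Y hY hn => by
    refine ⟨bar_le_normalizer φ hY.norm, isSolvable_bar φ hY.sol hn, not_dvd_card_bar φ hY.cop,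
      fun y hy h => ?_⟩
    obtain ⟨a, ha, ha1, rfl⟩ := h3 y hy h
    have m := f.sup hX hY hn
    rw [h2 a ha, ← cent_zpowers, ← bar_zpowers, ← bar_sup_kerOf φ hn, ← bar_inf_centralizer φ
      (f.pgroup.to_le (zpowers_le.mpr ha)) (zpowers_le.mpr a.2) hkp le_sup_right, cent_zpowers,
      hk, sup_comm]
    exact bar_mono φ (le_inf (m.cent a ha ha1) (inf_le_left.trans (sup_le le_normalizer hn)))
  have f' : SF p π (bar φ A) θ' := ⟨abelem_bar φ f.ab,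
    (card_bar_of_isPGroup φ f.pgroup hA hkp).trans f.card, fun y hy h => ?_, fun y hy h => ?_,
    fun y hy h => ?_⟩
  · obtain ⟨U, hU, h5⟩ := IH H hlt _ _ f'
    have hXU : X ≤ unbar φ U := hk.ge.trans (kerOf_le_unbar φ U)
    refine ⟨unbar φ U, ⟨le_norm_unbar φ hA hU.norm, isSolvable_of_bar φ (unbar_le φ U)
      (by rw [bar_unbar φ hφ]; exact hU.sol) (isSolvable_of_le hX.sol (inf_le_left.trans hk.le)),
      not_dvd_card_unbar φ hU.cop hkp, fun a ha h => ?_⟩, fun Y hY hn => ?_⟩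
    · have ha1 : φ ⟨a, hA ha⟩ ≠ 1 := fun h' => h (mem_bot.mp
        ((inf_eq_bot_of_isPGroup_of_not_dvd f.pgroup hkp).le ⟨ha, (mem_kerOf φ).mpr h'⟩))
      have h6 := hU.cent _ (mem_bar_of_mem φ (x := ⟨a, hA ha⟩) ha) ha1
      have h7 : bar φ (unbar φ U ⊓ C1 a) ≤ bar φ (θ a ⊓ 𝐍(X)) := by
        refine le_trans ((bar_inf_le φ _ _).trans (inf_le_inf (bar_unbar_le φ U) ?_))
          (h6.trans (h2 ⟨a, hA ha⟩ ha).le)
        rw [← cent_zpowers, ← cent_zpowers, ← bar_zpowers]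
        exact bar_le_centralizer φ le_rfl
      rw [bar_le_bar_iff φ (inf_le_left.trans (unbar_le φ U)) inf_le_right, hk, sup_comm] at h7
      exact (le_inf h7 inf_le_right).trans
        ((f.sup hX ((f.mem a ha h).inf_norm hA) inf_le_right).cent a ha h)
    · obtain ⟨l, hl⟩ := f'.exists_line
      exact (bar_le_iff φ hn).mp (f'.le_of_pts hl (fun y hy h => h5 y (hl.le hy) h) (h4 Y hY hn))
  all_goals obtain ⟨a, ha, ha1, rfl⟩ := h3 y hy h; rw [h2 a ha]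
  · rw [← cent_zpowers, ← bar_zpowers]
    exact bar_le_centralizer φ (by rw [cent_zpowers]; exact inf_le_left.trans (f.le a ha ha1))
  · exact h4 _ ((f.mem a ha ha1).inf_norm hA) inf_le_right
  · exact isPi_bar φ ((f.pi a ha ha1).to_le inf_le_left)

end Cfsg.Agent.Sig
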