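/- Solvable signalizer functors: local form of Bender's uniqueness lemmas. -/
import Cfsg.Agent.Lib.Sig.Trans
import Cfsg.Agent.Lib.Core.BenderUniq

set_option autoImplicit false
set_option linter.style.haveILetI false

namespace Cfsg.Agent.Sig

open Subgroup Cfsg.Agent.Lib.Core Cfsg.Agent.FT
open scoped Cfsg.Agent.Lib.Glaub commutatorElement

variable {G : Type*} [Group G]

def Loc (M N : Subgroup G) : Prop := ∀ X ≤ M, X ≠ ⊥ → 𝐍(M) ≤ 𝐍(X) → N ⊓ 𝐍(X) ≤ M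

def Arr (M N : Subgroup G) : Prop := fittingOf M ⊓ 𝐂(fittingOf M ⊓ N) ≤ N

variable [Finite G] {M N X P Q T : Subgroup G} {q r s : ℕ}

theorem arr_of_le (h : fittingOf M ≤ N) : Arr M N := inf_le_left.trans h

omit [Finite G] in
theorem arr_of_cent (h1 : X ≤ fittingOf M) (h2 : X ≤ N) (h : fittingOf M ⊓ 𝐂(X) ≤ N) : Arr M N :=
  (inf_le_inf_left _ (cent_anti (le_inf h1 h2))).trans h

theorem pq_inf [Fact q.Prime] [Fact r.Prime] (h : q ≠ r) (hP : IsPGroup q P) (hQ : IsPGroup r Q) :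
    P ⊓ Q = ⊥ := coprime_inf_eq_bot (coprime_of_pgroups hP hQ h)

theorem pq_cent [Fact q.Prime] [Fact r.Prime] (h : q ≠ r) (hP : IsPGroup q P) (hQ : IsPGroup r Q)
    (h1 : P ≤ 𝐍(Q)) (h2 : Q ≤ 𝐍(P)) : P ≤ 𝐂(Q) :=
  le_centralizer_of_inf_eq_bot h1 h2 (pq_inf h hP hQ)

omit [Finite G] in
/-- `X ≤ P` normalizes `Q' ⊇ Y`, and `Y` normalizes `P` -/
theorem cent_of_inf {Y : Subgroup G} (hX : X ≤ P) (hY : Y ≤ Q) (h1 : X ≤ 𝐍(Q)) (h2 : Y ≤ 𝐍(P))
    (h : P ⊓ Q = ⊥) : X ≤ 𝐂(Y) :=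
  comm_eq_bot_iff.mp (eq_bot_iff.mpr (h ▸ le_inf ((commutator_mono hX le_rfl).trans
    (comm_le_left h2)) ((commutator_mono le_rfl hY).trans (comm_le_right h1))))

theorem le_OpOf_of_cent [Fact r.Prime] (hM : Group.IsSolvable M) (hT : T ≤ M) (hr : IsPGroup r T)
    (h : ∀ s, s.Prime → T ≤ 𝐂(OpOf s M)) : T ≤ OpOf r M :=
  le_OpOf_of_le_fittingOf hr ((le_inf hT (cent_comm.mp (fittingOf_le_of_forall_OpOf
    fun s hs => cent_comm.mp (h s hs)))).trans (cent_sub_Fitting hM))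

theorem OppOf_eq_bot [Fact r.Prime] (hM : Group.IsSolvable M)
    (h : ∀ s, s.Prime → s ≠ r → OpOf s M = ⊥) : OppOf r M = ⊥ := by
  by_contra h0
  obtain ⟨s, hs, h1⟩ := exists_OpOf_ne_bot_of_isSolvable (isSolvable_of_le hM (OppOf_le M)) h0
  haveI := Fact.mk hs
  have h2 := OpOf_mono_of_normal (p := s) (OppOf_le (p := r) M) (OppOf_nrm r M).2
  by_cases hsr : s = r
  · subst hsr
    exact OppOf_not_dvd M ((dvd_card_of_isPGroup_of_ne_bot (OpOf_isPGroup _) h1).trans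
      (card_dvd_of_le (OpOf_le _)))
  · exact h1 (eq_bot_iff.mpr (h s hs hsr ▸ h2))

theorem eq_comm_of_cent [Fact q.Prime] [Fact r.Prime] (h : q ≠ r) (hP : IsPGroup q P)
    (hQ : IsPGroup r Q) (hn : Q ≤ 𝐍(P)) (hc : P ⊓ 𝐂(Q) = ⊥) : P ≤ ⁅P, Q⁆ := by
  intro x hx
  obtain ⟨a, ha, b, hb, rfl⟩ := (coprime_cent_prod hn (coprime_of_pgroups hP hQ h)
    (isSolvable_of_isPGroup hP)).mem x hx
  rw [hc, mem_bot] at hb
  rwa [hb, mul_one]

theorem ZOp_le_OpOf (M : Subgroup G) : ZOp q M ≤ OpOf q M := inf_le_left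

namespace Arr

theorem Z_le [Fact s.Prime] (h : Arr M N) : ZOp s M ≤ N :=
  (le_inf ((ZOp_le_OpOf M).trans (OpOf_le_fittingOf M))
    (le_cent_of_le (ZOp_le_centralizer_fittingOf M) inf_le_left)).trans h

theorem b1 [Fact r.Prime] (h : Arr M N) (hM : Group.IsSolvable M) (hr : OpOf r M = ⊥) :
    OpOf r N ⊓ M = ⊥ := by
  have hR : IsPGroup r ↥(OpOf r N ⊓ M) := (OpOf_isPGroup N).to_le inf_le_left
  have hF : ¬ r ∣ Nat.card (fittingOf M) := fun hd => OpOf_ne_bot_iff.mpr hd hr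
  have h1 : fittingOf M ⊓ N ≤ 𝐂(OpOf r N ⊓ M) := cent_of_inf inf_le_left inf_le_left
    ((OpOf_nrm r N).le_norm inf_le_right) ((fittingOf_nrm M).le_norm inf_le_right)
    (by rw [inf_comm]; exact inf_eq_bot_of_isPGroup_of_not_dvd (OpOf_isPGroup N) hF)
  have h2 := coprime_nil_faithful_cent_stab ((fittingOf_nrm M).le_norm inf_le_right)
    (coprime_card_of_isPGroup hR hF).symm (fittingOf_isNilpotent M) ((le_inf inf_le_left
      ((inf_le_inf_left _ (cent_anti (le_inf inf_le_left h1))).trans h)).trans h1)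
  rw [eq_bot_iff, ← hr]
  exact le_OpOf_of_le_fittingOf hR ((le_inf inf_le_right h2).trans (cent_sub_Fitting hM))

theorem b1' [Fact r.Prime] (h : Arr M N) (hM : Group.IsSolvable M) (hr : OpOf r N ⊓ M ≠ ⊥) :
    OpOf r M ≠ ⊥ := fun h0 => hr (h.b1 hM h0)

theorem b2 [Fact s.Prime] [Fact q.Prime] (h : Arr M N) (hL : Loc M N) (hN : Group.IsSolvable N)
    (hs : OpOf s M ≠ ⊥) (hqs : q ≠ s) : OpOf q M ⊓ N ≤ OppOf s N := by
  have h1 : N ⊓ 𝐂(ZOp s M) ≤ M := (inf_le_inf_left _ (cent_le_norm _)).trans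
    (hL _ (ZOp_le s M) (ZOp_ne_bot hs) (le_normalizer_ZOp le_rfl))
  refine le_trans ?_ (p'core_cent_pgroup (ZOp_isPGroup s M) h.Z_le hN)
  exact le_OppOf (le_inf inf_le_right (inf_le_left.trans (le_cent_of_le
    (OpOf_le_centralizer_OpOf hqs M) (ZOp_le_OpOf M)))) (le_normalizer_inf
      ((OpOf_nrm q M).le_norm h1) (inf_le_left.trans le_normalizer))
    (not_dvd_card_of_isPGroup ((OpOf_isPGroup M).to_le inf_le_left) hqs.symm)

theorem b3 [Fact s.Prime] [Fact q.Prime] (h : Arr M N) (hL : Loc M N) (hN : Group.IsSolvable N)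
    (hs : OpOf s M ≠ ⊥) (hq : OpOf q M ≠ ⊥) (hqs : q ≠ s) : OpOf s N ≤ M :=
  (le_inf (OpOf_le N) ((le_cent_of_le (OpOf_le_centralizer_OppOf N) ((le_inf (ZOp_le_OpOf M)
    h.Z_le).trans (h.b2 hL hN hs hqs))).trans (cent_le_norm _))).trans
    (hL _ (ZOp_le q M) (ZOp_ne_bot hq) (le_normalizer_ZOp le_rfl))

theorem tau [Fact r.Prime] (h : Arr M N) (h' : Arr N M) (hM : Group.IsSolvable M)
    (hr : OpOf r N ≠ ⊥) : OpOf r M ≠ ⊥ :=
  h.b1' hM (ne_bot_of_le (le_inf (ZOp_le_OpOf N) h'.Z_le) (ZOp_ne_bot hr))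

theorem b4_aux [Fact s.Prime] [Fact q.Prime] (h : Arr M N) (h' : Arr N M) (hL : Loc M N)
    (hL' : Loc N M) (hM : Group.IsSolvable M) (hN : Group.IsSolvable N) (hs : OpOf s M ≠ ⊥)
    (hq : OpOf q M ≠ ⊥) (hqs : q ≠ s) : OpOf s M ≤ OpOf s N := by
  have hs' := h'.tau h hN hs
  have hq' := h'.tau h hN hq
  have h1 := h'.b3 hL' hM hs' hq' hqs
  have h2 := h'.b3 hL' hM hq' hs' hqs.symm
  have n1 : ncl N (OpOf s M) ⊲ N := ⟨ncl_le h1 le_normalizer, self_le_norm_ncl⟩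
  have n2 : ncl N (OpOf q M) ⊲ N := ⟨ncl_le h2 le_normalizer, self_le_norm_ncl⟩
  have h3 : ncl N (OpOf s M) ⊓ ncl N (OpOf q M) = ⊥ := by
    by_contra h0
    have n3 := n1.inf n2
    obtain ⟨r, hr, h4⟩ := exists_OpOf_ne_bot_of_isSolvable (isSolvable_of_le hN n3.1) h0
    haveI := Fact.mk hr
    have h5 := h.tau h' hM (ne_bot_of_le (OpOf_mono_of_normal n3.1 n3.2) h4)
    have h6 := (dvd_card_of_isPGroup_of_ne_bot (OpOf_isPGroup _) h4).trans
      (card_dvd_of_le (OpOf_le _))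
    by_cases hrs : r = s
    · subst hrs
      exact OppOf_not_dvd N (h6.trans (card_dvd_of_le (inf_le_right.trans (ncl_le
        ((le_inf le_rfl h2).trans (h.b2 hL hN h5 hqs)) (OppOf_nrm r N).2))))
    · exact OppOf_not_dvd N (h6.trans (card_dvd_of_le (inf_le_left.trans (ncl_le
        ((le_inf le_rfl h1).trans (h.b2 hL hN h5 (Ne.symm hrs))) (OppOf_nrm r N).2))))
  have h4 := le_centralizer_of_inf_eq_bot (n2.le_norm n1.1) (n1.le_norm n2.1) h3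
  have h5 := (le_inf n1.1 ((le_cent_of_le h4 le_ncl).trans (cent_le_norm _))).trans
    (hL _ (OpOf_le M) hq (le_normalizer_OpOf le_rfl))
  exact (le_OpOf le_ncl ((OpOf_nrm s M).le_norm h5) (OpOf_isPGroup M)).trans
    (OpOf_mono_of_normal n1.1 n1.2)

theorem b4_le [Fact s.Prime] [Fact q.Prime] (h : Arr M N) (h' : Arr N M) (hL : Loc M N)
    (hL' : Loc N M) (hM : Group.IsSolvable M) (hN : Group.IsSolvable N) (hs : OpOf s M ≠ ⊥)
    (hq : OpOf q M ≠ ⊥) (hqs : q ≠ s) : fittingOf M ≤ fittingOf N := by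
  refine fittingOf_le_of_forall_OpOf fun r hr => ?_
  haveI := Fact.mk hr
  by_cases h0 : OpOf r M = ⊥
  · rw [h0]; exact bot_le
  by_cases hrs : r = s
  · subst hrs
    exact (h.b4_aux h' hL hL' hM hN hs hq hqs).trans (OpOf_le_fittingOf N)
  · exact (h.b4_aux h' hL hL' hM hN h0 hs (Ne.symm hrs)).trans (OpOf_le_fittingOf N)

theorem b4 [Fact s.Prime] [Fact q.Prime] (h : Arr M N) (h' : Arr N M) (hL : Loc M N)
    (hL' : Loc N M) (hM : Group.IsSolvable M) (hN : Group.IsSolvable N) (hs : OpOf s M ≠ ⊥)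
    (hq : OpOf q M ≠ ⊥) (hqs : q ≠ s) : M = N := by
  have hs' := h'.tau h hN hs
  have e := le_antisymm (h.b4_le h' hL hL' hM hN hs hq hqs)
    (h'.b4_le h hL' hL hN hM hs' (h'.tau h hN hq) hqs)
  have h0 := ne_bot_of_le (OpOf_le_fittingOf M) hs
  refine le_antisymm ((le_inf le_rfl (e ▸ (fittingOf_nrm M).2)).trans
    (hL' _ (fittingOf_le N) (e ▸ h0) (le_normalizer_fittingOf le_rfl)))
    ((le_inf le_rfl (e ▸ (fittingOf_nrm N).2)).trans
      (hL _ (fittingOf_le M) h0 (le_normalizer_fittingOf le_rfl)))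

end Arr

theorem earg [Fact s.Prime] {H : Subgroup G} (hH : Group.IsSolvable H) (hF : fittingOf H ≤ M)
    (h : OpOf s M ⊓ H ≠ ⊥) : OpOf s M ⊓ fittingOf H ≠ ⊥ := fun h0 => h (by
  have h1 : OpOf s M ⊓ H ≤ 𝐂(fittingOf H) := cent_of_inf inf_le_left le_rfl
    ((fittingOf_nrm H).le_norm inf_le_right) ((OpOf_nrm s M).le_norm hF) h0
  exact eq_bot_iff.mpr (h0 ▸ le_inf inf_le_left ((le_inf inf_le_right h1).trans
    (cent_sub_Fitting hH))))

/-- `T ≤ O_s(N)` as soon as every normal `{s,t}`-subgroup normalizes an `s`-group above `T` -/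
theorem core1 [Fact s.Prime] (hN : Group.IsSolvable N) (hT : T ≤ N)
    (hTs : IsPGroup s T) (h : ∀ t, t.Prime → t ≠ s → ∀ F ≤ N, 𝐍(N) ≤ 𝐍(F) → IsPi {s, t} F →
      ∃ K : Subgroup G, IsPGroup s K ∧ T ≤ K ∧ F ≤ 𝐍(K)) : T ≤ OpOf s N := by
  obtain ⟨F, h1, h2⟩ := exists_F (t := s) hN
  refine h2 T hT hTs fun t ht hts => ?_
  obtain ⟨a1, a2, a3, a4⟩ := h1 t
  obtain ⟨K, b1, b2, b3⟩ := h t ht hts _ a2 a3 (((a4 ht).mono_pi (by simp)).isPi'
    (isPi_of_isPGroup (OpOf_isPGroup N) (by simp)))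
  have nF : F t ⊲ N := ⟨a2, le_normalizer.trans a3⟩
  refine le_trans (le_inf ((commutator_mono le_rfl b2).trans (comm_le_right b3)) (nF.comm_le hT))
    ((le_OpOf inf_le_right (le_normalizer_inf b3 le_normalizer) (b1.to_le inf_le_left)).trans
      (OpOf_mono_of_normal nF.1 nF.2))

end Cfsg.Agent.Sig
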