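/- Solvable signalizer functors: the pair lemma. -/
import Cfsg.Agent.Lib.Sig.CPa

set_option autoImplicit false
set_option linter.style.haveILetI false

namespace Cfsg.Agent.Sig

open Subgroup Cfsg.Agent.Lib.Core Cfsg.Agent.FT Cfsg.Agent.Lib.ZJ
open scoped Cfsg.Agent.Lib.Glaub commutatorElement

variable {G : Type*} [Group G]

structure CPH (p t : ℕ) (A D M H : Subgroup G) : Prop where
  pt : p ≠ t
  hA : IsPGroup p A
  hD : D = M ⊓ H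
  solM : Group.IsSolvable M
  solH : Group.IsSolvable H
  pM : ¬ p ∣ Nat.card M
  pH : ¬ p ∣ Nat.card H
  AM : A ≤ 𝐍(M)
  AH : A ≤ 𝐍(H)
  chM : OppOf t M = ⊥
  chH : OppOf t H = ⊥
  CM : M ⊓ 𝐂(A) ≤ H
  CH : H ⊓ 𝐂(A) ≤ M
  nM : ¬ M ≤ H
  nH : ¬ H ≤ M
  Qne : OpOf t D ≠ ⊥
  max : ∀ X ≤ OpOf t D, X ≠ ⊥ → D ≤ 𝐍(X) → A ≤ 𝐍(X) → M ⊓ 𝐍(X) ≤ H ∨ H ⊓ 𝐍(X) ≤ M
  dist : ∀ s : ℕ, s.Prime → s ≠ t → ∀ X ≤ M, ∀ Y ≤ H, IsPi {t, s} X → IsPi {t, s} Y → D ≤ 𝐍(X) →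
    D ≤ 𝐍(Y) → A ≤ 𝐍(X) → A ≤ 𝐍(Y) → IsSyl t (OpOf t D) X → IsSyl t (OpOf t D) Y →
    X ≤ H ∨ Y ≤ M

structure Gd (s t : ℕ) (M H F : Subgroup G) : Prop where
  st : s ≠ t
  RF : OpOf t M ≤ F
  FM : F ≤ M
  norm : 𝐍(M) ≤ 𝐍(F)
  pi : PiMod {s} F (OpOf t M)
  nH : ¬ F ≤ H

variable {p s t : ℕ} {A D M H F : Subgroup G}

namespace CPH

theorem symm (c : CPH p t A D M H) : CPH p t A D H M :=
  ⟨c.pt, c.hA, c.hD.trans (inf_comm _ _), c.solH, c.solM, c.pH, c.pM, c.AH, c.AM, c.chH, c.chM,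
    c.CH, c.CM, c.nH, c.nM, c.Qne, fun X h1 h2 h3 h4 => (c.max X h1 h2 h3 h4).symm,
    fun s hs hst X h1 Y h2 h3 h4 h5 h6 h7 h8 h9 h10 =>
      (c.dist s hs hst Y h2 X h1 h4 h3 h6 h5 h8 h7 h10 h9).symm⟩

theorem DM (c : CPH p t A D M H) : D ≤ M := c.hD.le.trans inf_le_left
theorem DH (c : CPH p t A D M H) : D ≤ H := c.hD.le.trans inf_le_right
theorem QM (c : CPH p t A D M H) : OpOf t D ≤ M := (OpOf_le D).trans c.DM
theorem AQ (c : CPH p t A D M H) : A ≤ 𝐍(OpOf t D) :=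
  le_normalizer_OpOf (c.hD ▸ le_normalizer_inf c.AM c.AH)
theorem le_D (c : CPH p t A D M H) {X : Subgroup G} (h1 : X ≤ M) (h2 : X ≤ H) : X ≤ D :=
  c.hD ▸ le_inf h1 h2

variable [Finite G] [hp : Fact p.Prime] [ht : Fact t.Prime]

omit hp in
theorem cent (c : CPH p t A D M H) : M ⊓ 𝐂(OpOf t M) ≤ OpOf t M := by
  have := cent_sub_Fitting c.solM
  rwa [fittingOf_eq_OpOf c.chM] at this

omit hp in
theorem R_le (c : CPH p t A D M H) (h : M ⊓ 𝐍(OpOf t D) ≤ H) : OpOf t M ≤ OpOf t D := by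
  have hn : OpOf t D ≤ 𝐍(OpOf t M) := (OpOf_nrm t M).le_norm c.QM
  by_contra hne
  have h1 := lt_inf_normalizer_of_isPGroup (isPGroup_sup_of_le_normalizer (OpOf_isPGroup D)
    (OpOf_isPGroup M) hn) (left_lt_sup.mpr hne)
  rw [sup_inf_of_le_normalizer_right le_normalizer hn] at h1
  refine h1.not_ge (sup_le le_rfl (le_trans (le_inf inf_le_left (c.le_D
    (inf_le_left.trans (OpOf_le M)) ((inf_le_inf_right _ (OpOf_le M)).trans h)))
    (inf_OpOf_le c.DM)))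

omit hp in
theorem comm_le (c : CPH p t A D M H) [Fact s.Prime] (hst : s ≠ t) (hF : F ≤ M)
    (hn : 𝐍(M) ≤ 𝐍(F)) (hpi : PiMod {s} F (OpOf t M)) : ⁅F ⊓ H, OpOf t D⁆ ≤ OpOf t M := by
  refine hpi.le ((OpOf_nrm t M).le_norm hF) ((commutator_mono inf_le_left le_rfl).trans
    (comm_le_left ((c.QM.trans le_normalizer).trans hn))) (isPi_of_isPGroup
      ((OpOf_isPGroup D).to_le (comm_le_right ((c.le_D (inf_le_left.trans hF) inf_le_right).trans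
        (OpOf_nrm t D).norm))) hst.symm)

omit hp in
theorem exists_Gd (c : CPH p t A D M H) (h : M ⊓ 𝐍(OpOf t D) ≤ H) :
    ∃ s F, s.Prime ∧ Gd s t M H F := by
  obtain ⟨F, h1, h2⟩ := exists_F (t := t) c.solM
  by_contra hno
  have h3 := h2 _ c.QM (OpOf_isPGroup D) fun s hs hst => by
    haveI := Fact.mk hs
    obtain ⟨a1, a2, a3, a4⟩ := h1 s
    have : F s ≤ H := by
      by_contra h'
      exact hno ⟨s, F s, hs, hst, a1, a2, a3, a4 hs, h'⟩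
    have h4 := c.comm_le hst a2 a3 (a4 hs)
    rwa [inf_eq_left.mpr this] at h4
  rw [← le_antisymm (c.R_le h) h3] at h
  exact c.nM ((le_inf le_rfl (OpOf_nrm t M).norm).trans h)

end CPH

namespace Gd

theorem FR (g : Gd s t M H F) : F ≤ 𝐍(OpOf t M) := (OpOf_nrm t M).le_norm g.FM
theorem DF (g : Gd s t M H F) (c : CPH p t A D M H) : D ≤ 𝐍(F) :=
  (c.DM.trans le_normalizer).trans g.norm
theorem QF (g : Gd s t M H F) (c : CPH p t A D M H) : OpOf t D ≤ 𝐍(F) :=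
  (OpOf_le D).trans (g.DF c)
theorem AF (g : Gd s t M H F) (c : CPH p t A D M H) : A ≤ 𝐍(F) := c.AM.trans g.norm

variable [Finite G] [hp : Fact p.Prime] [ht : Fact t.Prime] [hs : Fact s.Prime]

omit hp in
theorem comm_le (g : Gd s t M H F) (c : CPH p t A D M H) : ⁅F ⊓ H, OpOf t D⁆ ≤ OpOf t M :=
  c.comm_le g.st g.FM g.norm g.pi

omit ht hs in
theorem ps (g : Gd s t M H F) (c : CPH p t A D M H) (hR : OpOf t M ≤ OpOf t D) : p ≠ s := by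
  rintro rfl
  exact g.nH ((g.pi.le g.FR le_rfl (isPi_compl_iff.mpr (not_dvd_card_of_le c.pM g.FM))).trans
    (hR.trans c.symm.QM))

theorem ffh (g : Gd s t M H F) (c : CPH p t A D M H) (hR : OpOf t M ≤ OpOf t D) {W : Subgroup G}
    (hW : IsElementaryAbelian t W) (h1 : OpOf t M ≤ 𝐂(W)) (h2 : A ≤ 𝐍(W)) (h3 : F ≤ 𝐍(W))
    (h4 : OpOf t D ≤ 𝐍(W)) : FFH p s t W A F (OpOf t D) :=
  ⟨g.ps c hR, c.pt, g.st, hW, c.hA, g.pi.mono_right h1, not_dvd_card_of_le c.pM g.FM,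
    OpOf_isPGroup D, h2, h3, h4, g.QF c, g.AF c, c.AQ, ((commutator_mono (le_inf inf_le_left
      ((inf_le_inf_right _ g.FM).trans c.CM)) le_rfl).trans (g.comm_le c)).trans h1⟩

omit [Finite G] hp hs in
theorem syl (g : Gd s t M H F) (c : CPH p t A D M H) (hR : OpOf t M ≤ OpOf t D) :
    IsSyl t (OpOf t D) (F ⊔ OpOf t D) := by
  refine ⟨le_sup_right, OpOf_isPGroup D, fun h => ?_⟩
  rw [(isProd_of_norm (g.QF c)).symm.relIndex_eq] at h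
  exact g.st (g.pi.mono_right hR t ht.out h).symm

omit hp hs in
theorem isPi (g : Gd s t M H F) (c : CPH p t A D M H) : IsPi {t, s} ↥(F ⊔ OpOf t D) :=
  (isProd_of_norm (g.QF c)).isPi ((g.pi.mono_pi (by simp)).isPi'
    (isPi_of_isPGroup (OpOf_isPGroup M) (by simp))) (isPi_of_isPGroup (OpOf_isPGroup D) (by simp))

omit hp hs in
theorem not_J (g : Gd s t M H F) (c : CPH p t A D M H) (hR : OpOf t M ≤ OpOf t D)
    (hJ : M ⊓ 𝐍(JT t (OpOf t D)) ≤ H) {K : Subgroup G} (hK : K ⊲ F ⊔ OpOf t D) (hKH : K ≤ H) :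
    ¬ ⁅F, JT t (OpOf t D)⁆ ≤ K := fun h =>
  g.nH (le_sup_left.trans ((fact (g.syl c hR) le_rfl le_sup_left hK h).trans (sup_le hKH
    ((inf_le_inf_right _ (sup_le g.FM c.QM)).trans hJ))))

omit hp hs in
theorem ne (g : Gd s t M H F) (c : CPH p t A D M H) (hR : OpOf t M ≤ OpOf t D) (hs : s.Prime)
    {F' : Subgroup G} (g' : Gd s t H M F') (hR' : OpOf t H ≤ OpOf t D) : False := by
  have hD := (OpOf_nrm t D).norm
  rcases c.dist s hs g.st _ (sup_le g.FM c.QM) _ (sup_le g'.FM c.symm.QM) (g.isPi c) (g'.isPi c.symm)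
    (le_normalizer_sup (g.DF c) hD) (le_normalizer_sup (g'.DF c.symm) hD)
    (le_normalizer_sup (g.AF c) c.AQ) (le_normalizer_sup (g'.AF c.symm) c.AQ) (g.syl c hR)
    (g'.syl c.symm hR') with h | h
  · exact g.nH (le_sup_left.trans h)
  · exact g'.nH (le_sup_left.trans h)

/-- the module `⟨Ω₁Z(Q)^F⟩` -/
theorem exists_V (g : Gd s t M H F) (c : CPH p t A D M H) (hR : OpOf t M ≤ OpOf t D) :
    ∃ V, FFH p s t V A F (OpOf t D) ∧ V ≤ OpOf t D ∧ D ≤ 𝐍(V) ∧ Ohm1 (Zc (OpOf t D)) ≤ V ∧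
      ∀ e ∈ OpOf t D, ⁅F, zpowers e⁆ ≤ 𝐂(V) → e ∈ 𝐂(V) := by
  have nZ : 𝐍(OpOf t D) ≤ 𝐍(Ohm1 (Zc (OpOf t D))) :=
    (norm_le_norm_Zc _).trans (norm_le_norm_Ohm1 _)
  have h1 : Zc (OpOf t D) ≤ 𝐂(OpOf t M) := (Zc_le_cent _).trans (cent_anti hR)
  have h2 : ncl F (Ohm1 (Zc (OpOf t D))) ≤ Ohm1 (Zc (OpOf t M)) := ncl_le (Ohm1_mono
    (le_inf ((le_inf ((Zc_le _).trans c.QM) h1).trans c.cent) h1))
    ((OpOf_nrm t M).Zc.Ohm1.le_norm g.FM)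
  have h3 := le_norm_ncl (g.DF c) ((OpOf_nrm t D).norm.trans nZ)
  refine ⟨_, g.ffh c hR (abelem_of_le (Ohm1_Zc_abelem (OpOf_isPGroup M)) h2)
    (cent_comm.mp (h2.trans ((Ohm1_le _).trans (Zc_le_cent _))))
    (le_norm_ncl (g.AF c) (c.AQ.trans nZ)) self_le_norm_ncl ((OpOf_le D).trans h3),
    h2.trans ((Ohm1_le _).trans ((Zc_le _).trans hR)), h3, le_ncl, fun e he h => ?_⟩
  refine le_C1_iff.mp (ncl_le_iff.mpr fun f hf => le_C1_iff.mpr ?_)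
  rw [← cj_cent, mem_cj]
  have : f⁻¹ * e * f = ⁅f⁻¹, e⁆ * e := by simp only [commutatorElement_def]; group
  rw [this]
  exact mul_mem (cent_anti le_ncl (h (commutator_mem_commutator (inv_mem hf) (mem_zpowers e))))
    (cent_comm.mp ((Ohm1_le _).trans (Zc_le_cent _)) he)

/-- quadratic elements when codimension two is not available on the other side -/
theorem quad (g : Gd s t M H F) (c : CPH p t A D M H) {s' : ℕ} (hss : s ≠ s')
    (h2 : ¬ Two p s' t) {B K : Subgroup G} (hB : B ⊲ F ⊔ OpOf t D) (hBt : IsPGroup t B)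
    (hK : OpOf t M ≤ K) (hBK : M ⊓ 𝐂(B) ≤ K) {e : G} (he : e ∈ OpOf t D)
    (hq : ⁅B, zpowers e⁆ ≤ C1 e) : ⁅F, zpowers e⁆ ≤ K := by
  have hL : F ⊔ OpOf t D ≤ M := sup_le g.FM c.QM
  obtain ⟨R, hR, heR, h⟩ := quad_stable (fun h => h2 (Or.inl h)) (isSolvable_of_le c.solM hL)
    (fun h3 hd => by
      by_cases hp2 : p = 2
      · exact c.pM (hp2 ▸ hd.trans (card_dvd_of_le hL))
      · have hs2 : s' = 2 := by
          by_contra h'
          exact h2 (Or.inr ⟨h3, h', hp2⟩)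
        rcases g.isPi c 2 Nat.prime_two hd with h' | h'
        · omega
        · exact hss (hs2 ▸ (Set.mem_singleton_iff.mp h').symm)) hB hBt (mem_sup_right he) hq
  have h1 : ⁅F, zpowers e⁆ ≤ F := comm_le_left ((zpowers_le.mpr he).trans (g.QF c))
  exact le_of_selts g.st ht.out g.pi g.FR h1 hK fun x hx hc => hBK ⟨g.FM (h1 hx), h x
    (((commutator_mono le_rfl (zpowers_le.mpr heR)).trans (comm_le_right
      (hR.le_norm le_sup_left))) hx) hc⟩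

end Gd

variable [Finite G] [hp : Fact p.Prime] [ht : Fact t.Prime]

theorem CPH.Z_ne (c : CPH p t A D M H) : Ohm1 (Zc (OpOf t D)) ≠ ⊥ :=
  Ohm1_Zc_ne_bot (OpOf_isPGroup D).isNilpotent c.Qne

theorem CPH.J_max (c : CPH p t A D M H) :
    M ⊓ 𝐍(JT t (OpOf t D)) ≤ H ∨ H ⊓ 𝐍(JT t (OpOf t D)) ≤ M :=
  c.max _ (JT_le _) (JT_ne_bot dvd_rfl (OpOf_isPGroup D) c.Qne)
    ((OpOf_nrm t D).norm.trans (normalizer_le_normalizer_JT _))
    (c.AQ.trans (normalizer_le_normalizer_JT _))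

theorem CPH.nonrich (c : CPH p t A D M H) (h : M ⊓ 𝐍(OpOf t D) ≤ H) :
    H ⊓ 𝐍(OpOf t D) ≤ M := by
  by_contra hne
  obtain ⟨s, F, hs, g⟩ := c.exists_Gd h
  haveI := Fact.mk hs
  have hR := c.R_le h
  obtain ⟨V, f, h1, h2, h3, -⟩ := g.exists_V c hR
  have nZ : 𝐍(OpOf t D) ≤ 𝐍(Ohm1 (Zc (OpOf t D))) :=
    (norm_le_norm_Zc _).trans (norm_le_norm_Ohm1 _)
  have hZ := (c.max _ ((Ohm1_le _).trans (Zc_le _)) c.Z_ne ((OpOf_nrm t D).norm.trans nZ)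
    (c.AQ.trans nZ)).resolve_right fun h' => hne ((inf_le_inf_left _ nZ).trans h')
  have hJ := c.J_max.resolve_right fun h' =>
    hne ((inf_le_inf_left _ (normalizer_le_normalizer_JT _)).trans h')
  refine g.not_J c hR hJ (K := F ⊓ 𝐂(V)) ⟨inf_le_left.trans le_sup_left, le_normalizer_inf
    (sup_le le_normalizer f.QF) (le_normalizer_centralizer (sup_le f.FV f.QV))⟩
    ((inf_le_inf g.FM ((cent_anti h3).trans (cent_le_norm _))).trans hZ)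
    (le_inf (comm_le_left ((JT_le _).trans f.QF)) (f.ffJ h1))

end Cfsg.Agent.Sig
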