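/- Solvable signalizer functors: the pair lemma, conclusion. -/
import Cfsg.Agent.Lib.Sig.CPb

set_option autoImplicit false
set_option linter.style.haveILetI false

namespace Cfsg.Agent.Sig

open Subgroup Cfsg.Agent.Lib.Core Cfsg.Agent.FT Cfsg.Agent.Lib.ZJ
open scoped Cfsg.Agent.Lib.Glaub commutatorElement

variable {G : Type*} [Group G] [Finite G] {p s t : ℕ} [hp : Fact p.Prime] [ht : Fact t.Prime]
  [hs : Fact s.Prime] {A D M H F V : Subgroup G}

omit hp hs in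
theorem cent_of_comm_le {R N : Subgroup G} (hR : IsPGroup t R) {x : G} (hx : x ∈ 𝐍(R))
    (hc : (orderOf x).Coprime t) (h : ⁅R, zpowers x⁆ ≤ N) (hN : N ≤ C1 x) : x ∈ 𝐂(R) :=
  coprime_commGG1P (zpowers_le.mpr hx) (coprime_card_of_isPGroup hR (not_dvd_card_zpowers hc))
    (isSolvable_of_isPGroup hR) (comm_eq_bot_iff.mpr (by rw [cent_zpowers]; exact h.trans hN))
    (mem_zpowers x)

/-- `V` lies in `O_t(H)` -/
theorem caseA (c : CPH p t A D M H) (g : Gd s t M H F) (hR : OpOf t M ≤ OpOf t D)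
    (hR' : OpOf t H ≤ OpOf t D) (f : FFH p s t V A F (OpOf t D)) (hVQ : V ≤ OpOf t D)
    (hDV : D ≤ 𝐍(V)) (hf : ∀ e ∈ OpOf t D, ⁅F, zpowers e⁆ ≤ 𝐂(V) → e ∈ 𝐂(V)) :
    V ≤ OpOf t H := by
  obtain ⟨F', h1, h2⟩ := exists_F (t := t) c.solH
  have hVH : V ≤ H := hVQ.trans c.symm.QM
  refine h2 V hVH (abelem_isPGroup f.hV) fun s' hs' hst => ?_
  haveI := Fact.mk hs'
  obtain ⟨a1, a2, a3, a4⟩ := h1 s'
  generalize F' s' = F' at *
  by_cases hFM : F' ≤ M
  · have := c.symm.comm_le hst a2 a3 (a4 hs')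
    rw [inf_eq_left.mpr hFM] at this
    exact (commutator_mono le_rfl hVQ).trans this
  have g' : Gd s' t H M F' := ⟨hst, a1, a2, a3, a4 hs', hFM⟩
  have hss : s' ≠ s := fun h => g.ne c hR hs.out (h ▸ g') hR'
  have hRV : ⁅OpOf t H, V⁆ ≤ V := comm_le_right (hR'.trans f.QV)
  by_cases h2 : ¬ Two p s t
  · refine commutator_le.mpr fun x hx e he => g'.quad c.symm hss h2 (B := OpOf t H)
      ((OpOf_nrm t H).mono (a1.trans le_sup_left) (sup_le a2 c.symm.QM)) (OpOf_isPGroup H) le_rfl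
      c.symm.cent (hVQ he) (((commutator_mono le_rfl (zpowers_le.mpr he)).trans hRV).trans
        ((abelem_le_cent f.hV).trans (cent_le_C1 he)))
      (commutator_mem_commutator hx (mem_zpowers e))
  rw [not_not] at h2
  by_contra hne
  have hVR : V ≤ 𝐍(OpOf t H) := (OpOf_nrm t H).le_norm hVH
  obtain ⟨B, hBV, hRB, hB, hFB⟩ := hyper hst (a4 hs') g'.FR f.hV hVR (hVQ.trans (g'.QF c.symm)) hne
  have hBe := abelem_of_le f.hV hBV
  have k1 : ∀ x ∈ CentSec F' B (OpOf t H),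
      (𝐂(cj(x, B))).relIndex B ≤ (𝐂(B)).relIndex cj(x, B) → cj(x, B) ≤ 𝐂(V) := fun x hx h =>
    f.ff (Or.inr ⟨rfl, h2⟩) hf (cj_le_of_CentSec g'.FR hR' (hBV.trans hVQ) hx)
      (abelem_cj.mpr hBe) ((relIndex_le_mul hBV _).trans (Nat.mul_le_mul hB (h.trans
        (relIndex_le_of_le_left (cent_anti hBV) (relIndex_ne_zero _ _)))))
  have k2 : ∀ x ∈ CentSec F' B (OpOf t H), cj(x, B) ≤ 𝐂(V) := fun x hx => by
    rcases le_total ((𝐂(cj(x, B))).relIndex B) ((𝐂(B)).relIndex cj(x, B)) with h | h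
    · exact k1 x hx h
    · have h3 := (k1 _ (inv_mem hx) (by
        rw [relIndex_cent_cj_inv, ← relIndex_cj _ cj(x⁻¹, B) x, cj_cent, cj_cj_inv]; exact h)).trans
        (cent_anti hBV)
      refine k1 x hx ?_
      have h4 : B ≤ 𝐂(cj(x, B)) := by
        rw [← cj_le_cent_cj (g := x), cj_cj_inv] at h3; exact h3
      rw [relIndex_eq_one.mpr h4]
      exact relIndex_pos _ _
  refine hFB (commutator_le.mpr fun x hx u hu => ?_)
  have hxF := CentSec_le _ _ _ hx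
  have hxR := g'.FR hxF
  have hN : B ⊔ cj(x, B) ≤ 𝐂((V ⊔ cj(x, V) : Subgroup G)) := by
    refine sup_le (le_centralizer_sup (hBV.trans (abelem_le_cent f.hV)) ?_)
      (le_centralizer_sup (k2 x hx) (cj_le_cent_cj.mpr (hBV.trans (abelem_le_cent f.hV))))
    have := k2 _ (inv_mem hx)
    rwa [← cj_le_cent_cj (g := x), cj_cj_inv] at this
  have hRB' : ⁅V, OpOf t H⁆ ≤ B := (le_inf (comm_le_right hVR)
    (comm_le_left (hR'.trans f.QV))).trans hRB
  have hL : ⁅V ⊔ cj(x, V), OpOf t H⁆ ≤ B ⊔ cj(x, B) := by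
    refine commutator_sup_left_le (hRB'.trans le_sup_left) ?_
      ((cent_comm.mp hN).trans (cent_le_norm _))
    have := cj_mono x hRB'
    rw [cj_comm, cj_eq_of_mem_norm hxR] at this
    exact this.trans le_sup_right
  refine le_of_selts hst ht.out (a4 hs') g'.FR (inf_le_right : (V ⊔ cj(x, V)) ⊓ F' ≤ F') le_rfl
    (fun y hy hc => c.symm.cent ⟨a2 hy.2, cent_of_comm_le (OpOf_isPGroup H) (g'.FR hy.2) hc
      (N := B ⊔ cj(x, B)) ?_ (hN.trans (cent_le_C1 hy.1))⟩)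
    ⟨?_, H6.comm_mem (g'.QF c.symm (hVQ hu)) hxF⟩
  · rw [commutator_comm]
    exact (commutator_mono (zpowers_le.mpr hy.1) le_rfl).trans hL
  · rw [commutatorElement_def]
    exact mul_mem (mem_sup_right (conj_mem_cj.mpr hu)) (mem_sup_left (inv_mem hu))

theorem caseB (c : CPH p t A D M H) (hR' : OpOf t H ≤ OpOf t D)
    (f : FFH p s t V A F (OpOf t D))
    (hf : ∀ e ∈ OpOf t D, ⁅F, zpowers e⁆ ≤ 𝐂(V) → e ∈ 𝐂(V)) (hV : V ≤ OpOf t H) {x : G}
    (hx : x ∈ H) : cj(x, V) ≤ 𝐂(V) := by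
  have k1 : ∀ x ∈ H, (𝐂(cj(x, V))).relIndex V ≤ (𝐂(V)).relIndex cj(x, V) → cj(x, V) ≤ 𝐂(V) :=
    fun x hx h => f.ff (Or.inl rfl) hf ((cj_le_of_le hV ((OpOf_nrm t H).norm hx)).trans hR')
      (abelem_cj.mpr f.hV) (by rwa [one_mul])
  rcases le_total ((𝐂(cj(x, V))).relIndex V) ((𝐂(V)).relIndex cj(x, V)) with h | h
  · exact k1 x hx h
  · have h3 := k1 _ (inv_mem hx) (by
      rw [relIndex_cent_cj_inv, ← relIndex_cj _ cj(x⁻¹, V) x, cj_cent, cj_cj_inv]; exact h)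
    rw [← cj_le_cent_cj (g := x), cj_cj_inv] at h3
    exact cent_comm.mp h3

theorem CPH.core (c : CPH p t A D M H) (h : M ⊓ 𝐍(OpOf t D) ≤ H)
    (hJ : H ⊓ 𝐍(JT t (OpOf t D)) ≤ M) : False := by
  have h' := c.nonrich h
  obtain ⟨s, F, hs, g⟩ := c.exists_Gd h
  obtain ⟨s', F', hs', g'⟩ := c.symm.exists_Gd h'
  haveI := Fact.mk hs
  haveI := Fact.mk hs'
  have hR := c.R_le h
  have hR' := c.symm.R_le h'
  have hss : s' ≠ s := fun h => g.ne c hR hs (h ▸ g') hR'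
  obtain ⟨V, f, hVQ, hDV, hZV, hf⟩ := g.exists_V c hR
  have hQ := OpOf_isPGroup (p := t) D
  have hV := caseA c g hR hR' f hVQ hDV hf
  have hVM : H ⊓ 𝐂(V) ≤ M := (inf_le_inf_left _ (cent_le_norm V)).trans
    ((c.max V hVQ (ne_bot_of_le hZV c.Z_ne) hDV f.AV).resolve_left fun h =>
      g.nH ((le_inf g.FM f.FV).trans h))
  have hWR : ncl F' V ≤ OpOf t H := ncl_le hV g'.FR
  have hW := ncl_abelem f.hV (ncl_isComm fun x hx => caseB c hR' f hf hV (g'.FM hx))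
    (OpOf_isPGroup H) hWR
  have hRM : OpOf t H ≤ M := hR'.trans c.QM
  have hEV : ∀ E, MaxAb t (OpOf t D) E → E ≤ 𝐂(V) := fun E hE =>
    f.ff (Or.inl rfl) hf hE.le (isElementaryAbelian_iff.mpr hE.ab) (by
      rw [one_mul]
      exact Lib.Glaub.MaxAb.relIndex_le hE (isElementaryAbelian_iff.mp f.hV) hVQ inf_le_right)
  have hQR : OpOf t D ≤ 𝐍(OpOf t H) := (OpOf_nrm t H).le_norm c.symm.QM
  obtain ⟨E, hE, hFE⟩ : ∃ E, MaxAb t (OpOf t D) E ∧ ¬ E ≤ CentSec (OpOf t D) F' (OpOf t H) := by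
    by_contra hno
    push Not at hno
    exact g'.not_J c.symm hR' hJ ((OpOf_nrm t H).mono (g'.RF.trans le_sup_left)
      (sup_le g'.FM c.symm.QM)) hRM ((le_CentSec_iff hQR).mp (JT_le_iff.mpr hno)).2
  have key : ∀ X ≤ F', ∀ E ≤ OpOf t D, E ≤ 𝐍(X) → ⁅X, E⁆ ≤ M → ⁅X, E⁆ ≤ OpOf t H :=
    fun X hX E hE hn h => comm_comm_mod g'.st (g'.pi.mono_left g'.FR hX) (hX.trans g'.FR)
      (hQ.to_le hE) (hE.trans hQR) hn ((commutator_mono (le_inf ((comm_le_left hn).trans hX) h)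
        hE).trans (g'.comm_le c.symm))
  by_cases h2 : ¬ Two p s t
  · obtain ⟨E, hE, hFE, hn⟩ := exists_maxAb_normalized hQ (hWR.trans hR') hW.2
      (fun E hE => repSet_of_comm (abelem_le_cent hW) (hE.le.trans (le_norm_ncl (g'.QF c.symm)
        f.QV))) (Q := fun E => ¬ E ≤ CentSec (OpOf t D) F' (OpOf t H)) (fun E hE hle => by
          rw [not_not] at hle
          have h1 : F' ≤ 𝐍(CentSec (OpOf t D) F' (OpOf t H)) := le_norm_iff_comm_le_right.mpr
            ((comm_CentSec_le hQR).trans (le_CentSec hR' (comm_le_right g'.FR)))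
          refine (ncl_le (cent_comm.mp ((JT_le_JT hE hle (CentSec_le _ _ _)).trans
            (JT_le_iff.mpr hEV))) (le_normalizer_centralizer
              (h1.trans (normalizer_le_normalizer_JT _)))).trans
            (cent_anti (hE.of_le hle (CentSec_le _ _ _)).le_JT)) hE hFE
    refine hFE fun e he => (le_CentSec (zpowers_le.mpr (hE.le he)) (key F' le_rfl _
      (zpowers_le.mpr (hE.le he)) ((zpowers_le.mpr (hE.le he)).trans (g'.QF c.symm))
      (g'.quad c.symm hss h2 (B := ncl F' V) ⟨hWR.trans (hR'.trans le_sup_right), sup_le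
        self_le_norm_ncl (le_norm_ncl (g'.QF c.symm) f.QV)⟩ (abelem_isPGroup hW) hRM
        ((inf_le_inf_left _ (cent_anti le_ncl)).trans hVM) (hE.le he) ?_))) (mem_zpowers e)
    exact ((commutator_mono le_rfl (zpowers_le.mpr he)).trans
      (quadratic_of_le_normalizer hE.ab.1 hn)).trans (cent_le_C1 he)
  rw [not_not] at h2
  have hEe := isElementaryAbelian_iff.mpr hE.ab
  have hEF := hE.le.trans (g'.QF c.symm)
  obtain ⟨B, hBE, -, hB, hFB⟩ := hyper g'.st g'.pi g'.FR hEe (hE.le.trans hQR) hEF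
    fun h => hFE (le_CentSec hE.le h)
  have hBe := abelem_of_le hEe hBE
  have hcard : Nat.card E ≤ t * Nat.card B := by
    rw [← card_mul_relIndex hBE, mul_comm]; exact Nat.mul_le_mul_right _ hB
  have k1 : ∀ x ∈ CentSec F' B (OpOf t H), cj(x, B) ≤ 𝐂(V) := fun x hx => by
    have hle := cj_le_of_CentSec g'.FR hR' (hBE.trans hE.le) hx
    exact f.ff (Or.inr ⟨rfl, h2⟩) hf hle (abelem_cj.mpr hBe) ((relIndex_le_of_le_left
      (abelem_le_cent (abelem_cj.mpr hBe)) (relIndex_ne_zero _ _)).trans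
      (off hE hle (abelem_cj.mpr hBe) (by rwa [card_cj]) hVQ f.hV))
  -- `[F', J]` centralizes `Ω₁Z(O_t(H))`
  have hW' := (g'.ffh c.symm hR' (Ohm1_Zc_abelem (OpOf_isPGroup H))
    (cent_comm.mp ((Ohm1_le _).trans (Zc_le_cent _)))
    ((le_normalizer_OpOf c.AH).trans ((norm_le_norm_Zc _).trans (norm_le_norm_Ohm1 _)))
    ((OpOf_nrm t H).Zc.Ohm1.le_norm g'.FM) ((OpOf_nrm t H).Zc.Ohm1.le_norm c.symm.QM)).ffJ
    ((Ohm1_le _).trans ((Zc_le _).trans hR'))
  refine hFB (key _ (CentSec_le _ _ _) E hE.le (le_norm_CentSec hEF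
    (le_norm_of_isComm hEe.1 le_rfl hBE) (hE.le.trans hQR)) (commutator_le.mpr fun x hx u hu => ?_))
  have hxF := CentSec_le _ _ _ hx
  have k2 : (𝐂(cj(x, E))).relIndex V ≤ t := by
    have h3 : cj(x⁻¹, V) ≤ OpOf t D := (cj_le_of_le hV (g'.FR (inv_mem hxF))).trans hR'
    have h4 := off hE (hBE.trans hE.le) hBe hcard h3 (abelem_cj.mpr f.hV)
    have h5 : B ≤ 𝐂(cj(x⁻¹, V)) := by
      rw [← cj_le_cent_cj (g := x), cj_cj_inv]; exact k1 x hx
    rw [relIndex_eq_one.mpr h5, mul_one] at h4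
    rw [← relIndex_cj _ _ x⁻¹, cj_cent, cj_inv_cj]
    exact (relIndex_le_of_le_left (hBE.trans hE.ab.1) (relIndex_ne_zero _ _)).trans h4
  have k3 : ∀ y ∈ E ⊔ cj(x, E), (C1 y).relIndex V ≤ t := fun y hy => by
    refine le_trans ?_ k2
    rw [← inf_relIndex_right (𝐂(cj(x, E)))]
    exact relIndex_le_of_le_left ((le_centralizer_sup (inf_le_right.trans (cent_comm.mp (hEV E hE)))
      inf_le_left).trans (cent_le_C1 hy)) (relIndex_ne_zero _ _)
  have hJF : ⁅F', JT t (OpOf t D)⁆ ≤ F' := comm_le_left ((JT_le _).trans (g'.QF c.symm))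
  refine le_of_selts g'.st ht.out g'.pi g'.FR
    (inf_le_right.trans hJF : (E ⊔ cj(x, E)) ⊓ ⁅F', JT t (OpOf t D)⁆ ≤ F') hRM
    (fun y hy hc => hVM ⟨g'.FM (hJF hy.2), ?_⟩) ⟨?_, commutator_mem_commutator hxF (hE.le_JT hu)⟩
  swap
  · rw [commutatorElement_def]
    exact mul_mem (mem_sup_right (conj_mem_cj.mpr hu)) (mem_sup_left (inv_mem hu))
  have hX : zpowers y ≤ F' := zpowers_le.mpr (hJF hy.2)
  have hXR := hX.trans g'.FR
  have hT : ⁅OpOf t H, zpowers y⁆ ≤ 𝐂(V) := commutator_le.mpr fun r hr z hz =>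
    f.elt h2 hf (hR' (H6.comm_mem (hXR hz) hr)) ((relIndex_C1_comm_le (f.QV (hR' hr)) z).trans (by
      rw [sq]; exact Nat.mul_self_le_mul_self (k3 z (zpowers_le.mpr hy.1 hz))))
  have hU : ncl (zpowers y) V ≤ ncl F' V := ncl_le_iff.mpr fun z hz => cj_le_ncl (hX hz)
  have hUe := abelem_of_le hW hU
  have hU' : ⁅ncl (zpowers y) V, zpowers y⁆ ≤ ncl (zpowers y) V := comm_le_left self_le_norm_ncl
  have cop : ∀ P : Subgroup G, IsPGroup t P → (Nat.card P).Coprime (Nat.card (zpowers y)) :=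
    fun P hP => coprime_card_of_isPGroup hP (not_dvd_card_zpowers hc)
  have hn : OpOf t H ≤ 𝐍(⁅ncl (zpowers y) V, zpowers y⁆) := by
    refine (coprime_cent_prod hXR (cop _ (OpOf_isPGroup H))
      (isSolvable_of_isPGroup (OpOf_isPGroup H))).le_norm ?_ ?_
    · exact (cent_comm.mp (hU'.trans (ncl_le (cent_comm.mp hT) (le_normalizer_centralizer
        (right_le_norm_comm _ _))))).trans (cent_le_norm _)
    · exact le_normalizer_commutator (le_norm_ncl (inf_le_right.trans (cent_le_norm _))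
        (inf_le_left.trans (hR'.trans f.QV))) (inf_le_right.trans (cent_le_norm _))
  have h0 : ⁅ncl (zpowers y) V, zpowers y⁆ = ⊥ := by
    by_contra hne
    refine inf_centralizer_ne_bot (OpOf_isPGroup H) ((abelem_isPGroup hUe).to_le hU') hn hne
      (eq_bot_iff.mpr (le_trans (le_inf inf_le_left ?_) (coprime_abel_cent_TI self_le_norm_ncl
        (cop _ (abelem_isPGroup hUe)) hUe.1).le))
    refine le_trans (le_Ohm1_of_abelem (abelem_of_le hUe (inf_le_left.trans hU'))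
      (inf_le_inf_right _ (hU'.trans (hU.trans hWR)))) (cent_comm.mp ?_)
    exact (zpowers_le.mpr hy.2).trans hW'
  exact cent_anti le_ncl (comm_eq_bot_iff'.mp h0 (mem_zpowers y))

omit hs in
theorem CPH.false (c : CPH p t A D M H) : False := by
  have h : M ⊓ 𝐍(OpOf t D) ≤ H := (c.max _ le_rfl c.Qne (OpOf_nrm t D).norm c.AQ).elim id
    fun h => c.symm.nonrich h
  exact c.J_max.elim (fun hJ => c.symm.core (c.nonrich h) hJ) (c.core h)

end Cfsg.Agent.Sig
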