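/- Solvable signalizer functors: the minimal counterexample. -/
import Cfsg.Agent.Lib.Sig.Ben
import Cfsg.Agent.Lib.Sig.CP

set_option autoImplicit false
set_option linter.style.haveILetI false

namespace Cfsg.Agent.Sig

open Subgroup Cfsg.Agent.Lib.Core Cfsg.Agent.FT
open scoped Cfsg.Agent.Lib.Glaub commutatorElement

variable {G : Type*} [Group G]

/-- maximal members containing `C_θ(A)` -/
structure Max0 (p : ℕ) (A : Subgroup G) (θ : G → Subgroup G) (M : Subgroup G) : Prop where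
  mem : Mem p A θ M
  c0 : Cl θ A ≤ M
  max : ∀ U, Mem p A θ U → M ≤ U → U = M

structure Ctx (p : ℕ) (π : Finset ℕ) (A : Subgroup G) (θ : G → Subgroup G) : Prop where
  f : SF p π A θ
  hL : ∀ X, Mem p A θ X → X ≠ ⊥ → ∃ U, Mem p A θ U ∧ ∀ Y, Mem p A θ Y → Y ≤ 𝐍(X) → Y ≤ U
  nc : ¬ Complete p A θ

variable {p q r s t v w : ℕ} {π : Finset ℕ} {A l M N H U X Y K W : Subgroup G} {θ : G → Subgroup G}
  {a x y : G}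

theorem Max0.c0_norm (h : Max0 p A θ M) : Cl θ A ≤ 𝐍(M) := h.c0.trans le_normalizer

theorem Max0.c0_OpOf (h : Max0 p A θ M) (q : ℕ) : Cl θ A ≤ 𝐍(OpOf q M) :=
  le_normalizer_OpOf h.c0_norm

theorem Max0.eq (h : Max0 p A θ M) (h' : Max0 p A θ N) (hle : M ≤ N) : N = M := h.max N h'.mem hle

variable [hp : Fact p.Prime] [Finite G]

theorem SF.exists_max0 (f : SF p π A θ) (hU : Mem p A θ U) (h : Cl θ A ≤ 𝐍(U)) :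
    ∃ M, Max0 p A θ M ∧ U ≤ M := by
  obtain ⟨M, h1, h2, h3⟩ := exists_maximal_subgroup (P := Mem p A θ) (f.sup hU f.mem_C0 h)
  exact ⟨M, ⟨h2, le_sup_right.trans h1, h3⟩, le_sup_left.trans h1⟩

theorem SF.exists_max0_pt (f : SF p π A θ) (ha : a ∈ A) (h1 : a ≠ 1) :
    ∃ M, Max0 p A θ M ∧ θ a ≤ M :=
  f.exists_max0 (f.mem a ha h1) ((Cl_le ha h1).trans le_normalizer)

theorem SF.card_zpowers (f : SF p π A θ) (hx : x ∈ A) (h1 : x ≠ 1) : Nat.card (zpowers x) = p := by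
  rw [Nat.card_zpowers, orderOf_eq_of_pow_prime (f.ab.2 x hx) h1]

theorem SF.fpf (f : SF p π A θ) (hx : x ∈ A) (h1 : x ≠ 1) (hK : x ∈ 𝐍(K)) (hKx : K ⊓ C1 x = ⊥)
    (hKW : K ≤ 𝐍(W)) (hW : Mem p A θ W) (hc : (Nat.card W).Coprime (Nat.card K))
    (hWx : W ⊓ C1 x = ⊥) : K ≤ 𝐂(W) := by
  by_cases h0 : K = ⊥
  · rw [h0]; exact bot_le
  have hn := zpowers_le.mpr hK
  refine (Frobenius_Wielandt_fixpoint (H6.frob_sup (H6.semiReg_of_prime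
    (by rw [f.card_zpowers hx h1]; exact hp.out) (by rwa [cent_zpowers])) hn h0
    (FT.zpowers_ne_bot.mpr h1)) (sup_le hKW (zpowers_le.mpr (hW.norm hx))) ?_ hW.sol).2.1
    (by rwa [cent_zpowers])
  rw [← isPi_compl_primesOf_iff, sup_comm]
  exact (isPi_compl_primesOf_iff.mpr (f.cop hW.cop (zpowers_le.mpr hx))).sup
    (isPi_compl_primesOf_iff.mpr hc) hn

omit hp in
theorem le_comm_of_fpf (hx : x ∈ 𝐍(W)) (h : W ⊓ C1 x = ⊥) : W ≤ ⁅W, zpowers x⁆ := fun _ hw => by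
  obtain ⟨m, hm, rfl⟩ := H6.exists_comm_eq hx h hw
  exact commutator_mem_commutator hm (mem_zpowers x)

theorem SF.tri_aux (f : SF p π A θ) (hX : Mem p A θ X) (hY : Mem p A θ Y) (hn : X ≤ 𝐍(Y))
    (hc : (Nat.card Y).Coprime (Nat.card X)) (h : ¬ X ≤ 𝐂(Y)) : ∃ l, Line p A l ∧
      (∀ x ∈ l, X ⊓ C1 x ≠ ⊥) ∧
      ((∀ x ∈ A, X ⊓ C1 x ≠ ⊥) ∨ ∀ x ∈ A, x ∉ l → Y ⊓ C1 x ≠ ⊥) := by
  obtain ⟨l, hl, h1⟩ := f.exists_line_not_le hX h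
  refine ⟨l, hl, fun x hx => ne_bot_of_le (inf_le_inf_left _ (cent_le_C1 hx))
    fun h0 => h1 (h0 ▸ bot_le), or_iff_not_imp_left.mpr fun h2 x hx hxl h3 => ?_⟩
  push Not at h2
  obtain ⟨y, hy, h2⟩ := h2
  refine h1 (f.fpf hx (fun h => hxl (h ▸ one_mem l)) ((hX.inf (f.norm_cent hl.le)).norm hx)
    (eq_bot_iff.mpr (h2 ▸ le_inf (inf_le_left.trans inf_le_left) ?_)) (inf_le_left.trans hn) hY
    (coprime_mono hc le_rfl inf_le_left) h3)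
  refine le_trans ?_ (cent_le_C1 hy)
  rw [← f.line_sup hl hx hxl, centralizer_sup, cent_zpowers]
  exact inf_le_inf_right _ inf_le_right

theorem SF.tri {X₁ X₂ X₃ : Subgroup G} (f : SF p π A θ) (h₁ : Mem p A θ X₁) (h₂ : Mem p A θ X₂)
    (h₃ : Mem p A θ X₃) (n₁ : X₁ ≤ 𝐍(X₂)) (n₂ : X₂ ≤ 𝐍(X₃)) (n₃ : X₃ ≤ 𝐍(X₁))
    (c₁ : (Nat.card X₂).Coprime (Nat.card X₁)) (c₂ : (Nat.card X₃).Coprime (Nat.card X₂))
    (c₃ : (Nat.card X₁).Coprime (Nat.card X₃)) (k₁ : ¬ X₁ ≤ 𝐂(X₂)) (k₂ : ¬ X₂ ≤ 𝐂(X₃))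
    (k₃ : ¬ X₃ ≤ 𝐂(X₁)) : ∃ M, Max0 p A θ M ∧ X₁ ⊓ M ≠ ⊥ ∧ X₂ ⊓ M ≠ ⊥ ∧ X₃ ⊓ M ≠ ⊥ := by
  suffices ∃ x ∈ A, x ≠ 1 ∧ X₁ ⊓ C1 x ≠ ⊥ ∧ X₂ ⊓ C1 x ≠ ⊥ ∧ X₃ ⊓ C1 x ≠ ⊥ by
    obtain ⟨x, hx, h1, a₁, a₂, a₃⟩ := this
    obtain ⟨M, hM, hle⟩ := f.exists_max0_pt hx h1
    exact ⟨M, hM, ne_bot_of_le (le_inf inf_le_left ((h₁.cent x hx h1).trans hle)) a₁,
      ne_bot_of_le (le_inf inf_le_left ((h₂.cent x hx h1).trans hle)) a₂,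
      ne_bot_of_le (le_inf inf_le_left ((h₃.cent x hx h1).trans hle)) a₃⟩
  obtain ⟨l₁, hl₁, a₁, b₁⟩ := f.tri_aux h₁ h₂ n₁ c₁ k₁
  obtain ⟨l₂, hl₂, a₂, b₂⟩ := f.tri_aux h₂ h₃ n₂ c₂ k₂
  obtain ⟨l₃, hl₃, a₃, b₃⟩ := f.tri_aux h₃ h₁ n₃ c₃ k₃
  obtain ⟨z, z₁, z₂, hz⟩ := f.meet hl₁ hl₂
  obtain ⟨y, y₂, y₃, hy⟩ := f.meet hl₂ hl₃
  obtain ⟨w, w₃, w₁, hw⟩ := f.meet hl₃ hl₁
  rcases b₁ with b₁ | b₁
  · exact ⟨y, hl₂.le y₂, hy, b₁ y (hl₂.le y₂), a₂ y y₂, a₃ y y₃⟩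
  rcases b₂ with b₂ | b₂
  · exact ⟨w, hl₁.le w₁, hw, a₁ w w₁, b₂ w (hl₁.le w₁), a₃ w w₃⟩
  rcases b₃ with b₃ | b₃
  · exact ⟨z, hl₁.le z₁, hz, a₁ z z₁, a₂ z z₂, b₃ z (hl₁.le z₁)⟩
  by_cases z₃ : z ∈ l₃
  · exact ⟨z, hl₁.le z₁, hz, a₁ z z₁, a₂ z z₂, a₃ z z₃⟩
  by_cases y₁ : y ∈ l₁
  · exact ⟨y, hl₂.le y₂, hy, a₁ y y₁, a₂ y y₂, a₃ y y₃⟩
  by_cases w₂ : w ∈ l₂
  · exact ⟨w, hl₁.le w₁, hw, a₁ w w₁, a₂ w w₂, a₃ w w₃⟩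
  have hx := mul_mem (mul_mem (hl₁.le z₁) (hl₂.le y₂)) (hl₁.le w₁)
  have x₁ : z * y * w ∉ l₁ := fun h => y₁ ((mul_mem_cancel_left z₁).mp
    ((mul_mem_cancel_right w₁).mp h))
  have x₂ : z * y * w ∉ l₂ := fun h => w₂ ((mul_mem_cancel_left (mul_mem z₂ y₂)).mp h)
  have x₃ : z * y * w ∉ l₃ := fun h => z₃ ((mul_mem_cancel_right y₃).mp
    ((mul_mem_cancel_right w₃).mp h))
  exact ⟨_, hx, fun h => x₁ (h ▸ one_mem _), b₃ _ hx x₃, b₁ _ hx x₁, b₂ _ hx x₂⟩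

namespace Ctx

theorem loc' (c : Ctx p π A θ) (hM : Max0 p A θ M) (hX : Mem p A θ X) (h0 : X ≠ ⊥)
    (hn : M ≤ 𝐍(X)) (hY : Mem p A θ Y) (h : Y ≤ 𝐍(X)) : Y ≤ M := by
  obtain ⟨U, hU, h1⟩ := c.hL X hX h0
  exact hM.max U hU (h1 M hM.mem hn) ▸ h1 Y hY h

theorem loc (c : Ctx p π A θ) (hM : Max0 p A θ M) (hN : Mem p A θ N) : Loc M N :=
  fun _ h1 h2 h3 => c.loc' hM (hM.mem.char h1 h3) h2 (le_normalizer.trans h3)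
    (hN.inf_norm (hM.mem.norm.trans h3)) inf_le_right

theorem loc_OpOf (c : Ctx p π A θ) (hM : Max0 p A θ M) (h0 : OpOf q M ≠ ⊥) (hY : Mem p A θ Y)
    (h : Y ≤ 𝐍(OpOf q M)) : Y ≤ M := c.loc' hM (hM.mem.OpOf q) h0 (OpOf_nrm q M).2 hY h

theorem hL0 (c : Ctx p π A θ) (hX : Mem p A θ X) (h0 : X ≠ ⊥) (h : Cl θ A ≤ 𝐍(X)) :
    ∃ M, Max0 p A θ M ∧ ∀ Y, Mem p A θ Y → Y ≤ 𝐍(X) → Y ≤ M := by
  obtain ⟨U, hU, h1⟩ := c.hL X hX h0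
  obtain ⟨M, hM, h2⟩ := c.f.exists_max0 hU ((h1 _ c.f.mem_C0 h).trans le_normalizer)
  exact ⟨M, hM, fun Y hY hn => (h1 Y hY hn).trans h2⟩

theorem not_all (c : Ctx p π A θ) (hM : Mem p A θ M) (h : ∀ U, Mem p A θ U → U ≤ M) : False :=
  c.nc ⟨M, hM, fun a ha h1 => h _ (c.f.mem a ha h1)⟩

theorem bad_pt (c : Ctx p π A θ) (hM : Mem p A θ M) (hl : Line p A l) :
    ∃ a ∈ l, a ≠ 1 ∧ ¬ θ a ≤ M := by
  by_contra h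
  push Not at h
  exact c.not_all hM fun U hU => c.f.le_of_pts hl h hU

theorem bad_line (c : Ctx p π A θ) (hM : Mem p A θ M) : ∃ l, Line p A l ∧ ¬ Cl θ l ≤ M := by
  by_contra h
  push Not at h
  exact c.not_all hM fun U hU => c.f.le_of_lines h hU

theorem ne_bot (c : Ctx p π A θ) (hM : Max0 p A θ M) : M ≠ ⊥ := fun h =>
  c.not_all hM.mem fun U hU => (hM.max U hU (h ▸ bot_le)).le

theorem exists_tau (c : Ctx p π A θ) (hM : Max0 p A θ M) : ∃ q, q.Prime ∧ OpOf q M ≠ ⊥ :=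
  exists_OpOf_ne_bot_of_isSolvable hM.mem.sol (c.ne_bot hM)

theorem tau_mem [Fact q.Prime] (c : Ctx p π A θ) (hM : Mem p A θ M) (h : OpOf q M ≠ ⊥) : q ∈ π :=
  (c.f.isPi (hM.OpOf q)).mem_of_isPGroup (OpOf_isPGroup M) h

theorem b3 [Fact s.Prime] [Fact q.Prime] (c : Ctx p π A θ) (hM : Max0 p A θ M)
    (hN : Mem p A θ N) (h : Arr M N) (hs : OpOf s M ≠ ⊥) (hq : OpOf q M ≠ ⊥) (hqs : q ≠ s) :
    OpOf s N ≤ M := h.b3 (c.loc hM hN) hN.sol hs hq hqs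

theorem b4 [Fact s.Prime] [Fact q.Prime] (c : Ctx p π A θ) (hM : Max0 p A θ M)
    (hN : Max0 p A θ N) (h : Arr M N) (h' : Arr N M) (hs : OpOf s M ≠ ⊥) (hq : OpOf q M ≠ ⊥)
    (hqs : q ≠ s) : M = N :=
  h.b4 h' (c.loc hM hN.mem) (c.loc hN hM.mem) hM.mem.sol hN.mem.sol hs hq hqs

/-- `M ⇝ N` and `τ(N) ⊆ τ(M)` -/
theorem b5 [Fact s.Prime] [Fact q.Prime] (c : Ctx p π A θ) (hM : Max0 p A θ M)
    (hN : Max0 p A θ N) (h : Arr M N) (hs : OpOf s M ≠ ⊥) (hq : OpOf q M ≠ ⊥) (hqs : q ≠ s)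
    (hτ : ∀ r, r.Prime → OpOf r N ≠ ⊥ → OpOf r M ≠ ⊥) : M = N := by
  refine c.b4 hM hN h (arr_of_le (fittingOf_le_of_forall_OpOf fun r hr => ?_)) hs hq hqs
  haveI := Fact.mk hr
  by_cases h0 : OpOf r N = ⊥
  · rw [h0]; exact bot_le
  by_cases hrs : r = s
  · subst hrs; exact c.b3 hM hN.mem h hs hq hqs
  · exact c.b3 hM hN.mem h (hτ r hr h0) hs (Ne.symm hrs)

theorem partner (c : Ctx p π A θ) (hM : Max0 p A θ M) (hN : Max0 p A θ N) (hne : N ≠ M) :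
    ∃ H, Max0 p A θ H ∧ H ≠ M ∧ M ⊓ N ≤ H ∧ ∀ t, t.Prime → OppOf t M = ⊥ → OppOf t H = ⊥ →
      OpOf t M ⊓ H = ⊥ := by
  obtain ⟨D, h1, ⟨H, hH, hHM, hD⟩, h2⟩ := exists_maximal_subgroup
    (P := fun D => ∃ H, Max0 p A θ H ∧ H ≠ M ∧ D = M ⊓ H) ⟨N, hN, hne, rfl⟩
  refine ⟨H, hH, hHM, h1.trans (hD.le.trans inf_le_right), fun t ht a1 a2 => by_contra fun a3 => ?_⟩
  haveI := Fact.mk ht
  have mD : Mem p A θ D := hD ▸ hM.mem.inf hH.mem.norm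
  have c0 : Cl θ A ≤ D := hD ▸ le_inf hM.c0 hH.c0
  have key : ∀ U, Mem p A θ U → D ≤ U → U ≤ M ∨ U ⊓ M ≤ H := fun U hU hDU => by
    obtain ⟨H', b1, b2⟩ := c.f.exists_max0 hU ((c0.trans hDU).trans le_normalizer)
    by_cases b3 : H' = M
    · exact Or.inl (b3 ▸ b2)
    · have := h2 _ ⟨H', b1, b3, rfl⟩ (le_inf (hD.le.trans inf_le_left) (hDU.trans b2))
      exact Or.inr ((le_inf inf_le_right (inf_le_left.trans b2)).trans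
        (this.le.trans (hD.le.trans inf_le_right)))
  have hQ : OpOf t D ≠ ⊥ := ne_bot_of_le (le_trans (le_inf inf_le_left
    (hD ▸ inf_le_inf_right _ (OpOf_le M))) (inf_OpOf_le (hD.le.trans inf_le_left))) a3
  refine CPH.false (p := p) (t := t) (A := A) ⟨?_, c.f.pgroup, hD, hM.mem.sol, hH.mem.sol,
    hM.mem.cop, hH.mem.cop, hM.mem.norm, hH.mem.norm, a1, a2,
    (hM.mem.inf_le_Cl le_rfl).trans hH.c0, (hH.mem.inf_le_Cl le_rfl).trans hM.c0,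
    fun h => hHM (hM.eq hH h), fun h => hHM (hH.eq hM h).symm, hQ, fun X b1 b2 b3 b4 => ?_,
    fun s hs hst X b1 Y b2 b3 b4 b5 b6 b7 b8 b9 b10 => ?_⟩
  · rintro rfl
    exact (mD.OpOf p).cop (dvd_card_of_isPGroup_of_ne_bot (OpOf_isPGroup D) hQ)
  · obtain ⟨U, hU, b5⟩ := c.hL X (mD.sub (b1.trans (OpOf_le D)) b4) b2
    refine (key U hU (b5 D mD b3)).symm.imp (fun h => le_trans (le_inf ?_ inf_le_left) h)
      fun h => le_trans ?_ h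
    · exact b5 _ (hM.mem.inf_norm b4) inf_le_right
    · exact b5 _ (hH.mem.inf_norm b4) inf_le_right
  · haveI := Fact.mk hs
    have m := c.f.perm hst (hM.mem.sub b1 b7) (hH.mem.sub b2 b8) (c0.trans b5) (c0.trans b6) b3 b4
      b9 b10 (mD.OpOf t).norm
    refine (key _ (c.f.sup m mD (le_normalizer_sup b5 b6)) le_sup_right).symm.imp
      (fun h => le_trans (le_inf (le_sup_of_le_left le_sup_left) b1) h)
      fun h => le_trans (le_sup_of_le_left le_sup_right) h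

end Ctx

end Cfsg.Agent.Sig
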