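/- Solvable signalizer functors: uniqueness subgroups and sinks. -/
import Cfsg.Agent.Lib.Sig.Ctx

set_option autoImplicit false
set_option linter.style.haveILetI false

namespace Cfsg.Agent.Sig

open Subgroup Cfsg.Agent.Lib.Core Cfsg.Agent.FT
open scoped Cfsg.Agent.Lib.Glaub commutatorElement

variable {G : Type*} [Group G]
variable {p q r s t v w : ℕ} {π : Finset ℕ} {A l M N H U X Y K W : Subgroup G} {θ : G → Subgroup G}
  {a x y : G}
variable [hp : Fact p.Prime] [Finite G]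

namespace Ctx

theorem star (c : Ctx p π A θ) (hM : Max0 p A θ M) (h : ∀ s, s.Prime → OpOf s M ≠ ⊥ →
    ∃ K ≤ OpOf s M, K ≠ ⊥ ∧ A ≤ 𝐍(K) ∧ ∀ H, Max0 p A θ H → K ⊓ H ≠ ⊥ →
      fittingOf H ≤ M ∧ K ⊓ fittingOf H ≠ ⊥) : False := by
  obtain ⟨s, hs, h0⟩ := c.exists_tau hM
  haveI := Fact.mk hs
  by_cases hch : ∀ t, t.Prime → t ≠ s → OpOf t M = ⊥
  · obtain ⟨K, a1, a2, a3, a4⟩ := h s hs h0
    have mK := hM.mem.sub (a1.trans (OpOf_le M)) a3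
    obtain ⟨l, hl, b1⟩ := c.f.exists_line_ne mK a2
    obtain ⟨b, hb, b2, b3⟩ := c.bad_pt hM.mem hl
    obtain ⟨N, hN, b4⟩ := c.f.exists_max0_pt (hl.le hb) b2
    obtain ⟨H, hH, d1, d2, d3⟩ := c.partner hM hN fun e => b3 (e ▸ b4)
    have d4 : K ⊓ H ≠ ⊥ := ne_bot_of_le (le_inf inf_le_left (le_trans (le_inf
      (inf_le_left.trans (a1.trans (OpOf_le M))) ((inf_le_inf_left _ (cent_le_C1 hb)).trans
        ((mK.cent b (hl.le hb) b2).trans b4))) d2)) b1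
    have d5 := ne_bot_of_le (inf_le_inf_right _ a1) d4
    have d6 := arr_of_le (a4 H hH d4).1
    have d7 := d6.b1' hH.mem.sol d5
    by_cases d8 : ∀ t, t.Prime → t ≠ s → OpOf t H = ⊥
    · exact d5 (d3 s hs (OppOf_eq_bot hM.mem.sol hch) (OppOf_eq_bot hH.mem.sol d8))
    push Not at d8
    obtain ⟨t, ht, hts, d8⟩ := d8
    haveI := Fact.mk ht
    refine d1 (c.b5 hH hM d6 d7 d8 hts fun r hr h1 => ?_)
    by_cases hrs : r = s
    · exact hrs ▸ d7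
    · exact absurd (hch r hr hrs) h1
  push Not at hch
  obtain ⟨t, ht, hts, h1⟩ := hch
  haveI := Fact.mk ht
  obtain ⟨l, hl, b1⟩ := c.bad_line hM.mem
  let K' := sSup {F | ∃ H, Max0 p A θ H ∧ Cl θ l ≤ H ∧ fittingOf H ≤ M ∧ fittingOf H = F}
  have mK : Mem p A θ K' := hM.mem.sub (sSup_le fun F ⟨H, _, _, h, e⟩ => e ▸ h)
    (le_norm_sSup fun F ⟨H, h, _, _, e⟩ => e ▸ h.mem.fitting.norm)
  obtain ⟨U, hU, b2⟩ := c.f.exists_max0 (c.f.sup mK (c.f.mem_line hl) (le_norm_sSup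
    fun F ⟨H, _, h, _, e⟩ => e ▸ (fittingOf_nrm H).le_norm h))
    ((le_sup_of_le_right (Cl_anti hl.le)).trans le_normalizer)
  have key : ∀ r, r.Prime → OpOf r M ≠ ⊥ → fittingOf U ≤ M ∧ OpOf r M ⊓ U ≠ ⊥ := fun r hr h2 => by
    obtain ⟨K, a1, a2, a3, a4⟩ := h r hr h2
    have mK := hM.mem.sub (a1.trans (OpOf_le M)) a3
    obtain ⟨a, ha, d1, d2⟩ := c.f.exists_pt_ne hl mK a2
    obtain ⟨H, hH, d3⟩ := c.f.exists_max0_pt (hl.le ha) d1
    obtain ⟨d4, d5⟩ := a4 H hH (ne_bot_of_le (le_inf inf_le_left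
      ((mK.cent a (hl.le ha) d1).trans d3)) d2)
    have d7 : fittingOf H ≤ K' := le_sSup ⟨H, hH, (Cl_le ha d1).trans d3, d4, rfl⟩
    have d6 : K ⊓ U ≠ ⊥ := ne_bot_of_le (inf_le_inf_left _ ((le_sup_of_le_left d7).trans b2)) d5
    exact ⟨(a4 U hU d6).1, ne_bot_of_le (inf_le_inf_right _ a1) d6⟩
  have b3 := arr_of_le (key s hs h0).1
  have b4 : ∀ r, r.Prime → OpOf r M ≠ ⊥ → OpOf r U ≠ ⊥ := fun r hr h2 =>
    haveI := Fact.mk hr
    b3.b1' hU.mem.sol (key r hr h2).2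
  exact b1 (c.b5 hU hM b3 (b4 s hs h0) (b4 t ht h1) hts b4 ▸ le_sup_right.trans b2)

theorem sink (c : Ctx p π A θ) (hM : Max0 p A θ M) (h : ∀ H, Max0 p A θ H → fittingOf H ≤ M) :
    False :=
  c.star hM fun s hs h0 =>
    haveI := Fact.mk hs
    ⟨_, le_rfl, h0, (hM.mem.OpOf s).norm, fun H hH h1 => ⟨h H hH, earg hH.mem.sol (h H hH) h1⟩⟩

theorem sink' (c : Ctx p π A θ) (hM : Max0 p A θ M) (h : ∀ s, s.Prime → s ∈ π → ∀ X,
    Mem p A θ X → IsPGroup s X → Cl θ A ≤ 𝐍(X) → X ≤ M) : False :=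
  c.sink hM fun H hH => fittingOf_le_of_forall_OpOf fun s hs => by
    haveI := Fact.mk hs
    by_cases h0 : OpOf s H = ⊥
    · rw [h0]; exact bot_le
    exact h s hs (c.tau_mem hH.mem h0) _ (hH.mem.OpOf s) (OpOf_isPGroup H) (hH.c0_OpOf s)

end Ctx

/-- `τ(U) = π` has at least two elements -/
structure Full (π : Finset ℕ) (U : Subgroup G) : Prop where
  all : ∀ r, r.Prime → r ∈ π → OpOf r U ≠ ⊥
  two : ∃ s q, s.Prime ∧ q.Prime ∧ q ≠ s ∧ s ∈ π ∧ q ∈ π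

namespace Ctx

theorem loc_max (c : Ctx p π A θ) (hN : Mem p A θ N) (hmax : ∀ U, Mem p A θ U → N ≤ U → U = N)
    (hU : Mem p A θ U) : Loc N U := fun X a1 a2 a3 => by
  obtain ⟨V, hV, b1⟩ := c.hL X (hN.char a1 a3) a2
  exact hmax V hV (b1 N hN (le_normalizer.trans a3)) ▸
    b1 _ (hU.inf_norm (hN.norm.trans a3)) inf_le_right

theorem uq_max (c : Ctx p π A θ) (hU : Max0 p A θ U) (hF : Full π U) (hN : Mem p A θ N)
    (hmax : ∀ U, Mem p A θ U → N ≤ U → U = N) (h : Arr U N) : U = N := by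
  obtain ⟨s, q, hs, hq, hqs, h1, h2⟩ := hF.two
  haveI := Fact.mk hs
  haveI := Fact.mk hq
  refine h.b4 (arr_of_le (fittingOf_le_of_forall_OpOf fun r hr => ?_)) (c.loc hU hN)
    (c.loc_max hN hmax hU.mem) hU.mem.sol hN.sol (hF.all s hs h1) (hF.all q hq h2) hqs
  haveI := Fact.mk hr
  by_cases h0 : OpOf r N = ⊥
  · rw [h0]; exact bot_le
  by_cases hrs : r = s
  · subst hrs; exact c.b3 hU hN h (hF.all r hs h1) (hF.all q hq h2) hqs
  · exact c.b3 hU hN h (hF.all r hr (c.tau_mem hN h0)) (hF.all s hs h1) (Ne.symm hrs)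

theorem uq0 (c : Ctx p π A θ) (hU : Max0 p A θ U) (hF : Full π U) (hX : X ≤ fittingOf U)
    (h0 : X ≠ ⊥) (hA : A ≤ 𝐍(X)) (hY : Mem p A θ Y) (h : Y ≤ 𝐍(X)) : Y ≤ U := by
  have mX := hU.mem.fitting.sub hX hA
  obtain ⟨V, hV, b1⟩ := c.hL X mX h0
  obtain ⟨N, b2, hN, b3⟩ := exists_maximal_subgroup (P := Mem p A θ) hV
  rw [c.uq_max hU hF hN b3 (arr_of_cent hX ((b1 X mX le_normalizer).trans b2)
    ((b1 _ (hU.mem.fitting.inf_cent hA) (inf_le_right.trans (cent_le_norm X))).trans b2))]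
  exact (b1 Y hY h).trans b2

theorem pq [Fact v.Prime] [Fact w.Prime] (c : Ctx p π A θ) (hU : Max0 p A θ U) (hF : Full π U)
    (hN : Mem p A θ N) (hvw : v ≠ w) (hv : OpOf v U ⊓ N ≠ ⊥) (hw : OpOf w U ⊓ N ≠ ⊥) :
    OpOf v N ≤ U := by
  have mV := (hU.mem.OpOf v).inf hN.norm
  have mW := (hU.mem.OpOf w).inf hN.norm
  have h1 := c.uq0 hU hF (inf_le_left.trans (OpOf_le_fittingOf U)) hv mV.norm
    ((hN.OpOf v).inf_cent mV.norm) (inf_le_right.trans (cent_le_norm _))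
  have h2 := thompson_A_times_B (OpOf_isPGroup N) ((OpOf_isPGroup U).to_le inf_le_left)
    (not_dvd_card_of_isPGroup ((OpOf_isPGroup U).to_le inf_le_left) hvw)
    ((OpOf_nrm v N).le_norm inf_le_right) ((OpOf_nrm v N).le_norm inf_le_right)
    (le_cent_of_le (inf_le_left.trans (OpOf_le_centralizer_OpOf hvw U)) inf_le_left)
    (cent_of_inf inf_le_left inf_le_left ((OpOf_nrm w U).le_norm h1)
      ((OpOf_nrm v N).le_norm inf_le_right) (pq_inf hvw (OpOf_isPGroup N) (OpOf_isPGroup U)))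
  exact c.uq0 hU hF (inf_le_left.trans (OpOf_le_fittingOf U)) hw mW.norm (hN.OpOf v)
    (h2.trans (cent_le_norm _))

end Ctx

end Cfsg.Agent.Sig
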