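/- Solvable signalizer functors: two primes, first part. -/
import Cfsg.Agent.Lib.Sig.Star

set_option autoImplicit false
set_option linter.style.haveILetI false

namespace Cfsg.Agent.Sig

open Subgroup Cfsg.Agent.Lib.Core Cfsg.Agent.FT
open scoped Cfsg.Agent.Lib.Glaub commutatorElement

variable {G : Type*} [Group G]

structure C2 (p : ℕ) (π : Finset ℕ) (q r : ℕ) (A : Subgroup G) (θ : G → Subgroup G) : Prop where
  c : Ctx p π A θ
  ne : q ≠ r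
  hπ : ∀ s, s ∈ π ↔ s = q ∨ s = r

structure C2U (p : ℕ) (π : Finset ℕ) (q r : ℕ) (A : Subgroup G) (θ : G → Subgroup G)
    (U : Subgroup G) : Prop extends C2 p π q r A θ where
  hU : Max0 p A θ U
  W : OpOf q U ≠ ⊥
  b : OpOf r U ≠ ⊥

variable {p q r s : ℕ} {π : Finset ℕ} {A l M N H U X Y K W R S E L : Subgroup G}
  {θ : G → Subgroup G} {a x y : G}

theorem C2.symm (c : C2 p π q r A θ) : C2 p π r q A θ :=
  ⟨c.c, c.ne.symm, fun s => (c.hπ s).trans or_comm⟩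

theorem C2U.symm (c : C2U p π q r A θ U) : C2U p π r q A θ U := ⟨c.toC2.symm, c.hU, c.b, c.W⟩

variable [hp : Fact p.Prime] [Finite G] [hq : Fact q.Prime] [hr : Fact r.Prime]

namespace C2

omit hq hr in
theorem isPi (c : C2 p π q r A θ) (h : Mem p A θ M) : IsPi {q, r} M :=
  (c.c.f.isPi h).mono fun s hs => (c.hπ s).mp hs

omit hq hr in
theorem fit_le (c : C2 p π q r A θ) (h : Mem p A θ M) (h1 : OpOf q M ≤ X) (h2 : OpOf r M ≤ X) :
    fittingOf M ≤ X := by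
  refine fittingOf_le_of_forall_OpOf fun s hs => ?_
  haveI := Fact.mk hs
  by_cases h0 : OpOf s M = ⊥
  · rw [h0]; exact bot_le
  rcases (c.hπ s).mp (c.c.tau_mem h h0) with rfl | rfl
  exacts [h1, h2]

omit hr in
theorem opp (c : C2 p π q r A θ) (h : Mem p A θ M) (h0 : OpOf r M = ⊥) : OppOf q M = ⊥ :=
  OppOf_eq_bot h.sol fun s hs hsq => by
    haveI := Fact.mk hs
    by_contra h1
    rcases (c.hπ s).mp (c.c.tau_mem h h1) with rfl | rfl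
    exacts [hsq rfl, h1 h0]

omit hr in
theorem cent (c : C2 p π q r A θ) (h : Mem p A θ M) (h0 : OpOf r M = ⊥) :
    M ⊓ 𝐂(OpOf q M) ≤ OpOf q M := by
  have := cent_sub_Fitting h.sol
  rwa [fittingOf_eq_OpOf (c.opp h h0)] at this

omit hq in
theorem Z_le (c : C2 p π q r A θ) (hR : MaxQ p A θ r R) (hH : Max0 p A θ H) (h0 : OpOf q H = ⊥) :
    Zc R ≤ ZOp r H := by
  have h1 : Zc R ≤ 𝐂(OpOf r H) := le_cent_of_le (Zc_le_cent R)
    (c.c.f.le_maxQ hR (hH.mem.OpOf r) (OpOf_isPGroup H) (hH.c0_OpOf r))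
  have h2 : OpOf r H ≠ ⊥ := fun h => c.c.ne_bot hH (eq_bot_iff.mpr (by
    simpa [h, cent_bot] using c.symm.cent hH.mem h0))
  exact le_inf ((le_inf (c.c.loc_OpOf hH h2 hR.mem.Zc (h1.trans (cent_le_norm _))) h1).trans
    (c.symm.cent hH.mem h0)) h1

theorem allchar (c : C2 p π q r A θ) (hR : MaxQ p A θ r R) (hM : Max0 p A θ M)
    (h0 : OpOf r M = ⊥) (hZ : Zc R ⊓ M ≠ ⊥)
    (hall : ∀ H, Max0 p A θ H → OpOf q H = ⊥ ∨ OpOf r H = ⊥) : False := by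
  have f := c.c.f
  have hZr : IsPGroup r ↥(Zc R ⊓ M) := hR.pg.to_le (inf_le_left.trans (Zc_le R))
  obtain ⟨l₁, hl₁, a1⟩ := f.exists_line_not_le (X := 𝐂(Zc R ⊓ M)) (hM.mem.OpOf q) fun h =>
    hZ (eq_bot_iff.mpr ((pq_inf c.ne (OpOf_isPGroup M) hZr) ▸ le_inf
      ((le_inf inf_le_right (cent_comm.mp h)).trans (c.cent hM.mem h0)) le_rfl))
  obtain ⟨l₂, hl₂, a2⟩ := c.c.bad_line hM.mem
  obtain ⟨x, x₁, x₂, hx⟩ := f.meet hl₁ hl₂
  obtain ⟨N, hN, a3⟩ := f.exists_max0_pt (hl₁.le x₁) hx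
  obtain ⟨H, hH, -, a4, a5⟩ := c.c.partner hM hN fun e => a2 ((Cl_le x₂ hx).trans (e ▸ a3))
  have a6 : OpOf q M ⊓ 𝐂(l₁) ≤ H := le_trans (le_inf (inf_le_left.trans (OpOf_le M))
    ((inf_le_inf_left _ (cent_le_C1 x₁)).trans (((hM.mem.OpOf q).cent x (hl₁.le x₁) hx).trans a3)))
    a4
  rcases hall H hH with h | h
  · exact a1 (cent_of_inf inf_le_left (inf_le_left.trans ((c.Z_le hR hH h).trans (ZOp_le_OpOf H)))
      ((OpOf_nrm r H).le_norm a6) ((OpOf_nrm q M).le_norm inf_le_right)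
      (pq_inf c.ne (OpOf_isPGroup M) (OpOf_isPGroup H)))
  · exact a1 (le_trans (le_inf inf_le_left a6)
      ((a5 q hq.out (c.opp hM.mem h0) (c.opp hH.mem h)).le.trans bot_le))

theorem maxQ_ne_bot (c : C2 p π q r A θ) (hR : MaxQ p A θ r R) : R ≠ ⊥ := fun h =>
  c.c.nc (c.c.f.complete_of_q (q := q) fun a ha h1 => by
    have m := c.c.f.mem a ha h1
    have h2 := (c.c.f.syl hR m ((Cl_le ha h1).trans le_normalizer)).not_dvd
    rw [h, bot_inf_eq, relIndex_bot_left] at h2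
    refine isPi_singleton_iff.mp fun s hs hd => ?_
    rcases c.isPi m s hs hd with rfl | rfl
    exacts [rfl, absurd hd h2])

theorem exists_U (c : C2 p π q r A θ) : ∃ U, C2U p π q r A θ U := by
  by_contra hno
  have hall : ∀ H, Max0 p A θ H → OpOf q H = ⊥ ∨ OpOf r H = ⊥ := fun H hH => by
    by_contra h
    push Not at h
    exact hno ⟨H, c, hH, h.1, h.2⟩
  have f := c.c.f
  obtain ⟨S, hS⟩ := exists_maxQ' (p := p) (A := A) (θ := θ) q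
  obtain ⟨R, hR⟩ := exists_maxQ' (p := p) (A := A) (θ := θ) r
  obtain ⟨l₁, hl₁, a1⟩ := f.exists_line_ne hS.mem.Zc
    (Zc_ne_bot hS.pg.isNilpotent (c.symm.maxQ_ne_bot hS))
  obtain ⟨l₂, hl₂, a2⟩ := f.exists_line_ne hR.mem.Zc
    (Zc_ne_bot hR.pg.isNilpotent (c.maxQ_ne_bot hR))
  obtain ⟨x, x₁, x₂, hx⟩ := f.meet hl₁ hl₂
  obtain ⟨M, hM, a3⟩ := f.exists_max0_pt (hl₁.le x₁) hx
  rcases hall M hM with h | h
  · exact c.symm.allchar hS hM h (ne_bot_of_le (le_inf inf_le_left ((inf_le_inf_left _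
      (cent_le_C1 x₁)).trans ((hS.mem.Zc.cent x (hl₁.le x₁) hx).trans a3))) a1)
      fun H hH => (hall H hH).symm
  · exact c.allchar hR hM h (ne_bot_of_le (le_inf inf_le_left ((inf_le_inf_left _
      (cent_le_C1 x₂)).trans ((hR.mem.Zc.cent x (hl₁.le x₁) hx).trans a3))) a2) hall

end C2

namespace C2U

omit hp [Finite G] in
theorem full (c : C2U p π q r A θ U) : Full π U :=
  ⟨fun s _ hs => by rcases (c.hπ s).mp hs with rfl | rfl; exacts [c.W, c.b],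
    q, r, hq.out, hr.out, c.ne.symm, (c.hπ q).mpr (Or.inl rfl), (c.hπ r).mpr (Or.inr rfl)⟩

theorem uq (c : C2U p π q r A θ U) (hY : Mem p A θ Y) (h1 : OpOf q U ⊓ Y ≠ ⊥)
    (h2 : OpOf r U ⊓ Y ≠ ⊥) : Y ≤ U := by
  obtain ⟨N, b2, hN, b3⟩ := exists_maximal_subgroup (P := Mem p A θ) hY
  replace h1 := ne_bot_of_le (inf_le_inf_left _ b2) h1
  replace h2 := ne_bot_of_le (inf_le_inf_left _ b2) h2
  have h3 := arr_of_le (c.fit_le hN (c.c.pq c.hU c.full hN c.ne h1 h2)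
    (c.c.pq c.hU c.full hN c.ne.symm h2 h1))
  have h4 := h3.b1' hN.sol h1
  have h5 := h3.b1' hN.sol h2
  have hL := c.c.loc_max hN b3 c.hU.mem
  rwa [c.c.uq_max c.hU c.full hN b3 (arr_of_le (c.fit_le c.hU.mem
    (h3.b3 hL c.hU.mem.sol h4 h5 c.ne.symm) (h3.b3 hL c.hU.mem.sol h5 h4 c.ne)))]

theorem ach (c : C2U p π q r A θ U) (hN : Max0 p A θ N) (h1 : OpOf q U ⊓ N ≠ ⊥) (h : ¬ N ≤ U) :
    OpOf r N = ⊥ := by
  by_contra h0
  have m1 := c.c.f.sup_q (hN.mem.OpOf r) (OpOf_isPGroup N) (hN.c0_OpOf r) (c.hU.mem.OpOf r)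
    (OpOf_isPGroup U) (c.hU.c0_OpOf r)
  have h2 : OpOf r N ≤ U := le_trans (le_sup_of_le_left le_sup_left) (c.uq (c.c.f.sup m1
    ((c.hU.mem.OpOf q).inf hN.mem.norm) (le_normalizer_sup ((OpOf_nrm r N).le_norm inf_le_right)
      ((OpOf_nrm r U).le_norm (inf_le_left.trans (OpOf_le U)))))
    (ne_bot_of_le (le_inf inf_le_left le_sup_right) h1)
    (ne_bot_of_le (le_inf le_rfl (le_sup_of_le_left le_sup_right)) c.b))
  exact h (c.uq hN.mem h1 (ne_bot_of_le (le_inf inf_le_left (c.c.loc_OpOf hN h0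
    ((c.hU.mem.OpOf r).inf_cent (hN.mem.OpOf r).norm) (inf_le_right.trans (cent_le_norm _))))
    (inf_centralizer_ne_bot (OpOf_isPGroup N) (OpOf_isPGroup U) ((OpOf_nrm r U).le_norm h2) c.b)))

theorem kst (c : C2U p π q r A θ U) (hL : Mem p A θ L) (h1 : L ≤ 𝐂(OpOf r U))
    (h2 : OpOf q U ⊓ L ≠ ⊥) (hY : Mem p A θ Y) (h : Y ≤ 𝐍(L)) : Y ≤ U := by
  obtain ⟨V, hV, b1⟩ := c.c.hL L hL (ne_bot_of_le inf_le_right h2)
  exact (b1 Y hY h).trans (c.uq hV (ne_bot_of_le (inf_le_inf_left _ (b1 L hL le_normalizer)) h2)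
    (ne_bot_of_le (le_inf le_rfl (b1 _ (c.hU.mem.OpOf r)
      ((cent_comm.mp h1).trans (cent_le_norm _)))) c.b))

omit hq in
theorem Z_cent (c : C2U p π q r A θ U) (hR : MaxQ p A θ r R) : Zc R ≤ 𝐂(OpOf r U) :=
  le_cent_of_le (Zc_le_cent R)
    (c.c.f.le_maxQ hR (c.hU.mem.OpOf r) (OpOf_isPGroup U) (c.hU.c0_OpOf r))

omit hq in
theorem Z_le_U (c : C2U p π q r A θ U) (hR : MaxQ p A θ r R) : Zc R ≤ U :=
  c.c.loc_OpOf c.hU c.b hR.mem.Zc ((c.Z_cent hR).trans (cent_le_norm _))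

theorem cE (c : C2U p π q r A θ U) (hR : MaxQ p A θ r R) (nR : ¬ R ≤ U) (hE : E ≤ Zc R)
    (h0 : E ≠ ⊥) (hA : A ≤ 𝐍(E)) : OpOf q U ⊓ 𝐂(E) = ⊥ := by
  by_contra h
  obtain ⟨V, hV, b1⟩ := c.c.hL E (hR.mem.Zc.sub hE hA) h0
  refine nR ((b1 R hR.mem (le_norm_of_le_Zc hE)).trans (c.uq hV (ne_bot_of_le (le_inf inf_le_left
    (b1 _ ((c.hU.mem.OpOf q).inf_cent hA) (inf_le_right.trans (cent_le_norm _)))) h)
    (ne_bot_of_le (le_inf le_rfl (b1 _ (c.hU.mem.OpOf r) ((cent_comm.mp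
      (hE.trans (c.Z_cent hR))).trans (cent_le_norm _)))) c.b)))

theorem fpfZ (c : C2U p π q r A θ U) (hR : MaxQ p A θ r R) (nR : ¬ R ≤ U) (hy : y ∈ A)
    (h1 : y ≠ 1) (h : OpOf q U ⊓ C1 y = ⊥) : Zc R ≤ C1 y := by
  have hyA := zpowers_le.mpr hy
  have mZ := hR.mem.Zc
  have hn := hyA.trans mZ.norm
  have hE := comm_le_left hn
  have hA := le_normalizer_commutator mZ.norm (le_norm_of_isComm c.c.f.ab.1 le_rfl hyA)
  rw [← cent_zpowers, ← comm_eq_bot_iff]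
  by_contra h0
  have h2 := c.cE hR nR hE h0 hA
  rw [inf_eq_left.mpr (cent_comm.mp (c.c.f.fpf hy h1 (hA hy) (cent_zpowers y ▸
    coprime_abel_cent_TI hn (c.c.f.cop mZ.cop hyA) (Zc_isComm R))
    ((OpOf_nrm q U).le_norm (hE.trans (c.Z_le_U hR))) (c.hU.mem.OpOf q)
    (coprime_of_pgroups (OpOf_isPGroup U) (hR.pg.to_le (hE.trans (Zc_le R))) c.ne) h))] at h2
  exact c.W h2

end C2U

end Cfsg.Agent.Sig
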