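/- Solvable signalizer functors: two primes, second part. -/
import Cfsg.Agent.Lib.Sig.TwoA

set_option autoImplicit false
set_option linter.style.haveILetI false

namespace Cfsg.Agent.Sig

open Subgroup Cfsg.Agent.Lib.Core Cfsg.Agent.FT
open scoped Cfsg.Agent.Lib.Glaub commutatorElement

variable {G : Type*} [Group G]
variable {p q r s : ℕ} {π : Finset ℕ} {A l M N H U X Y K W R S E L : Subgroup G}
  {θ : G → Subgroup G} {a x y : G}
variable [hp : Fact p.Prime] [Finite G] [hq : Fact q.Prime] [hr : Fact r.Prime]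

omit hq hr in
theorem SF.mem_zpowers (f : SF p π A θ) (hl : Line p A l) (ha : a ∈ l) (h1 : a ≠ 1) (hy : y ∈ l)
    (haK : a ∈ K) (hyK : y ∈ K) (h : ¬ l ≤ K) : y ∈ zpowers a := by
  by_contra h0
  have h2 : (zpowers a).relIndex l = p := by
    have := card_mul_relIndex (zpowers_le.mpr ha)
    rw [hl.card, f.card_zpowers (hl.le ha) h1, pow_two] at this
    exact Nat.eq_of_mul_eq_mul_left hp.out.pos this
  exact h (((maxIn_of_prime_relIndex (zpowers_le.mpr ha) (h2 ▸ hp.out)).sup_eq (by simpa using h0)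
    (zpowers_le.mpr hy)).ge.trans (sup_le (zpowers_le.mpr haK) (zpowers_le.mpr hyK)))

namespace C2U

theorem badline (c : C2U p π q r A θ U) (hR : MaxQ p A θ r R) (nR : ¬ R ≤ U)
    (hno : ∀ x ∈ A, x ≠ 1 → ¬ θ x ≤ U → OpOf q U ⊓ C1 x ≠ ⊥ → Zc R ⊓ C1 x = ⊥)
    (hl : Line p A l) (hb : ¬ Cl θ l ≤ U) :
    ∃ y ∈ l, y ≠ 1 ∧ OpOf q U ⊓ C1 y = ⊥ ∧ OpOf r U ≤ C1 y := by
  have f := c.c.f
  have bad : ∀ a ∈ l, a ≠ 1 → ¬ θ a ≤ U := fun a ha h1 h => hb ((Cl_le ha h1).trans h)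
  have hZ := Zc_ne_bot hR.pg.isNilpotent (c.maxQ_ne_bot hR)
  obtain ⟨y, hy, y1, a1⟩ := f.exists_pt_ne hl hR.mem.Zc hZ
  obtain ⟨x, hx, x1, a2⟩ := f.exists_pt_ne hl (c.hU.mem.OpOf q) c.W
  have a3 : OpOf q U ⊓ C1 y = ⊥ := by_contra fun h => a1 (hno y (hl.le hy) y1 (bad y hy y1) h)
  refine ⟨y, hy, y1, a3, f.gen_pt hl (c.hU.mem.OpOf r).norm (c.hU.mem.OpOf r).cop
    fun a ha h1 => ?_⟩
  by_cases h : OpOf q U ⊓ C1 a = ⊥
  · refine inf_le_right.trans (C1_le_C1_of_mem_zpowers (f.mem_zpowers hl ha h1 hy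
      (le_C1_iff.mp (c.fpfZ hR nR (hl.le ha) h1 h)) (le_C1_iff.mp (c.fpfZ hR nR (hl.le hy) y1 a3))
      fun h2 => hZ ?_))
    rw [← hno x (hl.le hx) x1 (bad x hx x1) a2, inf_eq_left.mpr (le_C1_iff.mpr (h2 hx))]
  · by_contra h2
    exact bad a ha h1 (c.uq (f.mem a (hl.le ha) h1) (ne_bot_of_le (le_inf inf_le_left
      ((c.hU.mem.OpOf q).cent a (hl.le ha) h1)) h) (ne_bot_of_le (le_inf inf_le_left
      ((c.hU.mem.OpOf r).cent a (hl.le ha) h1)) fun h3 => h2 (h3 ▸ bot_le)))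

omit hp hr in
theorem norm_not_le {V Q : Subgroup G} (hV : IsPGroup q V) (hQ : IsPGroup q Q) (hn : Q ≤ 𝐍(V))
    (hQU : Q ≤ U) (h : V ⊓ U ≤ Q) (hVU : ¬ V ≤ U) : ¬ V ⊓ 𝐍(Q) ≤ U := fun h0 => by
  have h1 := lt_inf_normalizer_of_isPGroup (isPGroup_sup_of_le_normalizer hQ hV hn)
    (left_lt_sup.mpr fun h => hVU (h.trans hQU))
  rw [sup_inf_of_le_normalizer_right le_normalizer hn] at h1
  exact h1.not_ge (sup_le le_rfl ((le_inf inf_le_left h0).trans h))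

theorem pair (c : C2U p π q r A θ U) (hN : Max0 p A θ N) (h1 : OpOf q U ⊓ N ≠ ⊥) (h : ¬ N ≤ U) :
    ∃ Q Y, Mem p A θ Q ∧ Q ≤ U ∧ OpOf q U ⊓ Q ≠ ⊥ ∧ Mem p A θ Y ∧ Y ≤ 𝐍(Q) ∧ ¬ Y ≤ U := by
  by_cases hV : OpOf q N ≤ U
  · refine ⟨_, N, hN.mem.OpOf q, hV, fun h0 => h1 (eq_bot_iff.mpr (h0 ▸ le_inf inf_le_left
      ((le_inf inf_le_right ?_).trans (c.cent hN.mem (c.ach hN h1 h))))), hN.mem,
      (OpOf_nrm q N).2, h⟩
    exact cent_of_inf inf_le_left le_rfl ((OpOf_nrm q N).le_norm inf_le_right)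
      ((OpOf_nrm q U).le_norm hV) h0
  have hQU : OpOf q U ⊓ N ⊔ OpOf q N ⊓ U ≤ U := sup_le (inf_le_left.trans (OpOf_le U)) inf_le_right
  have mQ := c.hU.mem.sub hQU (le_normalizer_sup ((c.hU.mem.OpOf q).inf hN.mem.norm).norm
    ((hN.mem.OpOf q).inf c.hU.mem.norm).norm)
  refine ⟨_, _, mQ, hQU, ne_bot_of_le (le_inf inf_le_left le_sup_left) h1,
    (hN.mem.OpOf q).inf_norm mQ.norm, inf_le_right, norm_not_le (OpOf_isPGroup N)
      (isPGroup_sup_of_le_normalizer ((OpOf_isPGroup U).to_le inf_le_left)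
        ((OpOf_isPGroup N).to_le inf_le_left) (le_normalizer_inf ((OpOf_nrm q N).le_norm
          inf_le_right) ((inf_le_left.trans (OpOf_le U)).trans le_normalizer)))
      ((OpOf_nrm q N).le_norm (sup_le inf_le_right (inf_le_left.trans (OpOf_le N)))) hQU
      le_sup_right hV⟩

theorem claimA (c : C2U p π q r A θ U) (hR : MaxQ p A θ r R) (nR : ¬ R ≤ U) :
    ∃ x ∈ A, x ≠ 1 ∧ ¬ θ x ≤ U ∧ OpOf q U ⊓ C1 x ≠ ⊥ ∧ Zc R ⊓ C1 x ≠ ⊥ := by
  by_contra hno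
  push Not at hno
  have f := c.c.f
  have mW := c.hU.mem.OpOf q
  obtain ⟨l₀, hl₀, a1⟩ := c.c.bad_line c.hU.mem
  obtain ⟨x, hx, x1, a2⟩ := f.exists_pt_ne hl₀ mW c.W
  obtain ⟨N, hN, a3⟩ := f.exists_max0_pt (hl₀.le hx) x1
  obtain ⟨Q, Y, mQ, b1, b2, mY, b3, b4⟩ := c.pair hN (ne_bot_of_le (le_inf inf_le_left
    ((mW.cent x (hl₀.le hx) x1).trans a3)) a2) fun h => a1 ((Cl_le hx x1).trans (a3.trans h))
  obtain ⟨l, hl, b5⟩ := f.exists_line_not_le mY b4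
  obtain ⟨y, hy, -, d1, d2⟩ := c.badline hR nR hno hl fun h => b5 ((mY.inf_le_Cl hl.le).trans h)
  have hyA := zpowers_le.mpr (hl.le hy)
  refine b5 (c.kst (L := ⁅Q, zpowers y⁆) (mQ.sub (comm_le_left (hyA.trans mQ.norm))
    (le_normalizer_commutator mQ.norm (le_norm_of_isComm f.ab.1 le_rfl hyA)))
    (comm_le_cent ((OpOf_nrm r U).le_norm b1) (zpowers_le.mpr (le_C1_iff.mp d2)))
    (ne_bot_of_le (le_inf inf_le_left ((le_comm_of_fpf ((mW.inf mQ.norm).norm (hl.le hy))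
      (eq_bot_iff.mpr (d1 ▸ inf_le_inf_right _ inf_le_left))).trans
      (commutator_mono inf_le_right le_rfl))) b2) (mY.inf (f.norm_cent hl.le))
    (le_normalizer_commutator (inf_le_left.trans b3) ((inf_le_right.trans
      (cent_anti (zpowers_le.mpr hy))).trans (cent_le_norm _))))

/-- maximal members above the points of a bad line which meet `O_r(U)` -/
theorem exists_Ny (c : C2U p π q r A θ U) (hR : MaxQ p A θ r R) (hl : Line p A l)
    (hb : ¬ Cl θ l ≤ U) (hy : y ∈ l) (y1 : y ≠ 1) (h : OpOf r U ⊓ C1 y ≠ ⊥) :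
    ∃ N, Max0 p A θ N ∧ θ y ≤ N ∧ Zc R ≤ ZOp r N := by
  obtain ⟨N, hN, a3⟩ := c.c.f.exists_max0_pt (hl.le hy) y1
  exact ⟨N, hN, a3, c.Z_le hR hN (c.symm.ach hN (ne_bot_of_le (le_inf inf_le_left
    (((c.hU.mem.OpOf r).cent y (hl.le hy) y1).trans a3)) h)
    fun h => hb ((Cl_le hy y1).trans (a3.trans h)))⟩

theorem maxQ_le (c : C2U p π q r A θ U) (hR : MaxQ p A θ r R) : R ≤ U := by
  by_contra nR
  have f := c.c.f
  have mW := c.hU.mem.OpOf q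
  have mb := c.hU.mem.OpOf r
  obtain ⟨x, hx, x1, a1, a2, hE0⟩ := c.claimA hR nR
  obtain ⟨H, hH, a3⟩ := f.exists_max0_pt hx x1
  have hHU : ¬ H ≤ U := fun h => a1 (a3.trans h)
  have hW0 := ne_bot_of_le (le_inf inf_le_left ((mW.cent x hx x1).trans a3)) a2
  have hH0 := c.ach hH hW0 hHU
  have mE := hR.mem.Zc.inf (f.norm_C1 hx)
  have hEH := (hR.mem.Zc.cent x hx x1).trans a3
  have hEZ : Zc R ⊓ C1 x ≤ Zc R := inf_le_left
  generalize Zc R ⊓ C1 x = E at *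
  have mV := hH.mem.OpOf q
  have hEr : IsPGroup r E := hR.pg.to_le (hEZ.trans (Zc_le R))
  have hEU := hEZ.trans (c.Z_le_U hR)
  have hEb := hEZ.trans (c.Z_cent hR)
  have nL := OppPOf_nrm r H
  have hP := (f.syl hR hH.mem hH.c0_norm).inf_normal nL.1 nL.2
  have hPE : R ⊓ H ⊓ OppPOf r H ≤ 𝐂(E) :=
    (inf_le_left.trans inf_le_left).trans (le_cent_of_le (le_cent_Zc R) hEZ)
  have hEL := (le_inf hEH (cent_comm.mp hPE)).trans (solvable_p_constrained hH.mem.sol hP)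
  have hO : OppOf r H = OpOf q H := le_antisymm (le_OpOf (OppOf_le H) (OppOf_nrm r H).2
    (isPi_singleton_iff.mp fun s hs hd => by
      rcases c.isPi (hH.mem.char (OppOf_le H) (le_normalizer_OppOf le_rfl)) s hs hd with rfl | rfl
      exacts [rfl, absurd hd (OppOf_not_dvd H)])) (OpOf_le_OppOf c.ne.symm H)
  have hL := hP.sup_OppOf
  rw [hO] at hL
  have hWE : OpOf q U ⊓ H ≤ ⁅OpOf q U ⊓ H, E⁆ := eq_comm_of_cent c.ne
    ((OpOf_isPGroup U).to_le inf_le_left) hEr (le_normalizer_inf ((OpOf_nrm q U).le_norm hEU)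
      (hEH.trans le_normalizer)) (eq_bot_iff.mpr (c.cE hR nR hEZ hE0 mE.norm ▸
        inf_le_inf_right _ inf_le_left))
  have hWV : OpOf q U ⊓ H ≤ OpOf q H := by
    have h1 := hWE.trans ((commutator_mono inf_le_right hEL).trans (comm_le_right nL.2))
    have h2 : IsSyl q (OpOf q H) (OppPOf r H) := by
      refine ⟨hL ▸ le_sup_right, OpOf_isPGroup H, ?_⟩
      rw [← hL, sup_comm, relIndex_sup_of_le_normalizer' ((OpOf_nrm q H).le_norm
        (hP.le.trans nL.1))]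
      exact fun h => not_dvd_card_of_isPGroup hP.isPGroup c.ne (h.trans (relIndex_dvd_card' _ _))
    exact h2.le_of_le_normalizer' ((OpOf_isPGroup U).to_le inf_le_left) h1
      ((OpOf_nrm q H).le_norm inf_le_right)
  have hEV := (OpOf_nrm q H).le_norm hEH
  -- the basic use of `kst`
  have key : ∀ Q E' Y, Mem p A θ Q → Q ≤ U → OpOf q U ⊓ H ≤ Q → A ≤ 𝐍(E') → E ≤ E' →
      E' ≤ 𝐍(Q) → E' ≤ 𝐂(OpOf r U) → Mem p A θ Y → Y ≤ 𝐍(Q) → Y ≤ 𝐍(E') → Y ≤ U :=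
    fun Q E' Y b1 b2 b3 b4 b5 b6 b7 b8 b9 b10 => c.kst (L := ⁅Q, E'⁆) (b1.sub (comm_le_left b6)
      (le_normalizer_commutator b1.norm b4)) (comm_le_cent ((OpOf_nrm r U).le_norm b2) b7)
      (ne_bot_of_le (le_inf inf_le_left (hWE.trans (commutator_mono b3 b5))) hW0) b8
      (le_normalizer_commutator b9 b10)
  by_cases hV : OpOf q H ≤ U
  swap
  · have mQ := mV.inf c.hU.mem.norm
    have mY := mV.inf_norm mQ.norm
    obtain ⟨l, hl, b1⟩ := f.exists_line_not_le mY (norm_not_le (OpOf_isPGroup H)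
      ((OpOf_isPGroup H).to_le inf_le_left) (inf_le_left.trans le_normalizer) inf_le_right le_rfl hV)
    have b2 := mY.inf_le_Cl hl.le
    obtain ⟨y, hy, y1, b3⟩ := f.exists_pt_ne hl mb c.b
    obtain ⟨N, hN, b4, b5⟩ := c.exists_Ny hR hl (fun h => b1 (b2.trans h)) hy y1 b3
    refine b1 (key _ E _ mQ inf_le_right (le_inf hWV (inf_le_left.trans (OpOf_le U))) mE.norm le_rfl
      (le_normalizer_inf hEV (hEU.trans le_normalizer)) hEb (mY.inf (f.norm_cent hl.le))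
      (inf_le_left.trans inf_le_right) (le_trans ?_ (cent_le_norm _)))
    exact cent_of_inf (inf_le_left.trans inf_le_left) (hEZ.trans (b5.trans (ZOp_le_OpOf N)))
      ((OpOf_nrm r N).le_norm (b2.trans ((Cl_le hy y1).trans b4))) hEV
      (pq_inf c.ne (OpOf_isPGroup H) (OpOf_isPGroup N))
  have hLU : OppPOf r H ≤ U := hL ▸ sup_le (key _ E _ mV hV hWV mE.norm le_rfl hEV hEb
    ((hR.mem.inf hH.mem.norm).inf (le_normalizer_OppPOf hH.mem.norm))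
    ((OpOf_nrm q H).le_norm (hP.le.trans nL.1)) (hPE.trans (cent_le_norm _))) hV
  obtain ⟨l, hl, b1⟩ := f.exists_line_not_le hH.mem hHU
  have mC := hH.mem.inf (f.norm_cent hl.le)
  have b2 := hH.mem.inf_le_Cl hl.le
  have hC : H ⊓ 𝐂(l) ≤ H := inf_le_left
  generalize H ⊓ 𝐂(l) = C at *
  have hE' : ncl C E ≤ OppPOf r H := ncl_le hEL (nL.le_norm hC)
  have hA' := le_norm_ncl mC.norm mE.norm
  by_cases b3 : ncl C E ≤ 𝐂(OpOf r U)
  · exact b1 (key _ _ _ mV hV hWV hA' le_ncl ((OpOf_nrm q H).le_norm (hE'.trans nL.1)) b3 mC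
      ((OpOf_nrm q H).le_norm hC) self_le_norm_ncl)
  obtain ⟨y, hy, y1, b4⟩ := f.exists_pt_not_le hl mb (mt cent_comm.mp b3)
  obtain ⟨N, hN, b5, b6⟩ := c.exists_Ny hR hl (fun h => b1 (b2.trans h)) hy y1
    fun h => b4 (h ▸ bot_le)
  have hCN := b2.trans ((Cl_le hy y1).trans b5)
  have nZ : N ≤ 𝐍(ZOp r N) := le_normalizer_ZOp le_normalizer
  have b7 : OpOf r U ⊓ ZOp r N ≠ ⊥ := fun h => b4 (cent_of_inf inf_le_left
    (ncl_le (hEZ.trans b6) (hCN.trans nZ)) (((mb.cent y (hl.le hy) y1).trans b5).trans nZ)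
    ((OpOf_nrm r U).le_norm (hE'.trans hLU)) h)
  have mB := hN.mem.OpOf r
  have b8 := c.c.uq0 c.hU c.full (inf_le_left.trans (OpOf_le_fittingOf U)) b7
    (le_normalizer_inf mb.norm (le_normalizer_ZOp hN.mem.norm)) mB
    ((cent_comm.mp (inf_le_right.trans inf_le_right)).trans (cent_le_norm _))
  refine b1 (le_sup_right.trans (c.uq (f.sup (c.hU.mem.sub (sup_le hV b8)
    (le_normalizer_sup mV.norm mB.norm)) mC (le_normalizer_sup ((OpOf_nrm q H).le_norm hC)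
      ((OpOf_nrm r N).le_norm hCN))) (ne_bot_of_le (le_inf inf_le_left
        (hWV.trans (le_sup_of_le_left le_sup_left))) hW0) (ne_bot_of_le (inf_le_inf_left _
          ((ZOp_le_OpOf N).trans (le_sup_of_le_left le_sup_right))) b7)))

end C2U

theorem C2.false (c : C2 p π q r A θ) : False := by
  obtain ⟨U, c⟩ := c.exists_U
  obtain ⟨S, hS⟩ := exists_maxQ' (p := p) (A := A) (θ := θ) q
  obtain ⟨R, hR⟩ := exists_maxQ' (p := p) (A := A) (θ := θ) r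
  refine c.c.nc ⟨U, c.hU.mem, fun a ha h1 => ?_⟩
  have m := c.c.f.mem a ha h1
  have hn := (Cl_le (θ := θ) ha h1).trans le_normalizer
  exact le_of_two (c.isPi m) (c.c.f.syl hS m hn) (c.c.f.syl hR m hn)
    (inf_le_left.trans (c.symm.maxQ_le hS)) (inf_le_left.trans (c.maxQ_le hR))

end Cfsg.Agent.Sig
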