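/- Solvable signalizer functors: at least three primes, first part. -/
import Cfsg.Agent.Lib.Sig.TwoB

set_option autoImplicit false
set_option linter.style.haveILetI false

namespace Cfsg.Agent.Sig

open Subgroup Cfsg.Agent.Lib.Core Cfsg.Agent.FT
open scoped Cfsg.Agent.Lib.Glaub commutatorElement

variable {G : Type*} [Group G]

structure C3 (p : ℕ) (π : Finset ℕ) (A : Subgroup G) (θ : G → Subgroup G) (M : ℕ → Subgroup G) :
    Prop where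
  c : Ctx p π A θ
  mx : ∀ u ∈ π, Max0 p A θ (M u)
  le : ∀ u ∈ π, ∀ K, Mem p A θ K → Cl θ A ≤ 𝐍(K) → IsPi {u}ᶜ K → K ≤ M u

/-- `O_s(M_u) ∩ O_s(M_v)` -/
abbrev KK (M : ℕ → Subgroup G) (s u v : ℕ) : Subgroup G := OpOf s (M u) ⊓ OpOf s (M v)

variable {p q r s t u v w : ℕ} {π : Finset ℕ} {A N H U X Y E L : Subgroup G}
  {θ : G → Subgroup G} {M : ℕ → Subgroup G}
variable [hp : Fact p.Prime] [Finite G]

namespace C3

theorem leq [Fact s.Prime] (c : C3 p π A θ M) (hu : u ∈ π) (h : s ≠ u) (hX : Mem p A θ X)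
    (hs : IsPGroup s X) (h0 : Cl θ A ≤ 𝐍(X)) : X ≤ M u :=
  c.le u hu X hX h0 (isPi_of_isPGroup hs h)

theorem Ople [Fact s.Prime] (c : C3 p π A θ M) (hu : u ∈ π) (h : s ≠ u) (hH : Mem p A θ H)
    (h0 : Cl θ A ≤ 𝐍(H)) : OpOf s H ≤ M u :=
  c.leq hu h (hH.OpOf s) (OpOf_isPGroup H) (le_normalizer_OpOf h0)

theorem Ople' [Fact s.Prime] (c : C3 p π A θ M) (hu : u ∈ π) (h : s ≠ u) (hH : Max0 p A θ H) :
    OpOf s H ≤ M u := c.Ople hu h hH.mem hH.c0_norm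

theorem fitle (c : C3 p π A θ M) (hu : u ∈ π) (hH : Max0 p A θ H) (h : OpOf u H = ⊥) :
    fittingOf H ≤ M u := fittingOf_le_of_forall_OpOf fun s hs => by
  haveI := Fact.mk hs
  by_cases hsu : s = u
  · rw [hsu, h]; exact bot_le
  · exact c.Ople' hu hsu hH

theorem ne (c : C3 p π A θ M) (hu : u ∈ π) (hv : v ∈ π) (h : u ≠ v) : M u ≠ M v := fun e =>
  c.c.sink' (c.mx u hu) fun s hs _ X h1 h2 h3 => by
    haveI := Fact.mk hs
    by_cases hsu : s = u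
    · exact e ▸ c.leq hv (hsu ▸ h) h1 h2 h3
    · exact c.leq hu hsu h1 h2 h3

theorem memK (c : C3 p π A θ M) (hu : u ∈ π) (hv : v ∈ π) : Mem p A θ (KK M s u v) :=
  ((c.mx u hu).mem.OpOf s).inf ((c.mx v hv).mem.OpOf s).norm

theorem c0K (c : C3 p π A θ M) (hu : u ∈ π) (hv : v ∈ π) : Cl θ A ≤ 𝐍(KK M s u v) :=
  le_normalizer_inf ((c.mx u hu).c0_OpOf s) ((c.mx v hv).c0_OpOf s)

omit hp [Finite G] in
theorem normK (hu : X ≤ M u) (hv : X ≤ M v) : X ≤ 𝐍(KK M s u v) :=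
  le_normalizer_inf ((OpOf_nrm s _).le_norm hu) ((OpOf_nrm s _).le_norm hv)

omit hp [Finite G] in
theorem pgK : IsPGroup s (KK M s u v) := (OpOf_isPGroup _).to_le inf_le_left

variable [hs : Fact s.Prime]

theorem k1 (c : C3 p π A θ M) (hu : u ∈ π) (hv : v ∈ π) (huv : u ≠ v) (hsu : s ≠ u)
    (hsv : s ≠ v) (hU : Max0 p A θ U) : KK M s u v ⊓ U ≤ OpOf s U := by
  refine core1 hU.mem.sol inf_le_right (pgK.to_le inf_le_left) fun t _ _ F h1 h2 h3 => ?_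
  by_cases htu : t = u
  · exact ⟨_, OpOf_isPGroup _, inf_le_left.trans inf_le_right, (OpOf_nrm s _).le_norm
      (c.le v hv F (hU.mem.char h1 h2) (hU.c0_norm.trans h2) (h3.mono (by
        rintro _ (rfl | rfl); exacts [hsv, htu ▸ huv])))⟩
  · exact ⟨_, OpOf_isPGroup _, inf_le_left.trans inf_le_left, (OpOf_nrm s _).le_norm
      (c.le u hu F (hU.mem.char h1 h2) (hU.c0_norm.trans h2) (h3.mono (by
        rintro _ (rfl | rfl); exacts [hsu, htu])))⟩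

theorem k2 (c : C3 p π A θ M) (hu : u ∈ π) (hv : v ∈ π) (huv : u ≠ v) (hsu : s ≠ u)
    (hsv : s ≠ v) (hH : Max0 p A θ H) (h0 : OpOf s H ≠ ⊥) :
    KK M s u v ≤ OpOf s H ∧ fittingOf H ≤ 𝐍(KK M s u v) := by
  have hn : OpOf s H ≤ 𝐍(KK M s u v) := normK (c.Ople' hu hsu hH) (c.Ople' hv hsv hH)
  have h1 : KK M s u v ≤ OpOf s H := by
    by_contra h
    have h1 := lt_inf_normalizer_of_isPGroup (isPGroup_sup_of_le_normalizer (OpOf_isPGroup H)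
      pgK hn) (left_lt_sup.mpr h)
    rw [sup_inf_of_le_normalizer_right le_normalizer hn] at h1
    exact h1.not_ge (sup_le le_rfl ((le_inf inf_le_left (c.c.loc_OpOf hH h0
      ((c.memK hu hv).inf_norm (hH.mem.OpOf s).norm) inf_le_right)).trans
      (c.k1 hu hv huv hsu hsv hH)))
  refine ⟨h1, fittingOf_le_of_forall_OpOf fun t ht => ?_⟩
  haveI := Fact.mk ht
  by_cases hts : t = s
  · exact hts ▸ hn
  · exact (le_cent_of_le (OpOf_le_centralizer_OpOf hts H) h1).trans (cent_le_norm _)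

theorem kmeet (c : C3 p π A θ M) (hu : u ∈ π) (hv : v ∈ π) (huv : u ≠ v) (hsu : s ≠ u)
    (hsv : s ≠ v) (hH : Max0 p A θ H) (h0 : KK M s u v ⊓ H ≠ ⊥) : OpOf s H ≠ ⊥ :=
  ne_bot_of_le (c.k1 hu hv huv hsu hsv hH) h0

theorem kstar (c : C3 p π A θ M) (hu : u ∈ π) (hv : v ∈ π) (huv : u ≠ v) (hsu : s ≠ u)
    (hsv : s ≠ v) (hN : Max0 p A θ N) (h0 : KK M s u v ≠ ⊥)
    (h : ∀ Y, Mem p A θ Y → Y ≤ 𝐍(KK M s u v) → Y ≤ N) : ∃ K ≤ OpOf s N, K ≠ ⊥ ∧ A ≤ 𝐍(K) ∧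
      ∀ H, Max0 p A θ H → K ⊓ H ≠ ⊥ → fittingOf H ≤ N ∧ K ⊓ fittingOf H ≠ ⊥ :=
  ⟨_, (le_inf le_rfl (h _ (c.memK hu hv) le_normalizer)).trans (c.k1 hu hv huv hsu hsv hN), h0,
    (c.memK hu hv).norm, fun H hH h1 => ⟨h _ hH.mem.fitting
      (c.k2 hu hv huv hsu hsv hH (c.kmeet hu hv huv hsu hsv hH h1)).2,
      ne_bot_of_le (le_inf inf_le_left ((c.k1 hu hv huv hsu hsv hH).trans (OpOf_le_fittingOf H)))
        h1⟩⟩

theorem rr (c : C3 p π A θ M) (hu : u ∈ π) (hv : v ∈ π) (hsv : s ≠ v) (h : KK M s u v = ⊥) :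
    OpOf s (M u) ⊓ 𝐂(OpOf u (M v)) = ⊥ := by
  have h1 : OpOf s (M u) ⊓ 𝐂(OpOf u (M v)) ≤ M v := inf_le_left.trans (c.Ople' hv hsv (c.mx u hu))
  refine eq_bot_iff.mpr (h ▸ le_inf inf_le_left (le_OpOf_of_cent (c.mx v hv).mem.sol h1
    ((OpOf_isPGroup _).to_le inf_le_left) fun r hr => ?_))
  haveI := Fact.mk hr
  by_cases hru : r = u
  · exact hru ▸ inf_le_right
  refine cent_of_inf inf_le_left le_rfl ((OpOf_nrm r _).le_norm h1)
    ((OpOf_nrm s _).le_norm (c.Ople' hu hru (c.mx v hv))) ?_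
  by_cases hrs : r = s
  · exact hrs ▸ h
  · exact pq_inf (Ne.symm hrs) (OpOf_isPGroup _) (OpOf_isPGroup _)

theorem k_le (c : C3 p π A θ M) (hu : u ∈ π) (hv : v ∈ π) (huv : u ≠ v) (hsu : s ≠ u)
    (hsv : s ≠ v) (hw : w ∈ π) (hsw : s ≠ w) : KK M s u v ≤ OpOf s (M w) :=
  (le_inf le_rfl (c.leq hw hsw (c.memK hu hv) pgK (c.c0K hu hv))).trans
    (c.k1 hu hv huv hsu hsv (c.mx w hw))

theorem k4 (c : C3 p π A θ M) (hu : u ∈ π) (hv : v ∈ π) (huv : u ≠ v) (hsu : s ≠ u)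
    (hsv : s ≠ v) (hw : w ∈ π) (hsw : s ≠ w) (huw : u ≠ w) (hvw : v ≠ w) : KK M s u v = ⊥ := by
  by_contra h0
  obtain ⟨N, hN, h⟩ := c.c.hL0 (c.memK hu hv) h0 (c.c0K hu hv)
  refine c.c.sink' hN fun t ht _ X h1 h2 h3 => h X h1 ?_
  haveI := Fact.mk ht
  by_cases htu : t = u
  · rw [show KK M s u v = KK M s v w from le_antisymm (le_inf inf_le_right
      (c.k_le hu hv huv hsu hsv hw hsw)) (le_inf (c.k_le hv hw hvw hsv hsw hu hsu) inf_le_left)]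
    exact normK (c.leq hv (htu ▸ huv) h1 h2 h3) (c.leq hw (htu ▸ huw) h1 h2 h3)
  by_cases htv : t = v
  · rw [show KK M s u v = KK M s u w from le_antisymm (le_inf inf_le_left
      (c.k_le hu hv huv hsu hsv hw hsw)) (le_inf inf_le_left (c.k_le hu hw huw hsu hsw hv hsv))]
    exact normK (c.leq hu htu h1 h2 h3) (c.leq hw (htv ▸ hvw) h1 h2 h3)
  · exact normK (c.leq hu htu h1 h2 h3) (c.leq hv htv h1 h2 h3)

end C3

structure T3 (π : Finset ℕ) (s t w : ℕ) : Prop where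
  st : s ≠ t
  sw : s ≠ w
  tw : t ≠ w
  hπ : ∀ r, r ∈ π ↔ r = s ∨ r = t ∨ r = w

omit hp in
theorem T3.hs (h : T3 π s t w) : s ∈ π := (h.hπ s).mpr (Or.inl rfl)
omit hp in
theorem T3.ht (h : T3 π s t w) : t ∈ π := (h.hπ t).mpr (Or.inr (Or.inl rfl))
omit hp in
theorem T3.hw (h : T3 π s t w) : w ∈ π := (h.hπ w).mpr (Or.inr (Or.inr rfl))
omit hp in
theorem T3.swap (h : T3 π s t w) : T3 π s w t :=
  ⟨h.sw, h.st, h.tw.symm, fun r => (h.hπ r).trans (by tauto)⟩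
omit hp in
theorem T3.rot (h : T3 π s t w) : T3 π t w s :=
  ⟨h.tw, h.st.symm, h.sw.symm, fun r => (h.hπ r).trans (by tauto)⟩

theorem T3.fit_le (h : T3 π s t w) (c : Ctx p π A θ) (hH : Mem p A θ H) (h1 : OpOf s H ≤ X)
    (h2 : OpOf t H ≤ X) (h3 : OpOf w H ≤ X) : fittingOf H ≤ X := by
  refine fittingOf_le_of_forall_OpOf fun r hr => ?_
  haveI := Fact.mk hr
  by_cases h0 : OpOf r H = ⊥
  · rw [h0]; exact bot_le
  rcases (h.hπ r).mp (c.tau_mem hH h0) with rfl | rfl | rfl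
  exacts [h1, h2, h3]

theorem T3.opp [Fact s.Prime] [Fact t.Prime] [Fact w.Prime] (h : T3 π s t w) (c : Ctx p π A θ)
    (hH : Mem p A θ H) : OppOf s H ⊓ OppOf t H ≤ OpOf w H := by
  have n := (OppOf_nrm s H).inf (OppOf_nrm t H)
  refine n.le_OpOf (isPi_singleton_iff.mp fun r hr hd => ?_)
  rcases (h.hπ r).mp ((c.f.isPi hH).to_le n.1 r hr hd) with rfl | rfl | rfl
  · exact absurd (hd.trans (card_dvd_of_le inf_le_left)) (OppOf_not_dvd H)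
  · exact absurd (hd.trans (card_dvd_of_le inf_le_right)) (OppOf_not_dvd H)
  · rfl

structure K3 (p : ℕ) (π : Finset ℕ) (A : Subgroup G) (θ : G → Subgroup G) (M : ℕ → Subgroup G)
    (s t w : ℕ) (N : Subgroup G) : Prop extends C3 p π A θ M, T3 π s t w where
  K0 : KK M s t w ≠ ⊥
  hN : Max0 p A θ N
  nK : ∀ Y, Mem p A θ Y → Y ≤ 𝐍(KK M s t w) → Y ≤ N

namespace K3

omit hp [Finite G] in
theorem swap (c : K3 p π A θ M s t w N) : K3 p π A θ M s w t N :=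
  ⟨c.toC3, c.toT3.swap, by rw [KK, inf_comm]; exact c.K0, c.hN, by rw [KK, inf_comm]; exact c.nK⟩

variable [hs : Fact s.Prime] [ht : Fact t.Prime] [hw : Fact w.Prime]

omit ht hw in
theorem fit (c : K3 p π A θ M s t w N) (hH : Max0 p A θ H) (h : OpOf s H ≠ ⊥) : fittingOf H ≤ N :=
  c.nK _ hH.mem.fitting (c.k2 c.ht c.hw c.tw c.st c.sw hH h).2

omit ht hw in
theorem meet (c : K3 p π A θ M s t w N) (hH : Max0 p A θ H) (h : KK M s t w ⊓ H ≠ ⊥) :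
    OpOf s H ≠ ⊥ := c.kmeet c.ht c.hw c.tw c.st c.sw hH h

omit ht hw in
theorem sN (c : K3 p π A θ M s t w N) : OpOf s N ≠ ⊥ :=
  c.meet c.hN (ne_bot_of_le (le_inf le_rfl (c.nK _ (c.memK c.ht c.hw) le_normalizer)) c.K0)

theorem full (c : K3 p π A θ M s t w N) (h1 : OpOf t N ≠ ⊥) (h2 : OpOf w N ≠ ⊥) (hX : Mem p A θ X)
    (hXw : IsPGroup w X) (h0 : Cl θ A ≤ 𝐍(X)) : X ≤ N := by
  have hF : Full π N := ⟨fun r _ hr => by
    rcases (c.hπ r).mp hr with rfl | rfl | rfl; exacts [c.sN, h1, h2],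
    s, t, hs.out, ht.out, c.st.symm, c.hs, c.ht⟩
  obtain ⟨P, mP, hP, cP, a1⟩ := c.c.f.exists_P w
  refine (a1 X hX hXw h0).trans ?_
  by_contra hPN
  have mt := c.mx t c.ht
  have ms := c.mx s c.hs
  have Pt := c.leq c.ht c.tw.symm mP hP cP
  have Ps := c.leq c.hs c.sw.symm mP hP cP
  have st : OpOf s (M t) ≠ ⊥ := ne_bot_of_le inf_le_left c.K0
  have a2 := c.fit mt st
  have a3 := arr_of_le a2
  have a4 := a3.b1' mt.mem.sol (ne_bot_of_le (le_inf le_rfl (c.Ople' c.ht c.tw.symm c.hN)) h2)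
  have hE0 := Nrm.inf_Zc_ne_bot ⟨a1 _ (mt.mem.OpOf w) (OpOf_isPGroup _) (mt.c0_OpOf w),
    (OpOf_nrm w _).le_norm Pt⟩ hP.isNilpotent a4
  have hEs : OpOf w (M t) ⊓ Zc P ≤ OppOf s N := inf_le_left.trans ((le_inf le_rfl
    ((OpOf_le_fittingOf _).trans a2)).trans (a3.b2 (c.c.loc mt c.hN.mem) c.hN.mem.sol st c.sw.symm))
  have mE := (mt.mem.OpOf w).inf mP.Zc.norm
  have hEZ : OpOf w (M t) ⊓ Zc P ≤ Zc P := inf_le_right
  generalize OpOf w (M t) ⊓ Zc P = E at *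
  have hEw := hP.to_le (hEZ.trans (Zc_le P))
  have b1 : E ⊓ OpOf w N = ⊥ := by_contra fun h => hPN (c.c.uq0 c.hN hF
    (inf_le_right.trans (OpOf_le_fittingOf N)) h (mE.inf (c.hN.mem.OpOf w).norm).norm mP
    (le_norm_of_le_Zc (inf_le_left.trans hEZ)))
  have b2 := ne_bot_of_le (le_inf le_rfl (c.Ople' c.hs c.st.symm c.hN)) h1
  have b3 := ne_bot_of_le (le_inf le_rfl (c.Ople' c.hs c.sw.symm c.hN)) h2
  have b4 : OpOf s (M s) = ⊥ := by_contra fun h => by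
    have d1 := arr_of_le (c.fit ms h)
    refine hPN (c.c.b5 ms c.hN d1 h (d1.b1' ms.mem.sol b2) c.st.symm (fun r hr _ => ?_) ▸ Ps)
    haveI := Fact.mk hr
    rcases (c.hπ r).mp (c.c.tau_mem c.hN.mem ‹_›) with rfl | rfl | rfl
    exacts [h, d1.b1' ms.mem.sol b2, d1.b1' ms.mem.sol b3]
  have b5 := c.c.pq c.hN hF ms.mem c.tw b2 b3
  have b6 := c.c.pq c.hN hF ms.mem c.tw.symm b3 b2
  have b7 := arr_of_le (c.toT3.fit_le c.c ms.mem (b4 ▸ bot_le) b5 b6)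
  have hL := c.c.loc ms c.hN.mem
  have b8 := (le_inf le_rfl b5).trans (b7.b2 hL c.hN.mem.sol (b7.b1' ms.mem.sol b3) c.tw)
  have b9 := (le_inf le_rfl b6).trans (b7.b2 hL c.hN.mem.sol (b7.b1' ms.mem.sol b2) c.tw.symm)
  have hEM := (hEZ.trans (Zc_le P)).trans Ps
  refine hPN (c.c.uq0 c.hN hF (X := ⁅OpOf t (M s), E⁆) (le_trans (le_inf
    ((commutator_mono b8 (hEs.trans (OppOf_le N))).trans (comm_le_left (OppOf_nrm w N).2))
    ((commutator_mono b5 hEs).trans (comm_le_right (OppOf_nrm s N).2)))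
    ((c.toT3.rot.rot.opp c.c c.hN.mem).trans (OpOf_le_fittingOf N))) (fun h => hE0 ?_)
    (le_normalizer_commutator (ms.mem.OpOf t).norm mE.norm) mP
    (le_normalizer_commutator ((OpOf_nrm t _).le_norm Ps) (le_norm_of_le_Zc hEZ)))
  have d1 : E ≤ OpOf w (M s) := le_OpOf_of_le_fittingOf hEw ((le_inf hEM (cent_comm.mp
    (c.toT3.fit_le c.c ms.mem (b4 ▸ bot_le) (comm_eq_bot_iff.mp h) ((a1 _ (ms.mem.OpOf w)
      (OpOf_isPGroup _) (ms.c0_OpOf w)).trans (le_cent_of_le (le_cent_Zc P) hEZ))))).trans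
    (cent_sub_Fitting ms.mem.sol))
  exact eq_bot_iff.mpr (b1 ▸ le_inf le_rfl ((le_inf hEs (d1.trans b9)).trans
    (c.toT3.opp c.c c.hN.mem)))

end K3

end Cfsg.Agent.Sig
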