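/- Solvable signalizer functors: at least three primes, second part. -/
import Cfsg.Agent.Lib.Sig.ThreeA

set_option autoImplicit false
set_option linter.style.haveILetI false

namespace Cfsg.Agent.Sig

open Subgroup Cfsg.Agent.Lib.Core Cfsg.Agent.FT
open scoped Cfsg.Agent.Lib.Glaub commutatorElement

variable {G : Type*} [Group G]
variable {p q r s t u v w : ℕ} {π : Finset ℕ} {A N H U X Y E L : Subgroup G}
  {θ : G → Subgroup G} {M : ℕ → Subgroup G}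
variable [hp : Fact p.Prime] [Finite G]
variable [hs : Fact s.Prime] [ht : Fact t.Prime] [hw : Fact w.Prime]

namespace K3

theorem two (c : K3 p π A θ M s t w N) (h1 : OpOf t N ≠ ⊥) (h2 : OpOf w N = ⊥) : False := by
  have ms := c.mx s c.hs
  have mt := c.mx t c.ht
  have mw := c.mx w c.hw
  have sN := c.sN
  have e : N = M w := c.c.b4 c.hN mw (arr_of_le (c.fitle c.hw c.hN h2))
    (arr_of_le (c.fit mw (ne_bot_of_le inf_le_right c.K0))) sN h1 c.st.symm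
  subst e
  have a1 : ∀ H, Max0 p A θ H → OpOf s H ≠ ⊥ → OpOf t (M w) ⊓ H ≠ ⊥ → H = M w := fun H hH b1 b2 => by
    have d1 := arr_of_le (c.fit hH b1)
    refine c.c.b5 hH mw d1 b1 (d1.b1' hH.mem.sol b2) c.st.symm fun r hr b3 => ?_
    haveI := Fact.mk hr
    rcases (c.hπ r).mp (c.c.tau_mem mw.mem b3) with rfl | rfl | rfl
    exacts [b1, d1.b1' hH.mem.sol b2, absurd h2 b3]
  have αs := c.Ople' c.hs c.st.symm mw
  have a2 : OpOf s (M s) = ⊥ := by_contra fun h =>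
    c.ne c.hs c.hw c.sw (a1 _ ms h (ne_bot_of_le (le_inf le_rfl αs) h1))
  by_cases hK : KK M t w s ≠ ⊥
  · obtain ⟨N', hN', b1⟩ := c.c.hL0 (c.memK c.hw c.hs) hK (c.c0K c.hw c.hs)
    have b2 := b1 _ mw.mem.fitting (c.k2 c.hw c.hs c.sw.symm c.tw c.st.symm mw h1).2
    have b3 := a1 _ hN' (c.meet hN' (ne_bot_of_le (le_inf le_rfl (inf_le_right.trans
      ((OpOf_le_fittingOf _).trans b2))) c.K0))
      (ne_bot_of_le (le_inf le_rfl ((OpOf_le_fittingOf _).trans b2)) h1)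
    subst b3
    refine c.c.star mw fun r hr b3 => ?_
    haveI := Fact.mk hr
    rcases (c.hπ r).mp (c.c.tau_mem mw.mem b3) with rfl | rfl | rfl
    exacts [c.kstar c.ht c.hw c.tw c.st c.sw mw c.K0 c.nK,
      c.kstar c.hw c.hs c.sw.symm c.tw c.st.symm mw hK b1, absurd h2 b3]
  have αβ := c.rr c.hw c.hs c.st.symm (not_not.mp hK)
  have st : OpOf s (M t) ≠ ⊥ := ne_bot_of_le inf_le_left c.K0
  have a3 : KK M w s t = ⊥ := eq_bot_iff.mpr (h2 ▸ (le_inf le_rfl (inf_le_right.trans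
    ((OpOf_le_fittingOf _).trans (c.fit mt st)))).trans
    (c.k1 c.hs c.ht c.st c.sw.symm c.tw.symm mw))
  have βγ := c.rr c.hs c.ht c.tw.symm a3
  have γw := c.Ople' c.hw c.sw mt
  have βt := c.Ople' c.ht c.tw.symm ms
  have nα := OpOf_nrm t (M w)
  have nβ := OpOf_nrm w (M s)
  have nγ := OpOf_nrm s (M t)
  have mα := mw.mem.OpOf t
  have mβ := ms.mem.OpOf w
  have mγ := mt.mem.OpOf s
  have βw : ¬ OpOf w (M s) ≤ M w := fun h => h1 (eq_bot_iff.mpr (αβ ▸ le_inf le_rfl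
    (pq_cent c.tw (OpOf_isPGroup _) (OpOf_isPGroup _) (nβ.le_norm αs) (nα.le_norm h))))
  have a4 : ∀ E ≤ OpOf s (M t), E ≤ 𝐂(OpOf t (M w)) → A ≤ 𝐍(E) → Cl θ A ≤ 𝐍(E) →
      OpOf w (M s) ≤ 𝐍(E) → E = ⊥ := fun E b1 b2 b3 b4 b5 => by
    by_contra h
    obtain ⟨N', hN', b6⟩ := c.c.hL0 (mγ.sub b1 b3) h b4
    refine βw (a1 _ hN' (c.meet hN' (ne_bot_of_le (le_inf inf_le_left (b6 _
      ((c.memK c.ht c.hw).inf_cent b3) (inf_le_right.trans (cent_le_norm _))))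
      (inf_centralizer_ne_bot ((OpOf_isPGroup _).to_le b1) C3.pgK
        (C3.normK (b1.trans nγ.1) (b1.trans γw)) c.K0))) (ne_bot_of_le (le_inf le_rfl
          (b6 _ mα ((cent_comm.mp b2).trans (cent_le_norm _)))) h1) ▸ b6 _ mβ b5)
  have a5 : OpOf s (M t) ⊓ M s = ⊥ := by
    have d1 : OpOf s (M t) ⊓ M s ≤ 𝐂(OpOf w (M s)) := cent_of_inf inf_le_left le_rfl
      (nβ.le_norm inf_le_right) (nγ.le_norm βt) (pq_inf c.sw (OpOf_isPGroup _) (OpOf_isPGroup _))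
    refine a4 _ inf_le_left (comm_eq_bot_iff'.mp (eq_bot_iff.mpr (αβ ▸ le_inf (comm_le_left
      (nα.le_norm (inf_le_left.trans γw))) (comm_le_cent (nβ.le_norm αs) d1))))
      (mγ.inf ms.mem.norm).norm (le_normalizer_inf (mt.c0_OpOf s) ms.c0_norm)
      ((cent_comm.mp d1).trans (cent_le_norm _))
  have mZ := mβ.Zc
  have Zβ := Zc_le (OpOf w (M s))
  have a6 : Zc (OpOf w (M s)) ⊓ M w = ⊥ := by
    have d1 : Zc (OpOf w (M s)) ⊓ M w ≤ 𝐂(OpOf t (M w)) := cent_of_inf (inf_le_left.trans Zβ) le_rfl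
      (nα.le_norm inf_le_right) (nβ.le_norm αs)
      (pq_inf c.tw.symm (OpOf_isPGroup _) (OpOf_isPGroup _))
    have d2 := a4 _ (comm_le_left (nγ.le_norm ((inf_le_left.trans Zβ).trans βt)))
      (comm_le_cent (nα.le_norm γw) d1) (le_normalizer_commutator mγ.norm (mZ.inf mw.mem.norm).norm)
      (le_normalizer_commutator (mt.c0_OpOf s) (le_normalizer_inf
        ((ms.c0_OpOf w).trans (norm_le_norm_Zc _)) mw.c0_norm))
      (le_normalizer_commutator (nγ.le_norm βt) (le_norm_of_le_Zc inf_le_left))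
    exact eq_bot_iff.mpr (βγ ▸ le_inf (inf_le_left.trans Zβ) (comm_eq_bot_iff'.mp d2))
  have hZ : Zc (OpOf w (M s)) ≠ ⊥ := Zc_ne_bot (OpOf_isPGroup _).isNilpotent fun h =>
    βw (h ▸ bot_le)
  have pZ := (OpOf_isPGroup (p := w) (M s)).to_le Zβ
  obtain ⟨U, hU, b1, b2, b3⟩ := c.c.f.tri mα mZ mγ ((nβ.le_norm αs).trans (norm_le_norm_Zc _))
    (nγ.le_norm (Zβ.trans βt)) (nα.le_norm γw) (coprime_of_pgroups pZ (OpOf_isPGroup _) c.tw.symm)
    (coprime_of_pgroups (OpOf_isPGroup _) pZ c.sw)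
    (coprime_of_pgroups (OpOf_isPGroup _) (OpOf_isPGroup _) c.st.symm)
    (fun h => hZ (eq_bot_iff.mpr (a6 ▸ le_inf le_rfl (c.c.loc_OpOf mw h1 mZ
      ((cent_comm.mp h).trans (cent_le_norm _))))))
    (fun h => hZ (eq_bot_iff.mpr (βγ ▸ le_inf Zβ h)))
    fun h => st (a4 _ le_rfl h mγ.norm (mt.c0_OpOf s) (nγ.le_norm βt))
  have b4 : OpOf s U = ⊥ := by_contra fun h => b2 (a1 _ hU h b1 ▸ a6)
  have b5 := arr_of_le (c.fitle c.hs hU b4)
  have b6 := b5.b1' hU.mem.sol (ne_bot_of_le (inf_le_inf_right _ Zβ) b2)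
  have b7 : OpOf t U ≠ ⊥ := fun h => (arr_of_le (c.fitle c.ht hU h)).b1' hU.mem.sol b3 b4
  refine b3 (c.c.b5 hU ms b5 b6 b7 c.tw (fun r hr b3 => ?_) ▸ a5)
  haveI := Fact.mk hr
  rcases (c.hπ r).mp (c.c.tau_mem ms.mem b3) with rfl | rfl | rfl
  exacts [absurd a2 b3, b7, b6]

theorem false (c : K3 p π A θ M s t w N) : False := by
  by_cases h1 : OpOf t N = ⊥ <;> by_cases h2 : OpOf w N = ⊥
  · refine c.c.star c.hN fun r hr b3 => ?_
    haveI := Fact.mk hr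
    rcases (c.hπ r).mp (c.c.tau_mem c.hN.mem b3) with rfl | rfl | rfl
    exacts [c.kstar c.ht c.hw c.tw c.st c.sw c.hN c.K0 c.nK, absurd h1 b3, absurd h2 b3]
  · exact c.swap.two h2 h1
  · exact c.two h1 h2
  · refine c.c.sink' c.hN fun r hr hr' X a1 a2 a3 => ?_
    rcases (c.hπ r).mp hr' with rfl | rfl | rfl
    exacts [c.nK X a1 (C3.normK (c.leq c.ht c.st a1 a2 a3) (c.leq c.hw c.sw a1 a2 a3)),
      c.swap.full h2 h1 a1 a2 a3, c.full h1 h2 a1 a2 a3]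

end K3

/-- the cycle `a = O_t(M_s)`, `b = O_s(M_w)`, `c = O_w(M_t)` -/
structure Cy (p : ℕ) (π : Finset ℕ) (A : Subgroup G) (θ : G → Subgroup G) (M : ℕ → Subgroup G)
    (s t w : ℕ) : Prop extends C3 p π A θ M where
  hs : s ∈ π
  ht : t ∈ π
  hw : w ∈ π
  st : s ≠ t
  tw : t ≠ w
  ws : w ≠ s
  a : OpOf t (M s) ≠ ⊥
  b : OpOf s (M w) ≠ ⊥
  c' : OpOf w (M t) ≠ ⊥
  ab : OpOf t (M s) ⊓ 𝐂(OpOf s (M w)) = ⊥
  bc : OpOf s (M w) ⊓ 𝐂(OpOf w (M t)) = ⊥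
  ca : OpOf w (M t) ⊓ 𝐂(OpOf t (M s)) = ⊥

namespace Cy

omit hp [Finite G] hs ht hw in
theorem rot (c : Cy p π A θ M s t w) : Cy p π A θ M w s t :=
  ⟨c.toC3, c.hw, c.hs, c.ht, c.ws, c.st, c.tw, c.b, c.c', c.a, c.bc, c.ca, c.ab⟩

omit hs hw in
theorem nab (c : Cy p π A θ M s t w) : OpOf t (M s) ≤ 𝐍(OpOf s (M w)) :=
  (OpOf_nrm s _).le_norm (c.Ople' c.hw c.tw (c.mx s c.hs))

omit ht in
theorem ba (c : Cy p π A θ M s t w) : OpOf s (M w) ⊓ 𝐂(OpOf t (M s)) = ⊥ :=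
  eq_bot_iff.mpr (c.bc ▸ le_inf inf_le_left (comm_eq_bot_iff'.mp (eq_bot_iff.mpr (c.ca ▸ le_inf
    (comm_le_left (inf_le_left.trans c.rot.nab)) (comm_le_cent c.rot.rot.nab inf_le_right)))))

theorem cyc (c : Cy p π A θ M s t w) (hL : Max0 p A θ L) (ha : OpOf t (M s) ≤ L)
    (hb : OpOf s (M w) ≤ L) (hc : OpOf w (M t) ≤ L) : False := by
  have e1 := eq_comm_of_cent c.ws (OpOf_isPGroup _) (OpOf_isPGroup _) c.rot.nab c.rot.ba
  have e2 := eq_comm_of_cent c.tw (OpOf_isPGroup _) (OpOf_isPGroup _) c.rot.rot.nab c.rot.rot.ba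
  have h1 : OpOf s (M w) ≤ 𝐂(OpOf t L) := pq_cent c.st (OpOf_isPGroup _) (OpOf_isPGroup _)
    ((OpOf_nrm t L).le_norm hb) ((OpOf_nrm s _).le_norm (c.Ople' c.hw c.tw hL))
  refine c.a (eq_bot_iff.mpr (c.ab ▸ le_inf le_rfl (cent_comm.mp (le_cent_of_le h1
    (le_OpOf_of_cent hL.mem.sol ha (OpOf_isPGroup _) fun r hr => ?_)))))
  haveI := Fact.mk hr
  have hn := (OpOf_nrm r L).le_norm ha
  by_cases hrt : r = t
  · subst hrt
    exact e2.trans (comm_le_cent hn (e1.trans (comm_le_cent ((OpOf_nrm r L).le_norm hc) h1)))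
  by_cases hrs : r = s
  · subst hrs
    exact e2.trans (comm_le_cent hn (pq_cent c.ws (OpOf_isPGroup _) (OpOf_isPGroup _)
      ((OpOf_nrm r L).le_norm hc) ((OpOf_nrm w _).le_norm (c.Ople' c.ht c.st hL))))
  · exact pq_cent (Ne.symm hrt) (OpOf_isPGroup _) (OpOf_isPGroup _) hn
      ((OpOf_nrm t _).le_norm (c.Ople' c.hs hrs hL))

theorem tau (c : Cy p π A θ M s t w) (h : T3 π s t w) (hU : Max0 p A θ U)
    (ha : OpOf t (M s) ⊓ U ≠ ⊥) (hb : OpOf s (M w) ⊓ U ≠ ⊥) : OpOf s U ≠ ⊥ := fun h0 => by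
  have a1 := arr_of_le (c.fitle c.hs hU h0)
  have a2 := a1.b1' hU.mem.sol ha
  have a3 : OpOf w U ≠ ⊥ := fun h1 => (arr_of_le (c.fitle c.hw hU h1)).b1' hU.mem.sol hb h0
  have a4 := c.c.b3 hU (c.mx s c.hs).mem a1 a2 a3 c.tw.symm
  have pb := (OpOf_isPGroup (p := s) (M w)).to_le (inf_le_left (b := U))
  have a5 := eq_comm_of_cent c.st pb (OpOf_isPGroup _) (le_normalizer_inf c.nab
    (a4.trans le_normalizer)) (eq_bot_iff.mpr (c.ba ▸ inf_le_inf_right _ inf_le_left))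
  refine hb (eq_bot_iff.mpr (h0 ▸ le_OpOf_of_le_fittingOf pb ((le_inf inf_le_right (cent_comm.mp
    (h.fit_le c.c hU.mem (h0 ▸ bot_le) (cent_comm.mp ?_) (cent_comm.mp ?_)))).trans
    (cent_sub_Fitting hU.mem.sol))))
  · exact cent_of_inf inf_le_left le_rfl ((OpOf_nrm t U).le_norm inf_le_right)
      ((OpOf_nrm s _).le_norm (c.Ople' c.hw c.tw hU))
      (pq_inf c.st (OpOf_isPGroup _) (OpOf_isPGroup _))
  · exact a5.trans (comm_le_cent ((OpOf_nrm w U).le_norm inf_le_right) (pq_cent c.tw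
      (OpOf_isPGroup _) (OpOf_isPGroup _) ((OpOf_nrm w U).le_norm a4)
      ((OpOf_nrm t _).le_norm (c.Ople' c.hs c.ws hU))))

theorem a_le (c : Cy p π A θ M s t w) (hU : Max0 p A θ U) (hF : Full π U) : OpOf t (M s) ≤ U :=
  c.c.pq hU hF (c.mx s c.hs).mem c.tw (ne_bot_of_le (le_inf le_rfl (c.Ople' c.hs c.st.symm hU))
    (hF.all t ht.out c.ht)) (ne_bot_of_le (le_inf le_rfl (c.Ople' c.hs c.ws hU))
    (hF.all w hw.out c.hw))

theorem three (c : Cy p π A θ M s t w) (h : T3 π s t w) : False := by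
  obtain ⟨U, hU, b1, b2, b3⟩ := c.c.f.tri ((c.mx s c.hs).mem.OpOf t) ((c.mx w c.hw).mem.OpOf s)
    ((c.mx t c.ht).mem.OpOf w) c.nab c.rot.nab c.rot.rot.nab
    (coprime_of_pgroups (OpOf_isPGroup _) (OpOf_isPGroup _) c.st)
    (coprime_of_pgroups (OpOf_isPGroup _) (OpOf_isPGroup _) c.ws)
    (coprime_of_pgroups (OpOf_isPGroup _) (OpOf_isPGroup _) c.tw)
    (fun h => c.a (c.ab ▸ (inf_eq_left.mpr h).symm)) (fun h => c.b (c.bc ▸ (inf_eq_left.mpr h).symm))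
    fun h => c.c' (c.ca ▸ (inf_eq_left.mpr h).symm)
  have hF : Full π U := ⟨fun r _ hr => by
    rcases (h.hπ r).mp hr with rfl | rfl | rfl
    exacts [c.tau h hU b1 b2, c.rot.rot.tau h.rot hU b3 b1, c.rot.tau h.rot.rot hU b2 b3],
    s, t, hs.out, ht.out, c.st.symm, c.hs, c.ht⟩
  exact c.cyc hU (c.a_le hU hF) (c.rot.a_le hU hF) (c.rot.rot.a_le hU hF)

end Cy

omit hs ht hw in
theorem C3.false (c : C3 p π A θ M) (hpr : ∀ u ∈ π, u.Prime) (h3 : 3 ≤ π.card) : False := by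
  have third : ∀ s t, ∃ w ∈ π, w ≠ s ∧ w ≠ t := fun s t => by
    by_contra h
    push Not at h
    have := (Finset.card_le_card (show π ⊆ {s, t} from fun w hw => by
      by_cases hws : w = s
      · simp [hws]
      · simp [h w hw hws])).trans Finset.card_le_two
    omega
  have hT : ∀ s ∈ π, ∀ t ∈ π, ∀ w ∈ π, s ≠ t → s ≠ w → t ≠ w →
      T3 π s t w ∨ ∃ u ∈ π, s ≠ u ∧ t ≠ u ∧ w ≠ u := fun s hs t ht w hw a1 a2 a3 => by
    refine or_iff_not_imp_right.mpr fun h => ⟨a1, a2, a3, fun r => ⟨fun hr => ?_, ?_⟩⟩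
    · by_contra h1
      push Not at h1
      exact h ⟨r, hr, h1.1.symm, h1.2.1.symm, h1.2.2.symm⟩
    · rintro (rfl | rfl | rfl); exacts [hs, ht, hw]
  have hK : ∀ s ∈ π, ∀ t ∈ π, ∀ w ∈ π, s ≠ t → s ≠ w → t ≠ w → KK M s t w = ⊥ :=
    fun s hs t ht w hw a1 a2 a3 => by
    haveI := Fact.mk (hpr s hs)
    haveI := Fact.mk (hpr t ht)
    haveI := Fact.mk (hpr w hw)
    rcases hT s hs t ht w hw a1 a2 a3 with h | ⟨u, hu, b1, b2, b3⟩
    · by_contra h0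
      obtain ⟨N, hN, h1⟩ := c.c.hL0 (c.memK ht hw) h0 (c.c0K ht hw)
      exact K3.false ⟨c, h, h0, hN, h1⟩
    · exact c.k4 ht hw a3 a1 a2 hu b1 b2 b3
  obtain ⟨s, hs, t, ht, hts, h0⟩ : ∃ s ∈ π, ∃ t, t.Prime ∧ t ≠ s ∧ OpOf t (M s) ≠ ⊥ := by
    by_contra h
    push Not at h
    obtain ⟨s, hs, -⟩ := third 0 0
    obtain ⟨u, hu, hus, -⟩ := third s s
    obtain ⟨q, hq, h1⟩ := c.c.exists_tau (c.mx s hs)
    have hqs : q = s := by_contra fun h2 => h1 (h s hs q hq h2)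
    subst hqs
    haveI := Fact.mk hq
    exact (arr_of_le (c.fitle hs (c.mx u hu) (h u hu q hq hus.symm))).b1' (c.mx u hu).mem.sol
      (ne_bot_of_le (le_inf le_rfl (c.Ople' hu hus.symm (c.mx q hs))) h1) (h u hu q hq hus.symm)
  haveI := Fact.mk ht
  have ht' := c.c.tau_mem (c.mx s hs).mem h0
  obtain ⟨w, hw, hws, hwt⟩ := third s t
  haveI := Fact.mk (hpr s hs)
  haveI := Fact.mk (hpr w hw)
  have ab := c.rr hs hw hwt.symm (hK t ht' s hs w hw hts hwt.symm hws.symm)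
  have bc := c.rr hw ht' hts.symm (hK s hs w hw t ht' hws.symm hts.symm hwt)
  have ca := c.rr ht' hs hws (hK w hw t ht' s hs hwt hws hts)
  have hb : OpOf s (M w) ≠ ⊥ := fun h => h0 (by simpa [h, cent_bot] using ab)
  have c' : Cy p π A θ M s t w := ⟨c, hs, ht', hw, hts.symm, hwt.symm, hws, h0, hb,
    fun h => hb (by simpa [h, cent_bot] using bc), ab, bc, ca⟩
  rcases hT s hs t ht' w hw hts.symm hws.symm hwt.symm with h | ⟨u, hu, b1, b2, b3⟩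
  · exact c'.three h
  · exact c'.cyc (c.mx u hu) (c.Ople' hu b2 (c.mx s hs)) (c.Ople' hu b1 (c.mx w hw))
      (c.Ople' hu b3 (c.mx t ht'))

end Cfsg.Agent.Sig
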