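/- The solvable signalizer functor theorem. -/
import Cfsg.Agent.Lib.Sig.ThreeB

set_option autoImplicit false
set_option linter.style.haveILetI false

namespace Cfsg.Agent.Sig

open Subgroup Cfsg.Agent.Lib.Core Cfsg.Agent.FT
open scoped Cfsg.Agent.Lib.Glaub commutatorElement

universe u

theorem complete_aux {p : ℕ} [hp : Fact p.Prime] (n : ℕ) : ∀ π : Finset ℕ, π.card = n →
    (∀ u ∈ π, u.Prime) → ∀ (m : ℕ) (G : Type u) [Group G] [Finite G], Nat.card G = m →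
      ∀ (A : Subgroup G) (θ : G → Subgroup G), SF p π A θ → Complete p A θ := by
  induction n using Nat.strong_induction_on with
  | _ n ihn =>
  intro π hπ hpr m
  induction m using Nat.strong_induction_on with
  | _ m ihm =>
  intro G _ _ hG A θ f
  by_contra nc
  have c : Ctx p π A θ := ⟨f, fun X hX h0 => f.quot (fun H _ _ hH A θ f =>
    ihm _ (hG ▸ hH) H rfl A θ f) hX h0, nc⟩
  by_cases h1 : π.card ≤ 1
  · obtain ⟨q, hq, h⟩ : ∃ q, q.Prime ∧ ∀ r ∈ π, r = q := by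
      rcases π.eq_empty_or_nonempty with rfl | ⟨q, hq⟩
      · exact ⟨2, Nat.prime_two, by simp⟩
      · exact ⟨q, hpr q hq, fun r hr => Finset.card_le_one.mp h1 r hr q hq⟩
    haveI := Fact.mk hq
    exact nc (f.complete_of_q (q := q) fun a ha h1 => isPi_singleton_iff.mp
      ((f.pi a ha h1).mono fun r hr => h r hr))
  by_cases h2 : π.card = 2
  · obtain ⟨q, r, hqr, rfl⟩ := Finset.card_eq_two.mp h2
    haveI := Fact.mk (hpr q (by simp))
    haveI := Fact.mk (hpr r (by simp))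
    exact C2.false ⟨c, hqr, by simp⟩
  have key : ∀ u, ∃ M, u ∈ π → Max0 p A θ M ∧
      ∀ K, Mem p A θ K → Cl θ A ≤ 𝐍(K) → IsPi {u}ᶜ K → K ≤ M := fun u => by
    by_cases hu : u ∈ π
    · obtain ⟨D, a1, a2, a3⟩ := f.restrict u fun θ' f' => ihn _
        (hπ ▸ Finset.card_erase_lt_of_mem hu) _ rfl (fun v hv => hpr v (Finset.mem_of_mem_erase hv))
        _ G rfl A θ' f'
      obtain ⟨M, b1, b2⟩ := f.exists_max0 a1 a2
      exact ⟨M, fun _ => ⟨b1, fun K h1 h2 h3 => (a3 K h1 h2 h3).trans b2⟩⟩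
    · exact ⟨⊥, fun h => absurd h hu⟩
  choose M hM using key
  exact C3.false ⟨c, fun u hu => (hM u hu).1, fun u hu => (hM u hu).2⟩ hpr (by omega)

/-- The solvable signalizer functor theorem. -/
theorem solvable_sft {G : Type*} [Group G] [Finite G] {p : ℕ} [hp : Fact p.Prime] {A : Subgroup G}
    (hA : IsElementaryAbelian p A) (hr : p ^ 3 ≤ Nat.card A) {θ : G → Subgroup G}
    (hC : ∀ a ∈ A, a ≠ 1 → θ a ≤ C1 a) (hm : ∀ a ∈ A, a ≠ 1 → Mem p A θ (θ a)) :
    Mem p A θ (⨆ a : {a : G // a ∈ A ∧ a ≠ 1}, θ a) := by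
  obtain ⟨B, hB, hc⟩ := exists_le_card_eq_pow (pow_dvd_card_of_le (abelem_isPGroup hA) hr)
  have res : ∀ {X}, Mem p A θ X → Mem p B θ X := fun h =>
    ⟨hB.trans h.norm, h.sol, h.cop, fun a ha => h.cent a (hB ha)⟩
  have f : SF p (Nat.card G).primeFactors B θ := ⟨abelem_of_le hA hB, hc,
    fun a ha => hC a (hB ha), fun a ha h1 => res (hm a (hB ha) h1), fun a _ _ r hr hd => by
      simpa [hr, Nat.card_pos.ne'] using hd.trans (card_subgroup_dvd_card _)⟩
  obtain ⟨U, hU, h1⟩ := complete_aux _ _ rfl (fun u hu => Nat.prime_of_mem_primeFactors hu) _ G rfl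
    B θ f
  obtain ⟨l, hl⟩ := f.exists_line
  have h2 : (⨆ a : {a : G // a ∈ A ∧ a ≠ 1}, θ a) ≤ U := iSup_le fun a =>
    f.le_of_pts hl (fun b hb => h1 b (hl.le hb)) (res (hm a a.2.1 a.2.2))
  have hn : A ≤ 𝐍((⨆ a : {a : G // a ∈ A ∧ a ≠ 1}, θ a : Subgroup G)) := by
    rw [iSup]
    exact le_norm_sSup fun K ⟨a, e⟩ => e ▸ (hm a a.2.1 a.2.2).norm
  have m := hU.sub h2 (hB.trans hn)
  refine ⟨hn, m.sol, m.cop, fun a ha h1 => ?_⟩
  have n1 : B ≤ 𝐍(C1 a) := by
    rw [← cent_zpowers]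
    exact le_normalizer_centralizer (le_norm_of_isComm hA.1 hB (zpowers_le.mpr ha))
  refine f.gen_pt hl (m.inf n1).norm (m.inf n1).cop fun b hb b1 => ?_
  exact (le_inf ((m.inf n1).cent b (hl.le hb) b1) (inf_le_left.trans inf_le_right)).trans
    ((hm b (hB (hl.le hb)) b1).cent a ha h1)

end Cfsg.Agent.Sig
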